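import Mathlib

/-!
# S2373 (helper13): the lattice side of the `E₆` torus argument - definitions, the root table and basic lemmas

Mathlib only (clone of helper20's `Lib/Helper20/E8TLat.lean`).  `C6` is the Cartan (= Gram) matrix of `E₆` in the numbering
of the simple roots of `chevE6`; `rc v` is the coordinate vector of the root `v < 72` in the basis of the simple roots
(`= chevE6Coroot`); the simple roots are the roots `sIdx i`.  See `plans/S2373_plan.md`.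
-/

set_option autoImplicit false

namespace Cfsg.Agent.E6T

/-- the Cartan matrix of `E₆` (Gram matrix of the simple roots) -/
def C6 : Matrix (Fin 6) (Fin 6) ℤ :=
  !![2, 0, -1, 0, 0, 0;
    0, 2, 0, -1, 0, 0;
    -1, 0, 2, -1, 0, 0;
    0, -1, -1, 2, -1, 0;
    0, 0, 0, -1, 2, -1;
    0, 0, 0, 0, -1, 2]

/-- `3 C6⁻¹` (the adjugate of `C6` divided by `det C6 / 3 = 1`): `C6 * A6 = 3` -/
def A6 : Matrix (Fin 6) (Fin 6) ℤ :=
  !![4, 3, 5, 6, 4, 2;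
    3, 6, 6, 9, 6, 3;
    5, 6, 10, 12, 8, 4;
    6, 9, 12, 18, 12, 6;
    4, 6, 8, 12, 10, 5;
    2, 3, 4, 6, 5, 4]

/-- the coordinates of the `72` roots in the basis of the simple roots, shifted by `3` (natural numbers elaborate
much faster than integers) -/
def rcN : List (List ℕ) :=
  [[2,1,1,0,1,2],
  [2,2,1,0,1,2],
  [2,2,1,1,1,2],
  [2,2,1,1,2,2],
  [2,2,1,1,2,3],
  [2,2,2,1,1,2],
  [2,2,2,1,2,2],
  [2,2,2,1,2,3],
  [2,2,2,2,2,2],
  [2,2,2,2,2,3],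
  [2,2,2,2,3,3],
  [2,3,2,2,2,2],
  [2,3,2,2,2,3],
  [2,3,2,2,3,3],
  [2,3,2,3,3,3],
  [2,3,3,3,3,3],
  [3,2,2,1,1,2],
  [3,2,2,1,2,2],
  [3,2,2,1,2,3],
  [3,2,2,2,2,2],
  [3,2,2,2,2,3],
  [3,2,2,2,3,3],
  [3,2,3,2,2,2],
  [3,2,3,2,2,3],
  [3,2,3,2,3,3],
  [3,2,3,3,3,3],
  [3,3,2,2,2,2],
  [3,3,2,2,2,3],
  [3,3,2,2,3,3],
  [3,3,2,3,3,3],
  [3,3,3,2,2,2],
  [3,3,3,2,2,3],
  [3,3,3,2,3,3],
  [3,3,3,3,2,2],
  [3,3,3,3,2,3],
  [3,3,3,3,3,2],
  [3,3,3,3,3,4],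
  [3,3,3,3,4,3],
  [3,3,3,3,4,4],
  [3,3,3,4,3,3],
  [3,3,3,4,4,3],
  [3,3,3,4,4,4],
  [3,3,4,3,3,3],
  [3,3,4,4,3,3],
  [3,3,4,4,4,3],
  [3,3,4,4,4,4],
  [3,4,3,3,3,3],
  [3,4,3,4,3,3],
  [3,4,3,4,4,3],
  [3,4,3,4,4,4],
  [3,4,4,4,3,3],
  [3,4,4,4,4,3],
  [3,4,4,4,4,4],
  [3,4,4,5,4,3],
  [3,4,4,5,4,4],
  [3,4,4,5,5,4],
  [4,3,3,3,3,3],
  [4,3,4,3,3,3],
  [4,3,4,4,3,3],
  [4,3,4,4,4,3],
  [4,3,4,4,4,4],
  [4,4,4,4,3,3],
  [4,4,4,4,4,3],
  [4,4,4,4,4,4],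
  [4,4,4,5,4,3],
  [4,4,4,5,4,4],
  [4,4,4,5,5,4],
  [4,4,5,5,4,3],
  [4,4,5,5,4,4],
  [4,4,5,5,5,4],
  [4,4,5,6,5,4],
  [4,5,5,6,5,4]]

/-- the coordinate vector of the root `v` -/
def rc (v : ℕ) : Fin 6 → ℤ := fun i => (((rcN.getD v []).getD i.val 3 : ℕ) : ℤ) - 3

/-- the indices of the simple roots -/
def sIdx : Fin 6 → ℕ := ![56, 46, 42, 39, 37, 36]

/-- the inner product -/
def ip (y z : Fin 6 → ℤ) : ℤ := y ⬝ᵥ C6.mulVec z

/-- an integral isometry that permutes the roots and acts trivially on the weight lattice modulo the root lattice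
(`(M - 1) C6⁻¹` is integral) -/
def IsW (M : Matrix (Fin 6) (Fin 6) ℤ) : Prop :=
  M.transpose * C6 * M = C6 ∧ (∀ v < 72, ∃ v' < 72, M.mulVec (rc v) = rc v') ∧
    ∀ i j, (3 : ℤ) ∣ ((M - 1) * A6) i j

/-- the value of the 12th cyclotomic polynomial at a matrix -/
def Phi12M (M : Matrix (Fin 6) (Fin 6) ℤ) : Matrix (Fin 6) (Fin 6) ℤ := M ^ 4 - M ^ 2 + 1

/-- the value of the 3rd cyclotomic polynomial at a matrix -/
def Phi3M (M : Matrix (Fin 6) (Fin 6) ℤ) : Matrix (Fin 6) (Fin 6) ℤ := M ^ 2 + M + 1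

/-- the value of `P = Φ₁₂ Φ₃ = X⁶ + X⁵ - X³ + X + 1` at a matrix -/
def PM (M : Matrix (Fin 6) (Fin 6) ℤ) : Matrix (Fin 6) (Fin 6) ℤ := M ^ 6 + M ^ 5 - M ^ 3 + M + 1

/-- the polynomial `P = Φ₁₂ Φ₃ = X⁶ + X⁵ - X³ + X + 1` -/
noncomputable def Ppoly : Polynomial ℤ :=
  Polynomial.X ^ 6 + Polynomial.X ^ 5 - Polynomial.X ^ 3 + Polynomial.X + 1

/-- an element of the Weyl group whose characteristic polynomial is `Φ₁₂ Φ₃` (a Coxeter element) -/
def IsGood (M : Matrix (Fin 6) (Fin 6) ℤ) : Prop := IsW M ∧ M.charpoly = Ppoly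

/-- the matrix with columns `y, M y, ..., M⁵ y` -/
def krylov (M : Matrix (Fin 6) (Fin 6) ℤ) (y : Fin 6 → ℤ) : Matrix (Fin 6) (Fin 6) ℤ :=
  Matrix.of fun i j => (M ^ j.val).mulVec y i

/-- `Φ₁₂(q)` -/
def m12 (q : ℕ) : ℕ := q ^ 4 - q ^ 2 + 1

/-- `Φ₃(q)` -/
def m3 (q : ℕ) : ℕ := q ^ 2 + q + 1

/-- the order of the torus -/
def mq (q : ℕ) : ℕ := m12 q * m3 q

/-- a prime divisor of `Φ₁₂(q)` -/
structure GoodPrime12 (q r : ℕ) : Prop where
  prime : r.Prime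
  dvd : r ∣ m12 q

/-- the matrix `q - M` -/
def qM (q : ℕ) (M : Matrix (Fin 6) (Fin 6) ℤ) : Matrix (Fin 6) (Fin 6) ℤ := (q : ℤ) • (1 : Matrix (Fin 6) (Fin 6) ℤ) - M

/-- `gcd(3, q - 1)` times the order of `E₆(q)` -/
def ordE6 (q : ℕ) : ℕ :=
  q ^ 36 * (q ^ 2 - 1) * (q ^ 5 - 1) * (q ^ 6 - 1) * (q ^ 8 - 1) * (q ^ 9 - 1) * (q ^ 12 - 1)

theorem C6_transpose : C6.transpose = C6 := by
  decide

theorem ip_comm (y z : Fin 6 → ℤ) : ip y z = ip z y := by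
  unfold ip
  rw [Matrix.dotProduct_mulVec, ← Matrix.mulVec_transpose, C6_transpose, dotProduct_comm]

theorem ip_add_left (y y' z : Fin 6 → ℤ) : ip (y + y') z = ip y z + ip y' z := by
  unfold ip
  rw [add_dotProduct]

theorem ip_add_right (y z z' : Fin 6 → ℤ) : ip y (z + z') = ip y z + ip y z' := by
  unfold ip
  rw [Matrix.mulVec_add, dotProduct_add]

theorem ip_neg_left (y z : Fin 6 → ℤ) : ip (-y) z = -ip y z := by
  unfold ip
  rw [neg_dotProduct]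

theorem ip_neg_right (y z : Fin 6 → ℤ) : ip y (-z) = -ip y z := by
  unfold ip
  rw [Matrix.mulVec_neg, dotProduct_neg]

theorem ip_sub_left (y y' z : Fin 6 → ℤ) : ip (y - y') z = ip y z - ip y' z := by
  rw [sub_eq_add_neg, ip_add_left, ip_neg_left, sub_eq_add_neg]

theorem ip_sub_right (y z z' : Fin 6 → ℤ) : ip y (z - z') = ip y z - ip y z' := by
  rw [sub_eq_add_neg, ip_add_right, ip_neg_right, sub_eq_add_neg]

theorem ip_smul_left (n : ℤ) (y z : Fin 6 → ℤ) : ip (n • y) z = n * ip y z := by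
  unfold ip
  rw [smul_dotProduct, smul_eq_mul]

theorem ip_smul_right (n : ℤ) (y z : Fin 6 → ℤ) : ip y (n • z) = n * ip y z := by
  unfold ip
  rw [Matrix.mulVec_smul, dotProduct_smul, smul_eq_mul]

theorem ip_zero_left (z : Fin 6 → ℤ) : ip 0 z = 0 := by
  unfold ip
  rw [zero_dotProduct]

theorem ip_zero_right (y : Fin 6 → ℤ) : ip y 0 = 0 := by
  unfold ip
  rw [Matrix.mulVec_zero, dotProduct_zero]

theorem qM_mulVec (q : ℕ) (M : Matrix (Fin 6) (Fin 6) ℤ) (y : Fin 6 → ℤ) :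
    (qM q M).mulVec y = (q : ℤ) • y - M.mulVec y := by
  unfold qM
  rw [Matrix.sub_mulVec, Matrix.smul_mulVec, Matrix.one_mulVec]

section K

variable {K : Type*} [Field K]

/-- the character with coordinates `x` at the lattice vector `y` -/
def chiV (x : Fin 6 → Kˣ) (y : Fin 6 → ℤ) : Kˣ := ∏ i, x i ^ y i

/-- `χ ∘ M = χ ^ q` on the roots -/
def Cond (q : ℕ) (M : Matrix (Fin 6) (Fin 6) ℤ) (x : Fin 6 → Kˣ) : Prop :=
  ∀ v < 72, chiV x (M.mulVec (rc v)) = chiV x (rc v) ^ q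

theorem chiV_zero (x : Fin 6 → Kˣ) : chiV x 0 = 1 := by
  simp [chiV]

theorem chiV_add (x : Fin 6 → Kˣ) (y z : Fin 6 → ℤ) : chiV x (y + z) = chiV x y * chiV x z := by
  simp only [chiV, Pi.add_apply, zpow_add, Finset.prod_mul_distrib]

theorem chiV_neg (x : Fin 6 → Kˣ) (y : Fin 6 → ℤ) : chiV x (-y) = (chiV x y)⁻¹ := by
  simp only [chiV, Pi.neg_apply, zpow_neg, Finset.prod_inv_distrib]

theorem chiV_sub (x : Fin 6 → Kˣ) (y z : Fin 6 → ℤ) : chiV x (y - z) = chiV x y / chiV x z := by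
  rw [sub_eq_add_neg, chiV_add, chiV_neg, div_eq_mul_inv]

theorem chiV_zsmul (x : Fin 6 → Kˣ) (n : ℤ) (y : Fin 6 → ℤ) : chiV x (n • y) = chiV x y ^ n := by
  unfold chiV
  rw [← Finset.prod_zpow]
  refine Finset.prod_congr rfl fun i _ => ?_
  rw [Pi.smul_apply, smul_eq_mul, mul_comm, zpow_mul]

theorem chiV_nsmul (x : Fin 6 → Kˣ) (n : ℕ) (y : Fin 6 → ℤ) : chiV x (n • y) = chiV x y ^ n := by
  have h := chiV_zsmul x (n : ℤ) y
  rwa [natCast_zsmul, zpow_natCast] at h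

theorem chiV_single (x : Fin 6 → Kˣ) (i : Fin 6) (n : ℤ) : chiV x (Pi.single i n) = x i ^ n := by
  unfold chiV
  rw [Finset.prod_eq_single i]
  · rw [Pi.single_eq_same]
  · intro j _ hj
    rw [Pi.single_eq_of_ne hj, zpow_zero]
  · intro h
    exact absurd (Finset.mem_univ i) h

theorem chiV_one_left (y : Fin 6 → ℤ) : chiV (1 : Fin 6 → Kˣ) y = 1 := by
  simp [chiV]

theorem chiV_mul_left (x x' : Fin 6 → Kˣ) (y : Fin 6 → ℤ) : chiV (x * x') y = chiV x y * chiV x' y := by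
  simp only [chiV, Pi.mul_apply, mul_zpow, Finset.prod_mul_distrib]

theorem chiV_inv_left (x : Fin 6 → Kˣ) (y : Fin 6 → ℤ) : chiV x⁻¹ y = (chiV x y)⁻¹ := by
  simp only [chiV, Pi.inv_apply, inv_zpow, Finset.prod_inv_distrib]

theorem chiV_pow_left (x : Fin 6 → Kˣ) (n : ℕ) (y : Fin 6 → ℤ) : chiV (x ^ n) y = chiV x y ^ n := by
  induction n with
  | zero => rw [pow_zero, pow_zero, chiV_one_left]
  | succ n ih => rw [pow_succ, pow_succ, chiV_mul_left, ih]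

/-- the character as a homomorphism of the lattice -/
def chiHom (x : Fin 6 → Kˣ) : Multiplicative (Fin 6 → ℤ) →* Kˣ where
  toFun y := chiV x (Multiplicative.toAdd y)
  map_one' := chiV_zero x
  map_mul' _ _ := chiV_add x _ _

theorem chiHom_apply (x : Fin 6 → Kˣ) (y : Fin 6 → ℤ) : chiHom x (Multiplicative.ofAdd y) = chiV x y := rfl

theorem sIdx_lt (i : Fin 6) : sIdx i < 72 := by
  revert i
  decide

theorem rc_sIdx (i : Fin 6) : rc (sIdx i) = Pi.single i 1 := by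
  revert i
  decide

/-- two characters that agree on the simple roots are equal -/
theorem chiV_ext (x x' : Fin 6 → Kˣ) (h : ∀ i, chiV x (rc (sIdx i)) = chiV x' (rc (sIdx i))) : x = x' := by
  funext i
  have := h i
  rwa [rc_sIdx, chiV_single, chiV_single, zpow_one, zpow_one] at this

/-- every lattice vector is an integral combination of the simple roots -/
theorem vec_eq_sum (y : Fin 6 → ℤ) : y = ∑ i, y i • rc (sIdx i) := by
  funext j
  simp only [rc_sIdx, Finset.sum_apply, Pi.smul_apply, smul_eq_mul]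
  rw [Finset.sum_eq_single j]
  · rw [Pi.single_eq_same, mul_one]
  · intro b _ hb
    rw [Pi.single_eq_of_ne hb.symm, mul_zero]
  · intro h
    exact absurd (Finset.mem_univ j) h

theorem chiV_sum (x : Fin 6 → Kˣ) {ι : Type*} (s : Finset ι) (f : ι → Fin 6 → ℤ) :
    chiV x (∑ i ∈ s, f i) = ∏ i ∈ s, chiV x (f i) := by
  classical
  induction s using Finset.induction_on with
  | empty => rw [Finset.sum_empty, Finset.prod_empty, chiV_zero]
  | insert a s ha ih => rw [Finset.sum_insert ha, Finset.prod_insert ha, chiV_add, ih]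

/-- `Cond` extends from the roots to the whole lattice -/
theorem cond_all {q : ℕ} {M : Matrix (Fin 6) (Fin 6) ℤ} {x : Fin 6 → Kˣ} (h : Cond q M x) (y : Fin 6 → ℤ) :
    chiV x (M.mulVec y) = chiV x y ^ q := by
  conv_lhs => rw [vec_eq_sum y]
  conv_rhs => rw [vec_eq_sum y]
  rw [Matrix.mulVec_sum, chiV_sum, chiV_sum, ← Finset.prod_pow]
  refine Finset.prod_congr rfl fun i _ => ?_
  rw [Matrix.mulVec_smul, chiV_zsmul, chiV_zsmul, h _ (sIdx_lt i), ← zpow_natCast, ← zpow_natCast, ← zpow_mul,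
    ← zpow_mul, mul_comm]

/-- the converse -/
theorem cond_of_all {q : ℕ} {M : Matrix (Fin 6) (Fin 6) ℤ} {x : Fin 6 → Kˣ}
    (h : ∀ y : Fin 6 → ℤ, chiV x (M.mulVec y) = chiV x y ^ q) : Cond q M x :=
  fun v _ => h (rc v)

/-- the characters with `χ ∘ M = χ ^ q`, as a subgroup of `(Kˣ)⁸` -/
def condSubgroup (K : Type*) [Field K] (q : ℕ) (M : Matrix (Fin 6) (Fin 6) ℤ) : Subgroup (Fin 6 → Kˣ) where
  carrier := {x | Cond q M x}
  one_mem' := fun v _ => by rw [chiV_one_left, chiV_one_left, one_pow]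
  mul_mem' := by
    intro a b ha hb v hv
    rw [chiV_mul_left, chiV_mul_left, ha v hv, hb v hv, mul_pow]
  inv_mem' := by
    intro a ha v hv
    rw [chiV_inv_left, chiV_inv_left, ha v hv, inv_pow]

theorem mem_condSubgroup (q : ℕ) (M : Matrix (Fin 6) (Fin 6) ℤ) (x : Fin 6 → Kˣ) :
    x ∈ condSubgroup K q M ↔ Cond q M x := Iff.rfl

end K

end Cfsg.Agent.E6T
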