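import Mathlib
import Cfsg.Agent.Lib.E6T.Lat

/-!
# S2373 (helper13's farm-out), PIECE ARITH12 (helper23)

Arithmetic of `Φ₁₂(q) = q⁴ - q² + 1`, `Φ₃(q) = q² + q + 1` and `mq q = Φ₁₂(q) Φ₃(q)`: a prime divisor `r` of `Φ₁₂(q)`
has `q` of order `12` modulo `r`, so `r ≥ 13`, `r ∤ Φ₃(q)`, `r ∤ q`; `r` divides `|E₆(q)|` and the `r`-part of
`|E₆(q¹²)|` is that of `(q¹² - 1)⁶` (clone of `Lib/Helper4/E8TARITHA.lean` and `Lib/Helper19/E8TARITHB.lean`).
-/

set_option autoImplicit false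
set_option linter.unusedSectionVars false
set_option linter.unusedVariables false

namespace Cfsg.Agent.E6T

theorem arith12_sq_le (q : ℕ) : q ^ 2 ≤ q ^ 4 := by
  rcases Nat.eq_zero_or_pos q with h | h
  · subst h; norm_num
  · exact Nat.pow_le_pow_right h (by norm_num)

theorem m12_cast (q : ℕ) : ((m12 q : ℕ) : ℤ) = (q : ℤ) ^ 4 - (q : ℤ) ^ 2 + 1 := by
  unfold m12
  have h := arith12_sq_le q
  push_cast [Nat.cast_sub h]
  ring

theorem arith12_m3_cast (q : ℕ) : ((m3 q : ℕ) : ℤ) = (q : ℤ) ^ 2 + (q : ℤ) + 1 := by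
  unfold m3
  push_cast
  ring

theorem mq_cast (q : ℕ) : ((mq q : ℕ) : ℤ) = (q : ℤ) ^ 6 + (q : ℤ) ^ 5 - (q : ℤ) ^ 3 + (q : ℤ) + 1 := by
  unfold mq
  rw [Nat.cast_mul, m12_cast, arith12_m3_cast]
  ring

theorem arith12_m12_pos (q : ℕ) : 0 < m12 q := by
  unfold m12
  omega

theorem arith12_m3_pos (q : ℕ) : 0 < m3 q := by
  unfold m3
  omega

theorem mq_pos (q : ℕ) : 0 < mq q := by
  unfold mq
  exact Nat.mul_pos (arith12_m12_pos q) (arith12_m3_pos q)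

/-- a polynomial expression in `q` that never vanishes modulo `n` is not divisible by `n` -/
theorem arith12_key (n : ℕ) [NeZero n] (N : ℕ) (P : ZMod n → ZMod n) (q : ℕ)
    (hcast : ((N : ℕ) : ZMod n) = P (q : ZMod n)) (hn : ∀ x : ZMod n, P x ≠ 0) : ¬ n ∣ N := by
  intro hdvd
  have h1 : ((N : ℕ) : ZMod n) = 0 := (ZMod.natCast_eq_zero_iff _ _).2 hdvd
  rw [hcast] at h1
  exact hn _ h1

theorem arith12_m12_zmod (n : ℕ) (q : ℕ) :
    ((m12 q : ℕ) : ZMod n) = (q : ZMod n) ^ 4 - (q : ZMod n) ^ 2 + 1 := by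
  have h : (((m12 q : ℕ) : ℤ) : ZMod n) = (((q : ℤ) ^ 4 - (q : ℤ) ^ 2 + 1 : ℤ) : ZMod n) := by
    rw [m12_cast]
  push_cast at h
  exact h

theorem arith12_m3_zmod (n : ℕ) (q : ℕ) :
    ((m3 q : ℕ) : ZMod n) = (q : ZMod n) ^ 2 + (q : ZMod n) + 1 := by
  unfold m3
  push_cast
  ring

theorem arith12_mq_zmod (n : ℕ) (q : ℕ) :
    ((mq q : ℕ) : ZMod n) =
      ((q : ZMod n) ^ 4 - (q : ZMod n) ^ 2 + 1) * ((q : ZMod n) ^ 2 + (q : ZMod n) + 1) := by
  unfold mq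
  rw [Nat.cast_mul, arith12_m12_zmod, arith12_m3_zmod]

theorem arith12_m12_not_two (q : ℕ) : ¬ 2 ∣ m12 q :=
  arith12_key 2 (m12 q) (fun x => x ^ 4 - x ^ 2 + 1) q (arith12_m12_zmod 2 q) (by decide)

theorem arith12_m12_not_three (q : ℕ) : ¬ 3 ∣ m12 q :=
  arith12_key 3 (m12 q) (fun x => x ^ 4 - x ^ 2 + 1) q (arith12_m12_zmod 3 q) (by decide)

theorem arith12_m3_not_two (q : ℕ) : ¬ 2 ∣ m3 q :=
  arith12_key 2 (m3 q) (fun x => x ^ 2 + x + 1) q (arith12_m3_zmod 2 q) (by decide)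

theorem mq_odd (q : ℕ) : ¬ 2 ∣ mq q := by
  unfold mq
  intro h
  rcases (Nat.Prime.dvd_mul Nat.prime_two).1 h with h | h
  · exact arith12_m12_not_two q h
  · exact arith12_m3_not_two q h

/-- `-q Φ₁₂(q) + (q³ - q² - q + 2) Φ₃(q) = 2` -/
theorem m12_m3_coprime (q : ℕ) : Nat.Coprime (m12 q) (m3 q) := by
  rw [Nat.coprime_iff_gcd_eq_one]
  by_contra hne
  obtain ⟨r, hr, hrd⟩ := Nat.exists_prime_and_dvd hne
  have h1 : r ∣ m12 q := hrd.trans (Nat.gcd_dvd_left _ _)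
  have h2 : r ∣ m3 q := hrd.trans (Nat.gcd_dvd_right _ _)
  have h1' : (r : ℤ) ∣ ((m12 q : ℕ) : ℤ) := Int.natCast_dvd_natCast.2 h1
  have h2' : (r : ℤ) ∣ ((m3 q : ℕ) : ℤ) := Int.natCast_dvd_natCast.2 h2
  have e : (2 : ℤ) = -(q : ℤ) * ((m12 q : ℕ) : ℤ) +
      ((q : ℤ) ^ 3 - (q : ℤ) ^ 2 - (q : ℤ) + 2) * ((m3 q : ℕ) : ℤ) := by
    rw [m12_cast, arith12_m3_cast]
    ring
  have h3 : (r : ℤ) ∣ 2 := by
    rw [e]
    exact dvd_add (Dvd.dvd.mul_left h1' _) (Dvd.dvd.mul_left h2' _)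
  have h4 : r ∣ 2 := by exact_mod_cast h3
  have h5 : r = 2 := (Nat.prime_dvd_prime_iff_eq hr Nat.prime_two).1 h4
  exact arith12_m3_not_two q (h5 ▸ h2)

theorem arith12_m12_gt_one (q : ℕ) (hq : 2 ≤ q) : 1 < m12 q := by
  unfold m12
  have h : q ^ 4 = q ^ 2 * q ^ 2 := by ring
  have h2 : 4 ≤ q ^ 2 := by nlinarith
  have h3 : q ^ 2 * 4 ≤ q ^ 2 * q ^ 2 := Nat.mul_le_mul_left _ h2
  omega

theorem arith12_exists (q : ℕ) (hq : 2 ≤ q) : ∃ r : ℕ, GoodPrime12 q r :=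
  ⟨(m12 q).minFac, Nat.minFac_prime (arith12_m12_gt_one q hq).ne', Nat.minFac_dvd _⟩

theorem arith12_root (q r : ℕ) (hr : GoodPrime12 q r) :
    ((q : ℕ) : ZMod r) ^ 4 - ((q : ℕ) : ZMod r) ^ 2 + 1 = 0 := by
  rw [← arith12_m12_zmod]
  exact (ZMod.natCast_eq_zero_iff _ _).2 hr.dvd

theorem arith12_ne_two (q r : ℕ) (hr : GoodPrime12 q r) : r ≠ 2 := by
  rintro rfl
  exact arith12_m12_not_two q hr.dvd

theorem arith12_ne_three (q r : ℕ) (hr : GoodPrime12 q r) : r ≠ 3 := by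
  rintro rfl
  exact arith12_m12_not_three q hr.dvd

/-- the residue of `q` modulo a good prime is a primitive `12`-th root of unity -/
theorem arith12_primitive (q r : ℕ) (hr : GoodPrime12 q r) [Fact r.Prime] :
    IsPrimitiveRoot ((q : ℕ) : ZMod r) 12 := by
  have hp : r.Prime := hr.prime
  set x : ZMod r := ((q : ℕ) : ZMod r) with hx
  have h0 : x ^ 4 - x ^ 2 + 1 = 0 := arith12_root q r hr
  have h6 : x ^ 6 = -1 := by linear_combination (x ^ 2 + 1) * h0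
  have h12 : x ^ 12 = 1 := by
    have : x ^ 12 = (x ^ 6) ^ 2 := by ring
    rw [this, h6]
    ring
  have h2 : (2 : ZMod r) ≠ 0 := by
    intro h
    have h' : ((2 : ℕ) : ZMod r) = 0 := by exact_mod_cast h
    have hd := (ZMod.natCast_eq_zero_iff _ _).1 h'
    exact arith12_ne_two q r hr ((Nat.prime_dvd_prime_iff_eq hp Nat.prime_two).1 hd)
  have h3 : (3 : ZMod r) ≠ 0 := by
    intro h
    have h' : ((3 : ℕ) : ZMod r) = 0 := by exact_mod_cast h
    have hd := (ZMod.natCast_eq_zero_iff _ _).1 h'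
    exact arith12_ne_three q r hr ((Nat.prime_dvd_prime_iff_eq hp Nat.prime_three).1 hd)
  have ho : orderOf x ∣ 12 := orderOf_dvd_of_pow_eq_one h12
  have hn6 : ¬ orderOf x ∣ 6 := by
    intro hd
    have h1 : x ^ 6 = 1 := orderOf_dvd_iff_pow_eq_one.1 hd
    rw [h6] at h1
    apply h2
    linear_combination -h1
  have hn4 : ¬ orderOf x ∣ 4 := by
    intro hd
    have h1 : x ^ 4 = 1 := orderOf_dvd_iff_pow_eq_one.1 hd
    have h22 : x ^ 2 = 2 := by linear_combination -h0 + h1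
    have h4 : x ^ 4 = 4 := by
      have : x ^ 4 = (x ^ 2) ^ 2 := by ring
      rw [this, h22]
      norm_num
    apply h3
    linear_combination h1 - h4
  have hord : orderOf x = 12 := by
    have hle : orderOf x ≤ 12 := Nat.le_of_dvd (by norm_num) ho
    interval_cases h : orderOf x <;> revert ho hn6 hn4 <;> decide
  rw [← hord]
  exact IsPrimitiveRoot.orderOf x

/-- the order of `q` modulo a prime divisor `r` of `Φ₁₂(q)` is `12` -/
theorem arith12_order (q r : ℕ) (hq : 2 ≤ q) (hr : GoodPrime12 q r) (e : ℕ) :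
    r ∣ q ^ e - 1 ↔ 12 ∣ e := by
  have : Fact r.Prime := ⟨hr.prime⟩
  have hprim := arith12_primitive q r hr
  rw [← hprim.pow_eq_one_iff_dvd e]
  have hpos : 1 ≤ q ^ e := Nat.one_le_pow _ _ (by omega)
  rw [← ZMod.natCast_eq_zero_iff, Nat.cast_sub hpos, sub_eq_zero]
  push_cast
  rfl

/-- hence `r ≡ 1 mod 12` -/
theorem arith12_ge (q r : ℕ) (hq : 2 ≤ q) (hr : GoodPrime12 q r) : 13 ≤ r := by
  have : Fact r.Prime := ⟨hr.prime⟩
  have hprim := arith12_primitive q r hr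
  have hne : ((q : ℕ) : ZMod r) ≠ 0 := hprim.ne_zero (by norm_num)
  have h1 : ((q : ℕ) : ZMod r) ^ (r - 1) = 1 := ZMod.pow_card_sub_one_eq_one hne
  have h2 : 12 ∣ r - 1 := (hprim.pow_eq_one_iff_dvd (r - 1)).1 h1
  have h3 : 0 < r - 1 := by have := hr.prime.two_le; omega
  have := Nat.le_of_dvd h3 h2
  omega

theorem arith12_m3 (q r : ℕ) (hq : 2 ≤ q) (hr : GoodPrime12 q r) : ¬ r ∣ m3 q := by
  intro hd
  have : Fact r.Prime := ⟨hr.prime⟩
  have hprim := arith12_primitive q r hr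
  have h0 : ((m3 q : ℕ) : ZMod r) = 0 := (ZMod.natCast_eq_zero_iff _ _).2 hd
  rw [arith12_m3_zmod] at h0
  have h3 : ((q : ℕ) : ZMod r) ^ 3 = 1 := by linear_combination (((q : ℕ) : ZMod r) - 1) * h0
  have := (hprim.pow_eq_one_iff_dvd 3).1 h3
  omega

theorem arith12_not_dvd_q (q r : ℕ) (hq : 2 ≤ q) (hr : GoodPrime12 q r) : ¬ r ∣ q := by
  intro hd
  have : Fact r.Prime := ⟨hr.prime⟩
  have hprim := arith12_primitive q r hr
  exact hprim.ne_zero (by norm_num) ((ZMod.natCast_eq_zero_iff _ _).2 hd)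

theorem arith12_m12_dvd (q : ℕ) (hq : 2 ≤ q) : m12 q ∣ q ^ 12 - 1 := by
  have hpos : 1 ≤ q ^ 12 := Nat.one_le_pow _ _ (by omega)
  apply Int.natCast_dvd_natCast.1
  rw [m12_cast, Nat.cast_sub hpos]
  push_cast
  exact ⟨((q : ℤ) ^ 2 + 1) * ((q : ℤ) ^ 6 - 1), by ring⟩

theorem arith12_m3_dvd (q : ℕ) (hq : 2 ≤ q) : m3 q ∣ q ^ 12 - 1 := by
  have hpos : 1 ≤ q ^ 12 := Nat.one_le_pow _ _ (by omega)
  apply Int.natCast_dvd_natCast.1
  rw [arith12_m3_cast, Nat.cast_sub hpos]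
  push_cast
  exact ⟨((q : ℤ) - 1) * ((q : ℤ) ^ 3 + 1) * ((q : ℤ) ^ 6 + 1), by ring⟩

/-- `mq q ∣ q¹² - 1` -/
theorem mq_dvd (q : ℕ) (hq : 2 ≤ q) : mq q ∣ q ^ 12 - 1 := by
  have hpos : 1 ≤ q ^ 12 := Nat.one_le_pow _ _ (by omega)
  apply Int.natCast_dvd_natCast.1
  rw [mq_cast, Nat.cast_sub hpos]
  push_cast
  exact ⟨((q : ℤ) - 1) * ((q : ℤ) ^ 3 + 1) * ((q : ℤ) ^ 2 + 1), by ring⟩

/-- `3 ∣ mq q ↔ 3 ∣ q - 1`, and `9 ∤ mq q` -/
theorem mq_three (q : ℕ) (hq : 2 ≤ q) : (3 ∣ mq q ↔ 3 ∣ q - 1) ∧ ¬ 9 ∣ mq q := by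
  refine ⟨?_, ?_⟩
  · have h1 : 1 ≤ q := by omega
    rw [← ZMod.natCast_eq_zero_iff, ← ZMod.natCast_eq_zero_iff, arith12_mq_zmod, Nat.cast_sub h1]
    have key : ∀ x : ZMod 3, (x ^ 4 - x ^ 2 + 1) * (x ^ 2 + x + 1) = 0 ↔ x - ((1 : ℕ) : ZMod 3) = 0 := by
      decide
    exact key _
  · exact arith12_key 9 (mq q) (fun x => (x ^ 4 - x ^ 2 + 1) * (x ^ 2 + x + 1)) q (arith12_mq_zmod 9 q) (by decide)

/-- a prime divisor of `Φ₁₂(q)` divides `gcd(3, q - 1) |E₆(q)|` -/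
theorem arith12_dvd (q r : ℕ) (hq : 2 ≤ q) (hr : GoodPrime12 q r) : r ∣ ordE6 q := by
  unfold ordE6
  apply Dvd.dvd.mul_left
  exact hr.dvd.trans (arith12_m12_dvd q hq)

/-- ... and `|E₆(q)|` itself -/
theorem arith12_dvd_card (q r : ℕ) (hq : 2 ≤ q) (hr : GoodPrime12 q r) (g n : ℕ) (hg : g ∣ 3)
    (hn : g * n = ordE6 q) : r ∣ n := by
  have h := arith12_dvd q r hq hr
  rw [← hn] at h
  rcases (Nat.Prime.dvd_mul hr.prime).1 h with h | h
  · exfalso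
    have h3 : r ∣ 3 := h.trans hg
    have := Nat.le_of_dvd (by norm_num) h3
    have := arith12_ge q r hq hr
    omega
  · exact h

/-- `(P+1)ⁿ - 1 = P (1 + (P+1) + … + (P+1)ⁿ⁻¹)` -/
theorem arith12_geom (P n : ℕ) :
    (P + 1) ^ n - 1 = P * ∑ i ∈ Finset.range n, (P + 1) ^ i := by
  have h := geom_sum_mul_add P n
  rw [← h, Nat.add_sub_cancel, mul_comm]

/-- if `r ∣ P` and `r ∤ n` then `r` does not divide `1 + (P+1) + … + (P+1)ⁿ⁻¹` -/
theorem arith12_not_dvd_geom (r P n : ℕ) (hP : r ∣ P) (hn : ¬ r ∣ n) :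
    ¬ r ∣ ∑ i ∈ Finset.range n, (P + 1) ^ i := by
  intro hd
  apply hn
  rw [← ZMod.natCast_eq_zero_iff] at hd hP ⊢
  push_cast at hd
  rw [hP] at hd
  simpa using hd

/-- a prime `r ≥ 13` does not divide `n` for `0 < n < 13` -/
theorem arith12_not_dvd_small (r n : ℕ) (hr : 13 ≤ r) (h0 : 0 < n) (hn : n < 13) : ¬ r ∣ n := by
  intro hd
  have := Nat.le_of_dvd h0 hd
  omega

theorem arith12_fact (q r : ℕ) (hq : 2 ≤ q) (hr : GoodPrime12 q r) :
    (ordE6 (q ^ 12)).factorization r = ((q ^ 12 - 1) ^ 6).factorization r := by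
  have hrP : r ∣ q ^ 12 - 1 := hr.dvd.trans (arith12_m12_dvd q hq)
  have hge := arith12_ge q r hq hr
  have hQ1 : 1 ≤ q ^ 12 := Nat.one_le_pow _ _ (by omega)
  obtain ⟨P, hP⟩ : ∃ P, q ^ 12 = P + 1 := ⟨q ^ 12 - 1, by omega⟩
  have hP0 : P ≠ 0 := by
    rintro rfl
    have : 2 ^ 12 ≤ q ^ 12 := Nat.pow_le_pow_left hq 12
    omega
  unfold ordE6
  rw [hP] at hrP ⊢
  rw [Nat.add_sub_cancel] at hrP ⊢
  have hp := hr.prime
  have h1 : ¬ r ∣ 1 := fun hd => hp.one_lt.ne' (Nat.dvd_one.1 hd)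
  have hn1 : ¬ r ∣ P + 1 := fun hd => h1 ((Nat.dvd_add_right hrP).1 hd)
  have hS2 := arith12_not_dvd_geom r P 2 hrP (arith12_not_dvd_small r 2 hge (by norm_num) (by norm_num))
  have hS5 := arith12_not_dvd_geom r P 5 hrP (arith12_not_dvd_small r 5 hge (by norm_num) (by norm_num))
  have hS6 := arith12_not_dvd_geom r P 6 hrP (arith12_not_dvd_small r 6 hge (by norm_num) (by norm_num))
  have hS8 := arith12_not_dvd_geom r P 8 hrP (arith12_not_dvd_small r 8 hge (by norm_num) (by norm_num))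
  have hS9 := arith12_not_dvd_geom r P 9 hrP (arith12_not_dvd_small r 9 hge (by norm_num) (by norm_num))
  have hS12 := arith12_not_dvd_geom r P 12 hrP (arith12_not_dvd_small r 12 hge (by norm_num) (by norm_num))
  rw [arith12_geom P 2, arith12_geom P 5, arith12_geom P 6, arith12_geom P 8,
    arith12_geom P 9, arith12_geom P 12]
  generalize (∑ i ∈ Finset.range 2, (P + 1) ^ i) = S2 at hS2 ⊢
  generalize (∑ i ∈ Finset.range 5, (P + 1) ^ i) = S5 at hS5 ⊢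
  generalize (∑ i ∈ Finset.range 6, (P + 1) ^ i) = S6 at hS6 ⊢
  generalize (∑ i ∈ Finset.range 8, (P + 1) ^ i) = S8 at hS8 ⊢
  generalize (∑ i ∈ Finset.range 9, (P + 1) ^ i) = S9 at hS9 ⊢
  generalize (∑ i ∈ Finset.range 12, (P + 1) ^ i) = S12 at hS12 ⊢
  generalize hA : (P + 1) ^ 36 = A
  have hnA : ¬ r ∣ A := by
    rw [← hA]
    exact fun hd => hn1 (hp.dvd_of_dvd_pow hd)
  have e3 : A * (P * S2) * (P * S5) * (P * S6) * (P * S8) * (P * S9) * (P * S12) =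
      P ^ 6 * (A * S2 * S5 * S6 * S8 * S9 * S12) := by ring
  rw [e3]
  have hnB : ¬ r ∣ A * S2 * S5 * S6 * S8 * S9 * S12 := by
    intro hd
    rcases (Nat.Prime.dvd_mul hp).1 hd with hd | hd
    · rcases (Nat.Prime.dvd_mul hp).1 hd with hd | hd
      · rcases (Nat.Prime.dvd_mul hp).1 hd with hd | hd
        · rcases (Nat.Prime.dvd_mul hp).1 hd with hd | hd
          · rcases (Nat.Prime.dvd_mul hp).1 hd with hd | hd
            · rcases (Nat.Prime.dvd_mul hp).1 hd with hd | hd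
              · exact hnA hd
              · exact hS2 hd
            · exact hS5 hd
          · exact hS6 hd
        · exact hS8 hd
      · exact hS9 hd
    · exact hS12 hd
  have hB0 : A * S2 * S5 * S6 * S8 * S9 * S12 ≠ 0 := fun h0 => hnB (h0 ▸ dvd_zero r)
  rw [Nat.factorization_mul (pow_ne_zero 6 hP0) hB0, Finsupp.add_apply,
    Nat.factorization_eq_zero_of_not_dvd hnB, add_zero]

/-- the Sylow step for `E₆(q¹²)`: `g = gcd(3, q¹² - 1)`, `n = |E₆(q¹²)|` (S1063), `t = |H(q¹²)|` (S1035) -/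
theorem arith12_hfact (q r : ℕ) (hq : 2 ≤ q) (hr : GoodPrime12 q r) (g n t : ℕ) (hg : g ∣ 3)
    (hn : g * n = ordE6 (q ^ 12)) (ht : g * t = (q ^ 12 - 1) ^ 6) :
    n.factorization r = t.factorization r := by
  have hge := arith12_ge q r hq hr
  have hg0 : g ≠ 0 := by
    rintro rfl
    simp at hg
  have hrg : ¬ r ∣ g := by
    intro h
    have h3 : r ∣ 3 := h.trans hg
    have := Nat.le_of_dvd (by norm_num) h3
    omega
  have hQ : 2 ^ 12 ≤ q ^ 12 := Nat.pow_le_pow_left hq 12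
  have ht0 : t ≠ 0 := by
    rintro rfl
    rw [mul_zero] at ht
    have : (q ^ 12 - 1) ^ 6 ≠ 0 := pow_ne_zero 6 (by omega)
    exact this ht.symm
  have hn0 : n ≠ 0 := by
    rintro rfl
    rw [mul_zero] at hn
    have h0 : ordE6 (q ^ 12) ≠ 0 := by
      unfold ordE6
      have h1 : ∀ k : ℕ, 0 < k → (q ^ 12) ^ k - 1 ≠ 0 := by
        intro k hk
        have : 2 ^ 12 ≤ (q ^ 12) ^ k := le_trans hQ (Nat.le_self_pow hk.ne' _)
        omega
      have h36 : (q ^ 12) ^ 36 ≠ 0 := pow_ne_zero _ (by omega)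
      have := h1 2 (by norm_num)
      have := h1 5 (by norm_num)
      have := h1 6 (by norm_num)
      have := h1 8 (by norm_num)
      have := h1 9 (by norm_num)
      have := h1 12 (by norm_num)
      simp only [ne_eq, mul_eq_zero, not_or]
      tauto
    exact h0 hn.symm
  have e := arith12_fact q r hq hr
  rw [← hn, ← ht, Nat.factorization_mul hg0 hn0, Nat.factorization_mul hg0 ht0, Finsupp.add_apply,
    Finsupp.add_apply, Nat.factorization_eq_zero_of_not_dvd hrg, zero_add, zero_add] at e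
  exact e

end Cfsg.Agent.E6T
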