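import Mathlib
import Cfsg.Agent.Lib.E6T.Lat

/-!
# S2373 (E6 torus), lattice piece PD6  [E]  (helper2)

clone of Lib/Helper18/E8TPD8.lean (C8 -> C6); positive definiteness of C6, Cauchy-Schwarz for norm-2 vectors.
-/

set_option autoImplicit false
open Polynomial

namespace Cfsg.Agent.E6T

/-- the quadratic form of `C6` as a sum of squares (times `60`) -/
theorem pd6_sos_int (y : Fin 6 → ℤ) :
    60 * ip y y =
      30 * (2 * y 0 - y 2) ^ 2 + 30 * (2 * y 1 - y 3) ^ 2 + 10 * (3 * y 2 - 2 * y 3) ^ 2 +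
        2 * (5 * y 3 - 6 * y 4) ^ 2 + 3 * (4 * y 4 - 5 * y 5) ^ 2 + 45 * y 5 ^ 2 := by
  simp only [ip, dotProduct, Matrix.mulVec, Fin.sum_univ_six, C6]
  simp
  ring

theorem ip_self_nonneg (y : Fin 6 → ℤ) : 0 ≤ ip y y := by
  have h := pd6_sos_int y
  nlinarith [sq_nonneg (2 * y 0 - y 2), sq_nonneg (2 * y 1 - y 3), sq_nonneg (3 * y 2 - 2 * y 3),
    sq_nonneg (5 * y 3 - 6 * y 4), sq_nonneg (4 * y 4 - 5 * y 5), sq_nonneg (y 5)]

theorem ip_self_eq_zero (y : Fin 6 → ℤ) (h : ip y y = 0) : y = 0 := by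
  have hs := pd6_sos_int y
  rw [h, mul_zero] at hs
  have n0 := sq_nonneg (2 * y 0 - y 2)
  have n1 := sq_nonneg (2 * y 1 - y 3)
  have n2 := sq_nonneg (3 * y 2 - 2 * y 3)
  have n3 := sq_nonneg (5 * y 3 - 6 * y 4)
  have n4 := sq_nonneg (4 * y 4 - 5 * y 5)
  have n5 := sq_nonneg (y 5)
  have e0 : 2 * y 0 - y 2 = 0 := pow_eq_zero_iff (two_ne_zero) |>.1 (by linarith)
  have e1 : 2 * y 1 - y 3 = 0 := pow_eq_zero_iff (two_ne_zero) |>.1 (by linarith)
  have e2 : 3 * y 2 - 2 * y 3 = 0 := pow_eq_zero_iff (two_ne_zero) |>.1 (by linarith)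
  have e3 : 5 * y 3 - 6 * y 4 = 0 := pow_eq_zero_iff (two_ne_zero) |>.1 (by linarith)
  have e4 : 4 * y 4 - 5 * y 5 = 0 := pow_eq_zero_iff (two_ne_zero) |>.1 (by linarith)
  have e5 : y 5 = 0 := pow_eq_zero_iff (two_ne_zero) |>.1 (by linarith)
  have z5 : y 5 = 0 := e5
  have z4 : y 4 = 0 := by omega
  have z3 : y 3 = 0 := by omega
  have z2 : y 2 = 0 := by omega
  have z1 : y 1 = 0 := by omega
  have z0 : y 0 = 0 := by omega
  funext i
  fin_cases i
  · exact z0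
  · exact z1
  · exact z2
  · exact z3
  · exact z4
  · exact z5

/-- the explicit value of the form -/
theorem pd6_ip_self (y : Fin 6 → ℤ) :
    ip y y = 2 * (y 0 ^ 2 + y 1 ^ 2 + y 2 ^ 2 + y 3 ^ 2 + y 4 ^ 2 + y 5 ^ 2 -
      (y 0 * y 2 + y 1 * y 3 + y 2 * y 3 + y 3 * y 4 + y 4 * y 5)) := by
  have h := pd6_sos_int y
  linarith

theorem ip_self_even (y : Fin 6 → ℤ) : Even (ip y y) := by
  rw [pd6_ip_self]
  exact even_two_mul _

theorem ip_self_ge_two (y : Fin 6 → ℤ) (hy : y ≠ 0) : 2 ≤ ip y y := by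
  have h1 := ip_self_nonneg y
  have h2 : ip y y ≠ 0 := fun h => hy (ip_self_eq_zero y h)
  obtain ⟨k, hk⟩ := ip_self_even y
  omega

theorem pd6_ip_rc : ∀ v : Fin 72, ip (rc v.val) (rc v.val) = 2 := by
  decide +kernel

theorem ip_rc (v : ℕ) (hv : v < 72) : ip (rc v) (rc v) = 2 := by
  exact pd6_ip_rc ⟨v, hv⟩

theorem c6_det : C6.det = 3 := by
  decide +kernel

theorem c6_mul_a6 : C6 * A6 = 3 := by
  decide +kernel

theorem a6_mul_c6 : A6 * C6 = 3 := by
  decide +kernel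

/-- Cauchy-Schwarz for vectors of norm 2 -/
theorem ip_le_two (y z : Fin 6 → ℤ) (hy : ip y y = 2) (hz : ip z z = 2) : ip y z ≤ 2 ∧ -2 ≤ ip y z := by
  have h1 := ip_self_nonneg (y - z)
  have h2 := ip_self_nonneg (y + z)
  rw [ip_sub_left, ip_sub_right, ip_sub_right, ip_comm z y] at h1
  rw [ip_add_left, ip_add_right, ip_add_right, ip_comm z y] at h2
  constructor <;> linarith

theorem ip_eq_two (y z : Fin 6 → ℤ) (hy : ip y y = 2) (hz : ip z z = 2) (h : ip y z = 2) : y = z := by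
  have h1 : ip (y - z) (y - z) = 0 := by
    rw [ip_sub_left, ip_sub_right, ip_sub_right, ip_comm z y]
    linarith
  have := ip_self_eq_zero _ h1
  exact sub_eq_zero.1 this

theorem ip_eq_neg_two (y z : Fin 6 → ℤ) (hy : ip y y = 2) (hz : ip z z = 2) (h : ip y z = -2) : y = -z := by
  have h1 : ip (y + z) (y + z) = 0 := by
    rw [ip_add_left, ip_add_right, ip_add_right, ip_comm z y]
    linarith
  have := ip_self_eq_zero _ h1
  exact eq_neg_of_add_eq_zero_left this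

end Cfsg.Agent.E6T
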