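import Mathlib
import Cfsg.Agent.Lib.E6T.Lat
import Cfsg.Agent.Lib.E6T.PD6

/-!
# S2373 (E6 torus), lattice piece TAB  [M]  (helper2)

clone of Lib/Helper18/E8TQ2TAB.lean (72 roots instead of 240), plus: every vector of norm 2 is a root.
-/

set_option autoImplicit false
open Polynomial

namespace Cfsg.Agent.E6T

theorem tab_length : rcN.length = 72 := by decide +kernel

theorem tab_neg : ∀ v : Fin 72, ∀ i : Fin 6, rc (71 - v.val) i = -rc v.val i := by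
  decide +kernel

theorem rc_neg (v : ℕ) (hv : v < 72) : rc (71 - v) = -rc v := by
  funext i
  exact tab_neg ⟨v, hv⟩ i

theorem tab_nodup : rcN.Nodup := by decide +kernel

theorem tab_row : ∀ v : Fin 72,
    rcN.getD v.val [] = (List.finRange 6).map (fun i => (rc v.val i + 3).toNat) := by
  decide +kernel

theorem rc_injective (v : ℕ) (hv : v < 72) (v' : ℕ) (hv' : v' < 72) (h : rc v = rc v') : v = v' := by
  have h1 := tab_row ⟨v, hv⟩
  have h2 := tab_row ⟨v', hv'⟩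
  simp only at h1 h2
  rw [h] at h1
  have h3 : rcN.getD v [] = rcN.getD v' [] := h1.trans h2.symm
  have hl : v < rcN.length := by rw [tab_length]; exact hv
  have hl' : v' < rcN.length := by rw [tab_length]; exact hv'
  rw [List.getD_eq_getElem _ _ hl, List.getD_eq_getElem _ _ hl'] at h3
  exact (List.Nodup.getElem_inj_iff tab_nodup).1 h3

/-- the bilinear form, explicitly -/
theorem tab_ip (y z : Fin 6 → ℤ) :
    ip y z = 2 * (y 0 * z 0 + y 1 * z 1 + y 2 * z 2 + y 3 * z 3 + y 4 * z 4 + y 5 * z 5) -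
      (y 0 * z 2 + y 2 * z 0 + y 1 * z 3 + y 3 * z 1 + y 2 * z 3 + y 3 * z 2 + y 3 * z 4 + y 4 * z 3 +
        y 4 * z 5 + y 5 * z 4) := by
  simp only [ip, dotProduct, Matrix.mulVec, Fin.sum_univ_six, C6]
  simp
  ring

/-- the bilinear form on coordinate lists (shifted by `3`) -/
def tab_ipL (A B : List ℕ) : ℤ :=
  2 * ((((A.getD 0 3 : ℕ) : ℤ) - 3) * (((B.getD 0 3 : ℕ) : ℤ) - 3) +
      (((A.getD 1 3 : ℕ) : ℤ) - 3) * (((B.getD 1 3 : ℕ) : ℤ) - 3) +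
      (((A.getD 2 3 : ℕ) : ℤ) - 3) * (((B.getD 2 3 : ℕ) : ℤ) - 3) +
      (((A.getD 3 3 : ℕ) : ℤ) - 3) * (((B.getD 3 3 : ℕ) : ℤ) - 3) +
      (((A.getD 4 3 : ℕ) : ℤ) - 3) * (((B.getD 4 3 : ℕ) : ℤ) - 3) +
      (((A.getD 5 3 : ℕ) : ℤ) - 3) * (((B.getD 5 3 : ℕ) : ℤ) - 3)) -
    ((((A.getD 0 3 : ℕ) : ℤ) - 3) * (((B.getD 2 3 : ℕ) : ℤ) - 3) +
      (((A.getD 2 3 : ℕ) : ℤ) - 3) * (((B.getD 0 3 : ℕ) : ℤ) - 3) +
      (((A.getD 1 3 : ℕ) : ℤ) - 3) * (((B.getD 3 3 : ℕ) : ℤ) - 3) +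
      (((A.getD 3 3 : ℕ) : ℤ) - 3) * (((B.getD 1 3 : ℕ) : ℤ) - 3) +
      (((A.getD 2 3 : ℕ) : ℤ) - 3) * (((B.getD 3 3 : ℕ) : ℤ) - 3) +
      (((A.getD 3 3 : ℕ) : ℤ) - 3) * (((B.getD 2 3 : ℕ) : ℤ) - 3) +
      (((A.getD 3 3 : ℕ) : ℤ) - 3) * (((B.getD 4 3 : ℕ) : ℤ) - 3) +
      (((A.getD 4 3 : ℕ) : ℤ) - 3) * (((B.getD 3 3 : ℕ) : ℤ) - 3) +
      (((A.getD 4 3 : ℕ) : ℤ) - 3) * (((B.getD 5 3 : ℕ) : ℤ) - 3) +
      (((A.getD 5 3 : ℕ) : ℤ) - 3) * (((B.getD 4 3 : ℕ) : ℤ) - 3))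

theorem tab_ip_eq (v w : ℕ) : ip (rc v) (rc w) = tab_ipL (rcN.getD v []) (rcN.getD w []) := by
  rw [tab_ip]
  rfl

/-- the check -/
def tab_chk : Bool :=
  rcN.all fun A => rcN.all fun B =>
    !(decide (tab_ipL A B = 1)) ||
      rcN.any fun X => decide (tab_ipL X A = 1) && decide (tab_ipL X B = 1)

theorem tab_chk_true : tab_chk = true := by decide +kernel

/-- two roots with inner product `1` have a common neighbour -/
theorem q2_table (a : ℕ) (ha : a < 72) (b : ℕ) (hb : b < 72) (h : ip (rc a) (rc b) = 1) :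
    ∃ x < 72, ip (rc x) (rc a) = 1 ∧ ip (rc x) (rc b) = 1 := by
  have hc := tab_chk_true
  unfold tab_chk at hc
  rw [List.all_eq_true] at hc
  have hla : a < rcN.length := by rw [tab_length]; exact ha
  have hlb : b < rcN.length := by rw [tab_length]; exact hb
  have hA : rcN.getD a [] ∈ rcN := by
    rw [List.getD_eq_getElem _ _ hla]
    exact List.getElem_mem hla
  have hB : rcN.getD b [] ∈ rcN := by
    rw [List.getD_eq_getElem _ _ hlb]
    exact List.getElem_mem hlb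
  have h1 := hc _ hA
  rw [List.all_eq_true] at h1
  have h2 := h1 _ hB
  rw [tab_ip_eq] at h
  rw [Bool.or_eq_true] at h2
  rcases h2 with h2 | h2
  · rw [Bool.not_eq_true', decide_eq_false_iff_not] at h2
    exact absurd h h2
  · rw [List.any_eq_true] at h2
    obtain ⟨X, hX, hX2⟩ := h2
    obtain ⟨x, hx, rfl⟩ := List.getElem_of_mem hX
    rw [Bool.and_eq_true, decide_eq_true_eq, decide_eq_true_eq] at hX2
    refine ⟨x, by rw [← tab_length]; exact hx, ?_, ?_⟩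
    · rw [tab_ip_eq, List.getD_eq_getElem _ _ hx]
      exact hX2.1
    · rw [tab_ip_eq, List.getD_eq_getElem _ _ hx]
      exact hX2.2

/-- the box check: every coordinate list in the box with norm `2` is in the table -/
def tab_box : Bool :=
  (List.range' 1 5).all fun c0 => (List.range' 1 5).all fun c1 => (List.range' 0 7).all fun c2 =>
    (List.range' 0 7).all fun c3 => (List.range' 1 5).all fun c4 => (List.range' 2 3).all fun c5 =>
      !(decide (tab_ipL [c0, c1, c2, c3, c4, c5] [c0, c1, c2, c3, c4, c5] = 2)) ||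
        rcN.contains [c0, c1, c2, c3, c4, c5]

theorem tab_box_true : tab_box = true := by decide +kernel

theorem tab_bounds (y : Fin 6 → ℤ) (h : ip y y = 2) :
    (-2 ≤ y 0 ∧ y 0 ≤ 2) ∧ (-2 ≤ y 1 ∧ y 1 ≤ 2) ∧ (-3 ≤ y 2 ∧ y 2 ≤ 3) ∧ (-3 ≤ y 3 ∧ y 3 ≤ 3) ∧
      (-2 ≤ y 4 ∧ y 4 ≤ 2) ∧ (-1 ≤ y 5 ∧ y 5 ≤ 1) := by
  have hs := pd6_sos_int y
  rw [h] at hs
  have n0 := sq_nonneg (2 * y 0 - y 2)
  have n1 := sq_nonneg (2 * y 1 - y 3)
  have n2 := sq_nonneg (3 * y 2 - 2 * y 3)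
  have n3 := sq_nonneg (5 * y 3 - 6 * y 4)
  have n4 := sq_nonneg (4 * y 4 - 5 * y 5)
  have n5 := sq_nonneg (y 5)
  have b5 := abs_lt_of_sq_lt_sq' (a := y 5) (b := 2) (by linarith) (by norm_num)
  have b4 := abs_lt_of_sq_lt_sq' (a := 4 * y 4 - 5 * y 5) (b := 7) (by linarith) (by norm_num)
  have b3 := abs_lt_of_sq_lt_sq' (a := 5 * y 3 - 6 * y 4) (b := 8) (by linarith) (by norm_num)
  have b2 := abs_lt_of_sq_lt_sq' (a := 3 * y 2 - 2 * y 3) (b := 4) (by linarith) (by norm_num)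
  have b1 := abs_lt_of_sq_lt_sq' (a := 2 * y 1 - y 3) (b := 3) (by linarith) (by norm_num)
  have b0 := abs_lt_of_sq_lt_sq' (a := 2 * y 0 - y 2) (b := 3) (by linarith) (by norm_num)
  omega

/-- every vector of norm 2 is a root -/
theorem root_of_norm_two (y : Fin 6 → ℤ) (h : ip y y = 2) : ∃ v < 72, y = rc v := by
  obtain ⟨⟨l0, u0⟩, ⟨l1, u1⟩, ⟨l2, u2⟩, ⟨l3, u3⟩, ⟨l4, u4⟩, ⟨l5, u5⟩⟩ := tab_bounds y h
  obtain ⟨c0, hc0⟩ : ∃ c : ℕ, (c : ℤ) = y 0 + 3 := ⟨(y 0 + 3).toNat, by omega⟩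
  obtain ⟨c1, hc1⟩ : ∃ c : ℕ, (c : ℤ) = y 1 + 3 := ⟨(y 1 + 3).toNat, by omega⟩
  obtain ⟨c2, hc2⟩ : ∃ c : ℕ, (c : ℤ) = y 2 + 3 := ⟨(y 2 + 3).toNat, by omega⟩
  obtain ⟨c3, hc3⟩ : ∃ c : ℕ, (c : ℤ) = y 3 + 3 := ⟨(y 3 + 3).toNat, by omega⟩
  obtain ⟨c4, hc4⟩ : ∃ c : ℕ, (c : ℤ) = y 4 + 3 := ⟨(y 4 + 3).toNat, by omega⟩
  obtain ⟨c5, hc5⟩ : ∃ c : ℕ, (c : ℤ) = y 5 + 3 := ⟨(y 5 + 3).toNat, by omega⟩
  have hb := tab_box_true
  unfold tab_box at hb
  rw [List.all_eq_true] at hb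
  have m0 : c0 ∈ List.range' 1 5 := by rw [List.mem_range'_1]; omega
  have m1 : c1 ∈ List.range' 1 5 := by rw [List.mem_range'_1]; omega
  have m2 : c2 ∈ List.range' 0 7 := by rw [List.mem_range'_1]; omega
  have m3 : c3 ∈ List.range' 0 7 := by rw [List.mem_range'_1]; omega
  have m4 : c4 ∈ List.range' 1 5 := by rw [List.mem_range'_1]; omega
  have m5 : c5 ∈ List.range' 2 3 := by rw [List.mem_range'_1]; omega
  have h0 := hb c0 m0
  rw [List.all_eq_true] at h0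
  have h1 := h0 c1 m1
  rw [List.all_eq_true] at h1
  have h2 := h1 c2 m2
  rw [List.all_eq_true] at h2
  have h3 := h2 c3 m3
  rw [List.all_eq_true] at h3
  have h4 := h3 c4 m4
  rw [List.all_eq_true] at h4
  have h5 := h4 c5 m5
  have hq : tab_ipL [c0, c1, c2, c3, c4, c5] [c0, c1, c2, c3, c4, c5] = 2 := by
    rw [← h, tab_ip]
    simp only [tab_ipL, List.getD_cons_zero, List.getD_cons_succ, hc0, hc1, hc2, hc3, hc4, hc5]
    ring
  rw [Bool.or_eq_true] at h5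
  rcases h5 with h5 | h5
  · rw [Bool.not_eq_true', decide_eq_false_iff_not] at h5
    exact absurd hq h5
  · have hmem : [c0, c1, c2, c3, c4, c5] ∈ rcN := by
      simpa using h5
    obtain ⟨v, hv, hv2⟩ := List.getElem_of_mem hmem
    refine ⟨v, by rw [← tab_length]; exact hv, ?_⟩
    funext i
    unfold rc
    rw [List.getD_eq_getElem _ _ hv, hv2]
    fin_cases i
    · simp; omega
    · simp; omega
    · simp; omega
    · simp; omega
    · simp; omega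
    · simp; omega
end Cfsg.Agent.E6T
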