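import Mathlib
import Cfsg.Agent.Lib.E6T.Lat

/-!
# S2373 piece POLY (helper3): the functional calculus `χ(g(M) y) = χ(y) ^ g(q)`, the cyclotomic polynomials
`Φ₁₂`, `Φ₃` and the Bezout identity `a Φ₁₂ + b Φ₃ = 2`

Clone of `Lib/Helper3/E8TPOLY.lean` + `e8torder_iter`.
-/

set_option autoImplicit false

open Polynomial

namespace Cfsg.Agent.E6T

/-- the functional calculus: `χ(g(M) y) = χ(y) ^ g(q)` -/
theorem cond_poly {K : Type*} [Field K] (q : ℕ) (M : Matrix (Fin 6) (Fin 6) ℤ) (x : Fin 6 → Kˣ) (h : Cond q M x)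
    (g : ℤ[X]) (y : Fin 6 → ℤ) : chiV x ((aeval M g).mulVec y) = chiV x y ^ (g.eval (q : ℤ)) := by
  revert y
  induction g using Polynomial.induction_on with
  | C a =>
    intro y
    rw [aeval_C, eval_C, Algebra.algebraMap_eq_smul_one, Matrix.smul_mulVec, Matrix.one_mulVec, chiV_zsmul]
  | add p p' hp hp' =>
    intro y
    rw [map_add, Matrix.add_mulVec, chiV_add, hp y, hp' y, eval_add, zpow_add]
  | monomial n a ih =>
    intro y
    have h1 : (aeval M (C a * X ^ (n + 1))) = aeval M (C a * X ^ n) * M := by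
      rw [pow_succ, ← mul_assoc, map_mul, aeval_X]
    rw [h1, ← Matrix.mulVec_mulVec, ih (M.mulVec y), cond_all h y]
    rw [← zpow_natCast, ← zpow_mul]
    congr 1
    simp only [eval_mul, eval_C, eval_pow, eval_X]
    ring

theorem cond_iter {K : Type*} [Field K] {q : ℕ} {M : Matrix (Fin 6) (Fin 6) ℤ} {x : Fin 6 → Kˣ}
    (h : Cond q M x) (k : ℕ) (y : Fin 6 → ℤ) : chiV x ((M ^ k).mulVec y) = chiV x y ^ (q ^ k) := by
  induction k generalizing y with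
  | zero => rw [pow_zero, pow_zero, pow_one, Matrix.one_mulVec]
  | succ k ih =>
    rw [pow_succ, ← Matrix.mulVec_mulVec, ih, cond_all h y, ← pow_mul, pow_succ, mul_comm]

theorem aeval_phi12 (M : Matrix (Fin 6) (Fin 6) ℤ) : aeval M (X ^ 4 - X ^ 2 + 1 : ℤ[X]) = Phi12M M := by
  simp only [map_add, map_sub, map_pow, aeval_X, map_one, Phi12M]

theorem aeval_phi3 (M : Matrix (Fin 6) (Fin 6) ℤ) : aeval M (X ^ 2 + X + 1 : ℤ[X]) = Phi3M M := by
  simp only [map_add, map_pow, aeval_X, map_one, Phi3M]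

theorem aeval_ppoly (M : Matrix (Fin 6) (Fin 6) ℤ) : aeval M Ppoly = PM M := by
  simp only [Ppoly, map_add, map_sub, map_pow, aeval_X, map_one, PM]

theorem ppoly_eq : Ppoly = (X ^ 4 - X ^ 2 + 1) * (X ^ 2 + X + 1) := by
  unfold Ppoly
  ring

theorem pm_eq (M : Matrix (Fin 6) (Fin 6) ℤ) : PM M = Phi12M M * Phi3M M := by
  rw [← aeval_ppoly, ppoly_eq, map_mul, aeval_phi12, aeval_phi3]

theorem pm_eq' (M : Matrix (Fin 6) (Fin 6) ℤ) : PM M = Phi3M M * Phi12M M := by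
  rw [← aeval_ppoly, ppoly_eq, mul_comm, map_mul, aeval_phi12, aeval_phi3]

theorem cyc3_eq : cyclotomic 3 ℤ = X ^ 2 + X + 1 := cyclotomic_three ℤ

/-- `Φ₆ = X² - X + 1` over `ℤ` -/
theorem poly_cyc6_eq : cyclotomic 6 ℤ = X ^ 2 - X + 1 := cyclotomic_six ℤ

theorem cyc12_eq : cyclotomic 12 ℤ = X ^ 4 - X ^ 2 + 1 := by
  -- `Φ₁₂(X) = Φ₆(X²)`
  have h := cyclotomic_expand_eq_cyclotomic (p := 2) (n := 6) Nat.prime_two (by norm_num) ℤ
  rw [show (6 * 2 : ℕ) = 12 from rfl] at h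
  rw [← h, poly_cyc6_eq]
  simp only [map_add, map_sub, map_pow, expand_X, map_one]
  ring

theorem bezout_two : ∃ a b : ℤ[X], a * (X ^ 4 - X ^ 2 + 1) + b * (X ^ 2 + X + 1) = 2 := by
  -- `X⁴ - X² + 1 = (X² - X - 1)(X² + X + 1) + 2X + 2` and `X² + X + 1 = X (X + 1) + 1`:
  -- `2 = 2 Φ₃ - X (2X + 2) = 2 Φ₃ - X (Φ₁₂ - (X² - X - 1) Φ₃) = -X Φ₁₂ + (X³ - X² - X + 2) Φ₃`
  refine ⟨-X, X ^ 3 - X ^ 2 - X + 2, ?_⟩
  ring

theorem ker_inter (M : Matrix (Fin 6) (Fin 6) ℤ) (y : Fin 6 → ℤ) (h12 : (Phi12M M).mulVec y = 0)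
    (h3 : (Phi3M M).mulVec y = 0) : y = 0 := by
  obtain ⟨a, b, hab⟩ := bezout_two
  have h : (aeval M (a * (X ^ 4 - X ^ 2 + 1) + b * (X ^ 2 + X + 1))).mulVec y = (aeval M (2 : ℤ[X])).mulVec y := by
    rw [hab]
  rw [map_add, map_mul, map_mul, aeval_phi12, aeval_phi3, Matrix.add_mulVec, ← Matrix.mulVec_mulVec,
    ← Matrix.mulVec_mulVec, h12, h3, Matrix.mulVec_zero, Matrix.mulVec_zero, add_zero] at h
  have h2 : (aeval M (2 : ℤ[X])) = (2 : ℤ) • (1 : Matrix (Fin 6) (Fin 6) ℤ) := by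
    rw [show (2 : ℤ[X]) = C 2 from rfl, aeval_C, Algebra.algebraMap_eq_smul_one]
  rw [h2, Matrix.smul_mulVec, Matrix.one_mulVec] at h
  funext i
  have hi := congrFun h i
  simp only [Pi.zero_apply, Pi.smul_apply, smul_eq_mul] at hi
  simp only [Pi.zero_apply]
  omega

end Cfsg.Agent.E6T
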