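import Mathlib
import Cfsg.Agent.Lib.E6T.Lat
import Cfsg.Agent.Lib.E6T.POLY
import Cfsg.Agent.Lib.E6T.FINORD
import Cfsg.Agent.Lib.E6T.ARITH12

/-!
# S2373 (E6 torus), lattice piece GOODB  [M]  (helper13's farm, row S2373; proved by helper7)

basic consequences of IsGood (Cayley-Hamilton; det(q-M) = charpoly.eval q; adjugate).
-/

set_option autoImplicit false
open Polynomial

namespace Cfsg.Agent.E6T

theorem good_pm {M : Matrix (Fin 6) (Fin 6) ℤ} (h : IsGood M) : PM M = 0 := by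
  rw [← aeval_ppoly, ← h.2]
  exact Matrix.aeval_self_charpoly M

/-- `X ^ 12 - 1 = P * (X ^ 6 - X ^ 5 + X ^ 4 - X ^ 2 + X - 1)` -/
theorem goodb_factor : (X ^ 12 - 1 : ℤ[X]) = Ppoly * (X ^ 6 - X ^ 5 + X ^ 4 - X ^ 2 + X - 1) := by
  unfold Ppoly
  ring

theorem good_pow12 {M : Matrix (Fin 6) (Fin 6) ℤ} (h : IsGood M) : M ^ 12 = 1 := by
  have h1 : aeval M (X ^ 12 - 1 : ℤ[X]) = 0 := by
    rw [goodb_factor, map_mul, aeval_ppoly, good_pm h, zero_mul]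
  simp only [map_sub, map_pow, aeval_X, map_one] at h1
  exact sub_eq_zero.1 h1

theorem goodb_pow_mulVec (M : Matrix (Fin 6) (Fin 6) ℤ) (y : Fin 6 → ℤ) (hy : M.mulVec y = y) (k : ℕ) :
    (M ^ k).mulVec y = y := by
  induction k with
  | zero => rw [pow_zero, Matrix.one_mulVec]
  | succ k ih => rw [pow_succ, ← Matrix.mulVec_mulVec, hy, ih]

theorem no_fixed (M : Matrix (Fin 6) (Fin 6) ℤ) (h : IsGood M) (y : Fin 6 → ℤ) (hy : M.mulVec y = y) : y = 0 := by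
  have h1 : (PM M).mulVec y = 0 := by rw [good_pm h, Matrix.zero_mulVec]
  unfold PM at h1
  rw [Matrix.add_mulVec, Matrix.add_mulVec, Matrix.sub_mulVec, Matrix.add_mulVec, goodb_pow_mulVec M y hy,
    goodb_pow_mulVec M y hy, goodb_pow_mulVec M y hy, hy, Matrix.one_mulVec] at h1
  funext i
  have h2 := congrFun h1 i
  simp only [Pi.add_apply, Pi.sub_apply, Pi.zero_apply] at h2
  show y i = 0
  omega

theorem goodb_eval (q : ℤ) : Ppoly.eval q = q ^ 6 + q ^ 5 - q ^ 3 + q + 1 := by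
  unfold Ppoly
  simp only [eval_add, eval_sub, eval_pow, eval_X, eval_one]

theorem goodb_det_scalar (a : ℤ) (M : Matrix (Fin 6) (Fin 6) ℤ) (hM : IsGood M) :
    (a • (1 : Matrix (Fin 6) (Fin 6) ℤ) - M).det = a ^ 6 + a ^ 5 - a ^ 3 + a + 1 := by
  have h1 := Matrix.eval_charpoly M a
  rw [hM.2, goodb_eval] at h1
  rw [h1]
  congr 1
  rw [Matrix.smul_one_eq_diagonal]
  rfl

theorem det_qM (q : ℕ) (M : Matrix (Fin 6) (Fin 6) ℤ) (hM : IsGood M) : (qM q M).det = (mq q : ℤ) := by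
  unfold qM
  rw [goodb_det_scalar (q : ℤ) M hM, mq_cast]

theorem det_one_sub (M : Matrix (Fin 6) (Fin 6) ℤ) (hM : IsGood M) : (1 - M).det = 3 := by
  have h := goodb_det_scalar 1 M hM
  rw [one_smul] at h
  rw [h]
  norm_num

theorem mq_smul_mem (q : ℕ) (M : Matrix (Fin 6) (Fin 6) ℤ) (hM : IsGood M) (y : Fin 6 → ℤ) :
    ∃ z : Fin 6 → ℤ, (qM q M).mulVec z = (mq q : ℤ) • y := by
  refine ⟨(Matrix.adjugate (qM q M)).mulVec y, ?_⟩
  rw [Matrix.mulVec_mulVec, Matrix.mul_adjugate, det_qM q M hM, Matrix.smul_mulVec, Matrix.one_mulVec]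

theorem goodb_factor6 : (X ^ 6 + 1 : ℤ[X]) = (X ^ 2 + 1) * (X ^ 4 - X ^ 2 + 1) := by
  ring

theorem goodb_geom : ((1 - X) * (1 + X + X ^ 2 + X ^ 3 + X ^ 4 + X ^ 5) : ℤ[X]) = 2 - (X ^ 6 + 1) := by
  ring

theorem exists_generic (M : Matrix (Fin 6) (Fin 6) ℤ) (hM : IsGood M) :
    ∃ i : Fin 6, (Phi12M M).mulVec (rc (sIdx i)) ≠ 0 := by
  by_contra hcon
  push Not at hcon
  -- `Φ₁₂(M) = 0`
  have h0 : Phi12M M = 0 := by
    ext i j
    have h1 := congrFun (hcon j) i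
    rw [rc_sIdx, Matrix.mulVec_single_one] at h1
    simpa using h1
  -- `M ^ 6 + 1 = 0`
  have h6 : aeval M (X ^ 6 + 1 : ℤ[X]) = 0 := by
    rw [goodb_factor6, map_mul, aeval_phi12, h0, mul_zero]
  -- `(1 - M) S = 2`
  have h2 : (1 - M) * aeval M (1 + X + X ^ 2 + X ^ 3 + X ^ 4 + X ^ 5 : ℤ[X]) = (2 : Matrix (Fin 6) (Fin 6) ℤ) := by
    have h3 : aeval M ((1 - X) * (1 + X + X ^ 2 + X ^ 3 + X ^ 4 + X ^ 5) : ℤ[X]) = aeval M (2 - (X ^ 6 + 1) : ℤ[X]) := by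
      rw [goodb_geom]
    have h3a : aeval M (1 - X : ℤ[X]) = 1 - M := by
      simp only [map_sub, map_one, aeval_X]
    have h3b : aeval M (2 - (X ^ 6 + 1) : ℤ[X]) = (2 : Matrix (Fin 6) (Fin 6) ℤ) := by
      have : aeval M (2 - (X ^ 6 + 1) : ℤ[X]) = aeval M (2 : ℤ[X]) - aeval M (X ^ 6 + 1 : ℤ[X]) := map_sub _ _ _
      rw [this, h6, sub_zero]
      exact map_ofNat (aeval M) 2
    rw [map_mul, h3a, h3b] at h3
    exact h3
  have h4 := congrArg Matrix.det h2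
  rw [Matrix.det_mul, det_one_sub M hM] at h4
  have h5 : (2 : Matrix (Fin 6) (Fin 6) ℤ).det = 64 := by
    have : (2 : Matrix (Fin 6) (Fin 6) ℤ) = (2 : ℤ) • (1 : Matrix (Fin 6) (Fin 6) ℤ) := by
      ext i j
      rw [Matrix.ofNat_apply, Matrix.smul_apply, Matrix.one_apply]
      by_cases hij : i = j
      · simp [hij]
      · simp [hij]
    rw [this, Matrix.det_smul, Matrix.det_one]
    norm_num
  rw [h5] at h4
  omega

end Cfsg.Agent.E6T
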