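import Mathlib
import Cfsg.Agent.Lib.E6T.Lat
import Cfsg.Agent.Lib.E6T.GOODB
import Cfsg.Agent.Lib.E6T.PD6
import Cfsg.Agent.Lib.E6T.POLY

/-!
# S2373 (E6 torus), lattice piece NOL2  [H]  (helper13's farm, row S2373; proved by helper16)

`a6_form_ne_two`: the form `k ↦ kᵀ A6 k` (three times the norm on the weight lattice) never takes the value `2`:
modulo `3` it is the square of `k₀ + 2 k₂ + k₄ + 2 k₅`.

`no_l2`: a vector `y` of norm `2` is not killed by `Φ₃(M)` for a good `M`.  Otherwise `M³ y = y`, `(y, M y) = -1`,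
`z = (1 - M²) y` has norm `6` and `(1 - M) z = 3 y`.  With `(M - 1) A6 = 3 X` (`IsW`), `det X = 1`, so `k = -X⁻¹ y` is
integral, `(1 - M) A6 k = 3 y`, hence `A6 k = z`, `3 k = C6 z` and `kᵀ A6 k = (z, z) / 3 = 2`.
-/

set_option autoImplicit false
open Polynomial

namespace Cfsg.Agent.E6T

theorem nol2_sq_mod (Q β : ℤ) : 3 * Q + β ^ 2 ≠ 2 := by
  intro h
  have h3 : β % 3 = 0 ∨ β % 3 = 1 ∨ β % 3 = 2 := by omega
  have hb : β = 3 * (β / 3) + β % 3 := (Int.mul_ediv_add_emod β 3).symm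
  obtain ⟨m, r, hmr, hr⟩ : ∃ m r : ℤ, β = 3 * m + r ∧ (r = 0 ∨ r = 1 ∨ r = 2) := ⟨β / 3, β % 3, hb, h3⟩
  have h2 : β ^ 2 = 3 * (3 * m ^ 2 + 2 * m * r) + r ^ 2 := by rw [hmr]; ring
  rw [h2] at h
  generalize 3 * m ^ 2 + 2 * m * r = X at h
  rcases hr with hr | hr | hr <;> rw [hr] at h <;> omega

theorem a6_form_ne_two (k : Fin 6 → ℤ) : k ⬝ᵥ A6.mulVec k ≠ 2 := by
  have h : k ⬝ᵥ A6.mulVec k = 3 * (1 * k 0 * k 0 + 1 * k 0 * k 1 + 1 * k 0 * k 2 + 2 * k 0 * k 3 + 1 * k 0 * k 4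
      + 1 * k 1 * k 0 + 2 * k 1 * k 1 + 2 * k 1 * k 2 + 3 * k 1 * k 3 + 2 * k 1 * k 4 + 1 * k 1 * k 5
      + 1 * k 2 * k 0 + 2 * k 2 * k 1 + 2 * k 2 * k 2 + 4 * k 2 * k 3 + 2 * k 2 * k 4
      + 2 * k 3 * k 0 + 3 * k 3 * k 1 + 4 * k 3 * k 2 + 6 * k 3 * k 3 + 4 * k 3 * k 4 + 2 * k 3 * k 5
      + 1 * k 4 * k 0 + 2 * k 4 * k 1 + 2 * k 4 * k 2 + 4 * k 4 * k 3 + 3 * k 4 * k 4 + 1 * k 4 * k 5
      + 1 * k 5 * k 1 + 2 * k 5 * k 3 + 1 * k 5 * k 4) + (k 0 + 2 * k 2 + k 4 + 2 * k 5) ^ 2 := by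
    simp only [dotProduct, Matrix.mulVec, A6, Fin.sum_univ_succ, Fin.sum_univ_zero, Matrix.of_apply,
      Matrix.cons_val', Matrix.cons_val_zero, Matrix.cons_val_succ, Matrix.empty_val', Matrix.cons_val_fin_one]
    simp
    ring
  rw [h]
  exact nol2_sq_mod _ _

/-- `M` is an isometry -/
theorem nol2_isom {M : Matrix (Fin 6) (Fin 6) ℤ} (h : M.transpose * C6 * M = C6) (u v : Fin 6 → ℤ) :
    ip (M.mulVec u) (M.mulVec v) = ip u v := by
  unfold ip
  rw [← Matrix.vecMul_transpose M u, ← Matrix.dotProduct_mulVec, Matrix.mulVec_mulVec, Matrix.mulVec_mulVec, h]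

/-- cancelling `1 - M` -/
theorem nol2_cancel {M : Matrix (Fin 6) (Fin 6) ℤ} (hd : (1 - M).det = 3) (a b : Fin 6 → ℤ)
    (h : (1 - M).mulVec a = (1 - M).mulVec b) : a = b := by
  have h1 : ((1 - M).adjugate * (1 - M)).mulVec a = ((1 - M).adjugate * (1 - M)).mulVec b := by
    rw [← Matrix.mulVec_mulVec, ← Matrix.mulVec_mulVec, h]
  rw [Matrix.adjugate_mul, hd, Matrix.smul_mulVec, Matrix.smul_mulVec, Matrix.one_mulVec,
    Matrix.one_mulVec] at h1
  funext i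
  have := congrFun h1 i
  simp only [Pi.smul_apply, smul_eq_mul] at this
  omega

theorem nol2_three : (3 : Matrix (Fin 6) (Fin 6) ℤ) = (3 : ℤ) • (1 : Matrix (Fin 6) (Fin 6) ℤ) := by
  ext i j
  simp [Matrix.one_apply, Matrix.ofNat_apply]

theorem nol2_det_a6 : A6.det = 243 := by
  have h := congrArg Matrix.det c6_mul_a6
  rw [Matrix.det_mul, c6_det] at h
  have h3 : (3 : Matrix (Fin 6) (Fin 6) ℤ).det = 729 := by
    rw [nol2_three, Matrix.det_smul, Matrix.det_one]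
    norm_num
  rw [h3] at h
  omega

theorem no_l2 (M : Matrix (Fin 6) (Fin 6) ℤ) (hM : IsGood M) (y : Fin 6 → ℤ) (hy : ip y y = 2) :
    (Phi3M M).mulVec y ≠ 0 := by
  intro h0
  obtain ⟨⟨hiso, -, hdiv⟩, -⟩ := id hM
  have hd : (1 - M).det = 3 := det_one_sub M hM
  -- `M² y = - y - M y`, `M³ y = y`
  have e2 : (M ^ 2).mulVec y = - y - M.mulVec y := by
    have : (M ^ 2).mulVec y + M.mulVec y + y = 0 := by
      have := h0
      unfold Phi3M at this
      rwa [Matrix.add_mulVec, Matrix.add_mulVec, Matrix.one_mulVec] at this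
    rw [eq_sub_iff_add_eq, eq_neg_iff_add_eq_zero]
    exact this
  have e2' : M.mulVec (M.mulVec y) = - y - M.mulVec y := by
    rw [Matrix.mulVec_mulVec, ← sq]; exact e2
  have e3 : M.mulVec (M.mulVec (M.mulVec y)) = y := by
    rw [e2', Matrix.mulVec_sub, Matrix.mulVec_neg, e2']
    abel
  -- inner products
  set c := ip y (M.mulVec y) with hc
  have hMy : ip (M.mulVec y) (M.mulVec y) = 2 := by rw [nol2_isom hiso, hy]
  have hc2 : ip y (M.mulVec (M.mulVec y)) = c := by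
    have := nol2_isom hiso (M.mulVec (M.mulVec y)) y
    rw [e3] at this
    rw [ip_comm, ← this]
  have hcm1 : c = -1 := by
    have h1 := hc2
    rw [e2', ip_sub_right, ip_neg_right, hy] at h1
    linarith
  -- `z`
  set z : Fin 6 → ℤ := y - M.mulVec (M.mulVec y) with hz
  have hzz : ip z z = 6 := by
    have hMMy : ip (M.mulVec (M.mulVec y)) (M.mulVec (M.mulVec y)) = 2 := by
      rw [nol2_isom hiso, hMy]
    rw [hz, ip_sub_left, ip_sub_right, ip_sub_right, hy, hMMy, hc2, ip_comm (M.mulVec (M.mulVec y)) y, hc2, hcm1]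
    norm_num
  have hz3 : (1 - M).mulVec z = (3 : ℤ) • y := by
    rw [hz, Matrix.sub_mulVec, Matrix.one_mulVec, Matrix.mulVec_sub, e3, e2']
    funext i
    simp only [Pi.sub_apply, Pi.neg_apply, Pi.smul_apply, smul_eq_mul]
    ring
  -- `X`
  let X : Matrix (Fin 6) (Fin 6) ℤ := Matrix.of fun i j => ((M - 1) * A6) i j / 3
  have hX : (M - 1) * A6 = (3 : ℤ) • X := by
    ext i j
    simp only [X, Matrix.smul_apply, Matrix.of_apply, smul_eq_mul]
    exact (Int.mul_ediv_cancel' (hdiv i j)).symm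
  have hdetX : X.det = 1 := by
    have h1 := congrArg Matrix.det hX
    rw [Matrix.det_mul, Matrix.det_smul, nol2_det_a6] at h1
    have h2 : (M - 1).det = 3 := by
      have : M - 1 = -(1 - M) := by abel
      rw [this, Matrix.det_neg, hd]
      norm_num
    rw [h2] at h1
    simp only [Fintype.card_fin] at h1
    omega
  set k : Fin 6 → ℤ := -(X.adjugate.mulVec y) with hk
  have hXk : X.mulVec k = -y := by
    rw [hk, Matrix.mulVec_neg, Matrix.mulVec_mulVec, Matrix.mul_adjugate, hdetX, one_smul, Matrix.one_mulVec]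
  have hAk : A6.mulVec k = z := by
    apply nol2_cancel hd
    rw [hz3, Matrix.mulVec_mulVec]
    have : (1 - M) * A6 = -((3 : ℤ) • X) := by
      rw [← hX]
      have : (1 : Matrix (Fin 6) (Fin 6) ℤ) - M = -(M - 1) := by abel
      rw [this, Matrix.neg_mul]
    rw [this, Matrix.neg_mulVec, Matrix.smul_mulVec, hXk, smul_neg, neg_neg]
  have h3k : C6.mulVec z = (3 : ℤ) • k := by
    rw [← hAk, Matrix.mulVec_mulVec, c6_mul_a6]
    rw [nol2_three, Matrix.smul_mulVec, Matrix.one_mulVec]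
  have hkz : 3 * (k ⬝ᵥ A6.mulVec k) = 6 := by
    rw [hAk, ← hzz]
    unfold ip
    rw [h3k, dotProduct_comm z, smul_dotProduct, smul_eq_mul]
  exact a6_form_ne_two k (by omega)

end Cfsg.Agent.E6T
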