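import Mathlib
import Cfsg.Agent.Lib.E6T.Lat
import Cfsg.Agent.Lib.E6T.PD6
import Cfsg.Agent.Lib.E6T.NOL2

/-!
# S2373 (E6 torus), lattice piece A6LOW  [M]  (helper13's farm, row S2373; proved by helper4)

The minimal norm of `3 P = A6 ℤ⁶` is `12`: `|A6 k|² = kᵀ A6ᵀ C6 A6 k = 3 kᵀ A6 k` (a6_mul_c6 / c6_mul_a6, `A6` symmetric);
`|A6 k|²` is even and positive for `k ≠ 0` (`A6 k = 0` implies `3 k = C6 A6 k = 0`; ip_self_even, ip_self_nonneg,
ip_self_eq_zero), so `kᵀ A6 k` is even, positive and `≠ 2` (a6_form_ne_two), hence `≥ 4`.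
-/

set_option autoImplicit false

namespace Cfsg.Agent.E6T

theorem a6low_c6_a6 (k : Fin 6 → ℤ) : C6.mulVec (A6.mulVec k) = (3 : ℤ) • k := by
  rw [Matrix.mulVec_mulVec, c6_mul_a6]
  rw [nol2_three, Matrix.smul_mulVec, Matrix.one_mulVec]

theorem a6low_ip (k : Fin 6 → ℤ) : ip (A6.mulVec k) (A6.mulVec k) = 3 * (k ⬝ᵥ A6.mulVec k) := by
  unfold ip
  rw [a6low_c6_a6, dotProduct_smul, smul_eq_mul, dotProduct_comm]

theorem a6_norm_lower (k : Fin 6 → ℤ) (hk : k ≠ 0) : 12 ≤ ip (A6.mulVec k) (A6.mulVec k) := by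
  have hne : A6.mulVec k ≠ 0 := by
    intro h0
    have h1 := a6low_c6_a6 k
    rw [h0, Matrix.mulVec_zero] at h1
    apply hk
    funext i
    have h2 := congrFun h1 i
    rw [Pi.zero_apply, Pi.smul_apply, smul_eq_mul] at h2
    rw [Pi.zero_apply]
    omega
  have h2 := ip_self_ge_two _ hne
  have h3 := ip_self_even (A6.mulVec k)
  have h4 := a6_form_ne_two k
  rw [a6low_ip] at h2 h3 ⊢
  obtain ⟨r, hr⟩ := h3
  omega

end Cfsg.Agent.E6T
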