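import Mathlib
import Cfsg.Agent.Lib.E6T.Lat
import Cfsg.Agent.Lib.E6T.PD6

/-!
# S2373 (E6 torus), lattice piece GRAMDET  [E]  (helper13's farm, row S2373; proved by helper4)

det(B^T C6 B) = 3 det(B)^2.
-/

set_option autoImplicit false
open Polynomial

namespace Cfsg.Agent.E6T

/-- `det (Bᵀ C6 B) = 3 (det B)²` and the entries of `Bᵀ C6 B` are the inner products of the columns -/
theorem gram_det (B : Matrix (Fin 6) (Fin 6) ℤ) : (B.transpose * C6 * B).det = 3 * B.det ^ 2 := by
  rw [Matrix.det_mul, Matrix.det_mul, Matrix.det_transpose, c6_det]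
  ring

theorem gram_entry (B : Matrix (Fin 6) (Fin 6) ℤ) (i j : Fin 6) :
    (B.transpose * C6 * B) i j = ip (fun a => B a i) (fun a => B a j) := by
  rw [Matrix.mul_assoc, Matrix.mul_apply]
  unfold ip
  rw [dotProduct]
  refine Finset.sum_congr rfl fun a _ => ?_
  rw [Matrix.transpose_apply, Matrix.mul_apply]
  rfl

end Cfsg.Agent.E6T
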