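import Mathlib
import Cfsg.Agent.Lib.E6T.Lat
import Cfsg.Agent.Lib.E6T.PD6
import Cfsg.Agent.Lib.E6T.FINORD

/-!
# S2373 (E6 torus), lattice piece ISWINV  [M]  (helper13's farm, row S2373; proved by helper14)

NEW: M' = M^(e-1) from isw_finorder works (isw_pow, isw_ip), no need for the A6 formula.
May use (already imported): PD6, FINORD; other E6T pieces only if they do not (transitively) import this one.  Keep names/statements/namespace; aux names
prefixed `iswinv_`.  Plan: `plans/S2373_plan.md`, full skeleton `plans/E6T_SkelL.lean.txt`.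
-/

set_option autoImplicit false
open Polynomial

namespace Cfsg.Agent.E6T

/-- the adjoint of an isometry is its inverse: `M⁻¹ = A6 Mᵀ C6 / 3`; here as an integral matrix -/
theorem isw_inv {M : Matrix (Fin 6) (Fin 6) ℤ} (h : IsW M) :
    ∃ M' : Matrix (Fin 6) (Fin 6) ℤ, M * M' = 1 ∧ M' * M = 1 ∧ IsW M' ∧
      ∀ y z : Fin 6 → ℤ, ip (M.mulVec y) z = ip y (M'.mulVec z) := by
  obtain ⟨e, he, hMe⟩ := isw_finorder h
  obtain ⟨k, rfl⟩ : ∃ k, e = k + 1 := ⟨e - 1, by omega⟩
  have h1 : M * M ^ k = 1 := by rw [← pow_succ', hMe]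
  have h2 : M ^ k * M = 1 := by rw [← pow_succ, hMe]
  refine ⟨M ^ k, h1, h2, isw_pow h k, ?_⟩
  intro y z
  have hz : M.mulVec ((M ^ k).mulVec z) = z := by
    rw [Matrix.mulVec_mulVec, h1, Matrix.one_mulVec]
  conv_lhs => rw [← hz]
  exact isw_ip h y _

end Cfsg.Agent.E6T
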