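import Mathlib
import Cfsg.Agent.Lib.E6T.Lat
import Cfsg.Agent.Lib.E6T.GOODB
import Cfsg.Agent.Lib.E6T.FINORD
import Cfsg.Agent.Lib.E6T.ISWINV

/-!
# S2373 (E6 torus), lattice piece GRAMREL  [M]  -- STUB (helper13's farm, row S2373)

c_k = (y, M^k y): relations from PM M = 0 and M^12 = 1, c_{-k} = c_k.
May use (already imported): GOODB, FINORD, ISWINV; other E6T pieces only if they do not (transitively) import this one.  Keep names/statements/namespace; aux names
prefixed `gramrel_`.  Plan: `plans/S2373_plan.md`, full skeleton `plans/E6T_SkelL.lean.txt`.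
-/

set_option autoImplicit false
open Polynomial

namespace Cfsg.Agent.E6T

/-- Toeplitz property for natural exponents, `a ≤ b` -/
theorem gramrel_le (M : Matrix (Fin 6) (Fin 6) ℤ) (hM : IsW M) (y : Fin 6 → ℤ) (a b : ℕ) (hab : a ≤ b) :
    ip ((M ^ a).mulVec y) ((M ^ b).mulVec y) = ip y ((M ^ (b - a)).mulVec y) := by
  have h1 : (M ^ b).mulVec y = (M ^ a).mulVec ((M ^ (b - a)).mulVec y) := by
    rw [Matrix.mulVec_mulVec, ← pow_add, Nat.add_sub_cancel' hab]
  rw [h1, isw_ip (isw_pow hM a)]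

/-- Toeplitz property for natural exponents, `b ≤ a` -/
theorem gramrel_ge (M : Matrix (Fin 6) (Fin 6) ℤ) (hM : IsW M) (y : Fin 6 → ℤ) (a b : ℕ) (hab : b ≤ a) :
    ip ((M ^ a).mulVec y) ((M ^ b).mulVec y) = ip y ((M ^ (a - b)).mulVec y) := by
  rw [ip_comm, gramrel_le M hM y b a hab]

/-- the relation `P(M) y = 0` paired with `M ^ j y` -/
theorem gramrel_pair (M : Matrix (Fin 6) (Fin 6) ℤ) (hM : IsGood M) (y : Fin 6 → ℤ) (j : ℕ) :
    ip ((M ^ j).mulVec y) ((M ^ 6).mulVec y) + ip ((M ^ j).mulVec y) ((M ^ 5).mulVec y)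
      - ip ((M ^ j).mulVec y) ((M ^ 3).mulVec y) + ip ((M ^ j).mulVec y) ((M ^ 1).mulVec y)
      + ip ((M ^ j).mulVec y) ((M ^ 0).mulVec y) = 0 := by
  have h0 : (PM M).mulVec y = 0 := by rw [good_pm hM, Matrix.zero_mulVec]
  have h1 : (PM M).mulVec y = (M ^ 6).mulVec y + (M ^ 5).mulVec y - (M ^ 3).mulVec y + (M ^ 1).mulVec y
      + (M ^ 0).mulVec y := by
    unfold PM
    rw [Matrix.add_mulVec, Matrix.add_mulVec, Matrix.sub_mulVec, Matrix.add_mulVec, pow_one, pow_zero]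
  have h2 : ip ((M ^ j).mulVec y) ((PM M).mulVec y) = 0 := by rw [h0, ip_zero_right]
  rw [h1, ip_add_right, ip_add_right, ip_sub_right, ip_add_right] at h2
  exact h2

theorem gram_rel (M : Matrix (Fin 6) (Fin 6) ℤ) (hM : IsGood M) (y : Fin 6 → ℤ) :
    2 * ip y ((M ^ 3).mulVec y) + 2 * ip y ((M ^ 2).mulVec y) = ip y y ∧
    ip y ((M ^ 4).mulVec y) + ip y ((M ^ 3).mulVec y) + ip y ((M ^ 2).mulVec y) = 0 ∧
    ip y ((M ^ 5).mulVec y) + ip y ((M ^ 4).mulVec y) - ip y ((M ^ 2).mulVec y) + ip y y + ip y (M.mulVec y) = 0 := by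
  have hW : IsW M := hM.1
  have e3 := gramrel_pair M hM y 3
  have e2 := gramrel_pair M hM y 2
  have e1 := gramrel_pair M hM y 1
  rw [gramrel_le M hW y 3 6 (by norm_num), gramrel_le M hW y 3 5 (by norm_num),
    gramrel_le M hW y 3 3 (by norm_num), gramrel_ge M hW y 3 1 (by norm_num),
    gramrel_ge M hW y 3 0 (by norm_num)] at e3
  rw [gramrel_le M hW y 2 6 (by norm_num), gramrel_le M hW y 2 5 (by norm_num),
    gramrel_le M hW y 2 3 (by norm_num), gramrel_ge M hW y 2 1 (by norm_num),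
    gramrel_ge M hW y 2 0 (by norm_num)] at e2
  rw [gramrel_le M hW y 1 6 (by norm_num), gramrel_le M hW y 1 5 (by norm_num),
    gramrel_le M hW y 1 3 (by norm_num), gramrel_le M hW y 1 1 (by norm_num),
    gramrel_ge M hW y 1 0 (by norm_num)] at e1
  norm_num at e1 e2 e3
  refine ⟨by linarith, by linarith, by linarith⟩

theorem gram_toeplitz (M : Matrix (Fin 6) (Fin 6) ℤ) (hM : IsW M) (y : Fin 6 → ℤ) (i j : Fin 6) (hij : i ≤ j) :
    ip ((M ^ i.val).mulVec y) ((M ^ j.val).mulVec y) = ip y ((M ^ (j.val - i.val)).mulVec y) := by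
  exact gramrel_le M hM y i.val j.val (by exact_mod_cast hij)

end Cfsg.Agent.E6T
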