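import Mathlib
import Cfsg.Agent.Lib.E6T.Lat

/-!
# S2373 (E6 torus), lattice piece TRDET6  [M]  -- STUB (helper13's farm, row S2373)

clone of Lib/Helper4/E8TTRDET.lean in dimension 6 (AM-GM on eigenvalues).
Mathlib + Lat only; other E6T pieces only if they do not (transitively) import this one.  Keep names/statements/namespace; aux names
prefixed `trdet6_`.  Plan: `plans/S2373_plan.md`, full skeleton `plans/E6T_SkelL.lean.txt`.
-/

set_option autoImplicit false
open Polynomial

namespace Cfsg.Agent.E6T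

/-- AM-GM for six nonnegative reals, in the product form -/
theorem trdet6_amgm (z : Fin 6 → ℝ) (hz : ∀ i, 0 ≤ z i) :
    ∏ i, z i ≤ ((∑ i, z i) / 6) ^ 6 := by
  have h := Real.geom_mean_le_arith_mean_weighted Finset.univ (fun _ : Fin 6 => (1 / 6 : ℝ)) z
    (fun _ _ => by norm_num) (by simp) (fun i _ => hz i)
  have h0 : 0 ≤ ∏ i : Fin 6, z i ^ (1 / 6 : ℝ) :=
    Finset.prod_nonneg fun i _ => Real.rpow_nonneg (hz i) _
  have h1 : (∏ i : Fin 6, z i ^ (1 / 6 : ℝ)) ^ 6 = ∏ i, z i := by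
    rw [← Finset.prod_pow]
    apply Finset.prod_congr rfl
    intro i _
    rw [← Real.rpow_natCast, ← Real.rpow_mul (hz i)]
    norm_num
  have h2 : ∑ i : Fin 6, (1 / 6 : ℝ) * z i = (∑ i, z i) / 6 := by
    rw [← Finset.mul_sum]
    ring
  rw [h2] at h
  calc ∏ i, z i = (∏ i : Fin 6, z i ^ (1 / 6 : ℝ)) ^ 6 := h1.symm
    _ ≤ ((∑ i, z i) / 6) ^ 6 := pow_le_pow_left₀ h0 h 6

theorem trdet6 (G : Matrix (Fin 6) (Fin 6) ℝ) (hG : G.PosSemidef) : G.det ≤ (G.trace / 6) ^ 6 := by
  have hH : G.IsHermitian := hG.isHermitian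
  have hdet : G.det = ∏ i, hH.eigenvalues i := by
    have := hH.det_eq_prod_eigenvalues
    simpa using this
  have htr : G.trace = ∑ i, hH.eigenvalues i := by
    have := hH.trace_eq_sum_eigenvalues
    simpa using this
  rw [hdet, htr]
  exact trdet6_amgm _ (fun i => hG.eigenvalues_nonneg i)

end Cfsg.Agent.E6T
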