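import Mathlib
import Cfsg.Agent.Lib.E6T.Lat
import Cfsg.Agent.Lib.E6T.TRDET6
import Cfsg.Agent.Lib.E6T.GRAMDET
import Cfsg.Agent.Lib.E6T.FINORD
import Cfsg.Agent.Lib.E6T.PD6

/-!
# S2373 (E6 torus), lattice piece HAD6  [M]  (helper13's farm, row S2373; proved by helper8)

clone of Lib/Helper3/E8THAD.lean: Hadamard-type bound `3 (det B)² ≤ ((∑ norms) / 6)⁶` for the `E₆` form, and the
Krylov determinant of a norm-2 vector under a Weyl group element has square at most `21`.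
-/

set_option autoImplicit false
open Polynomial

namespace Cfsg.Agent.E6T

/-- the quadratic form of `C6` over the reals, as a sum of squares (times `6`) -/
theorem had6_sos (x : Fin 6 → ℝ) :
    6 * (x ⬝ᵥ (C6.map (Int.cast : ℤ → ℝ)).mulVec x) =
      3 * (2 * x 0 - x 2) ^ 2 + 3 * (2 * x 1 - x 3) ^ 2 + (3 * x 2 - 2 * x 3) ^ 2 +
        3 * (2 * x 5 - x 4) ^ 2 + (3 * x 4 - 2 * x 3) ^ 2 + x 3 ^ 2 := by
  simp only [dotProduct, Matrix.mulVec, Fin.sum_univ_six, Matrix.map_apply, C6]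
  simp
  ring

theorem had6_c6_psd : (C6.map (Int.cast : ℤ → ℝ)).PosSemidef := by
  apply Matrix.PosSemidef.of_dotProduct_mulVec_nonneg
  · unfold Matrix.IsHermitian
    rw [Matrix.conjTranspose_eq_transpose_of_trivial, ← Matrix.transpose_map, C6_transpose]
  · intro x
    have h := had6_sos x
    have hstar : star x = x := by
      funext i
      simp
    rw [hstar]
    nlinarith [sq_nonneg (2 * x 0 - x 2), sq_nonneg (2 * x 1 - x 3), sq_nonneg (3 * x 2 - 2 * x 3),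
      sq_nonneg (2 * x 5 - x 4), sq_nonneg (3 * x 4 - 2 * x 3), sq_nonneg (x 3)]

/-- if the columns of `B` have norms `≤ s j` then `3 (det B)² ≤ ((∑ s j) / 6)⁶` (as reals) -/
theorem had6 (B : Matrix (Fin 6) (Fin 6) ℤ) (s : Fin 6 → ℤ) (hs : ∀ j, ip (fun a => B a j) (fun a => B a j) ≤ s j) :
    (3 * (B.det : ℝ) ^ 2) ≤ (((∑ j, s j : ℤ) : ℝ) / 6) ^ 6 := by
  set G : Matrix (Fin 6) (Fin 6) ℤ := B.transpose * C6 * B with hG
  have hdiag : ∀ j, G j j = ip (fun a => B a j) (fun a => B a j) := fun j => gram_entry B j j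
  have htrace : G.trace = ∑ j, ip (fun a => B a j) (fun a => B a j) := by
    unfold Matrix.trace
    simp only [Matrix.diag_apply, hdiag]
  have htr_le : G.trace ≤ ∑ j, s j := by
    rw [htrace]
    exact Finset.sum_le_sum fun j _ => hs j
  have htr_nonneg : 0 ≤ G.trace := by
    rw [htrace]
    exact Finset.sum_nonneg fun j _ => ip_self_nonneg _
  have hGdet : G.det = 3 * B.det ^ 2 := gram_det B
  -- cast to the reals
  set f : ℤ →+* ℝ := Int.castRingHom ℝ with hf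
  have hGR : f.mapMatrix G = (f.mapMatrix B).conjTranspose * C6.map (Int.cast : ℤ → ℝ) * f.mapMatrix B := by
    rw [Matrix.conjTranspose_eq_transpose_of_trivial, hG, map_mul, map_mul]
    rfl
  have hpsd : (f.mapMatrix G).PosSemidef := by
    rw [hGR]
    exact had6_c6_psd.conjTranspose_mul_mul_same _
  have h1 := trdet6 _ hpsd
  have hdetR : (f.mapMatrix G).det = ((3 * B.det ^ 2 : ℤ) : ℝ) := by
    rw [← RingHom.map_det, hGdet]
    rfl
  have htrR : (f.mapMatrix G).trace = ((G.trace : ℤ) : ℝ) := by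
    have : (f.mapMatrix G).trace = f G.trace := by
      unfold Matrix.trace
      rw [map_sum]
      rfl
    rw [this]
    rfl
  rw [hdetR, htrR] at h1
  have h2 : ((G.trace : ℤ) : ℝ) / 6 ≤ ((∑ j, s j : ℤ) : ℝ) / 6 := by
    have : ((G.trace : ℤ) : ℝ) ≤ ((∑ j, s j : ℤ) : ℝ) := by exact_mod_cast htr_le
    linarith
  have h3 : (0 : ℝ) ≤ ((G.trace : ℤ) : ℝ) / 6 := by
    have : (0 : ℝ) ≤ ((G.trace : ℤ) : ℝ) := by exact_mod_cast htr_nonneg
    linarith
  have h4 : (((G.trace : ℤ) : ℝ) / 6) ^ 6 ≤ (((∑ j, s j : ℤ) : ℝ) / 6) ^ 6 := pow_le_pow_left₀ h3 h2 6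
  have h5 : (3 * (B.det : ℝ) ^ 2) = ((3 * B.det ^ 2 : ℤ) : ℝ) := by
    push_cast
    ring
  rw [h5]
  exact h1.trans h4

theorem had_krylov (M : Matrix (Fin 6) (Fin 6) ℤ) (hM : IsW M) (y : Fin 6 → ℤ) (hy : ip y y = 2) :
    (krylov M y).det ^ 2 ≤ 21 := by
  set B : Matrix (Fin 6) (Fin 6) ℤ := krylov M y with hB
  have hcol : ∀ j : Fin 6, ip (fun a => B a j) (fun a => B a j) ≤ (fun _ : Fin 6 => (2 : ℤ)) j := by
    intro j
    have hc : (fun a => B a j) = (M ^ j.val).mulVec y := by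
      funext a
      rfl
    rw [hc, isw_ip (isw_pow hM j.val), hy]
  have h := had6 B (fun _ => 2) hcol
  have hsum : ((∑ _j : Fin 6, (2 : ℤ) : ℤ) : ℝ) = 12 := by
    simp
  rw [hsum] at h
  have h2 : (3 * (B.det : ℝ) ^ 2) ≤ 64 := by
    refine h.trans ?_
    norm_num
  have h3 : ((3 * B.det ^ 2 : ℤ) : ℝ) ≤ ((64 : ℤ) : ℝ) := by
    rw [Int.cast_mul, Int.cast_pow, Int.cast_ofNat, Int.cast_ofNat]
    exact h2
  have h4 : 3 * B.det ^ 2 ≤ 64 := by exact_mod_cast h3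
  omega

end Cfsg.Agent.E6T
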