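import Mathlib
import Cfsg.Agent.Lib.E6T.Lat
import Cfsg.Agent.Lib.E6T.GOODB
import Cfsg.Agent.Lib.E6T.NOL2
import Cfsg.Agent.Lib.E6T.PD6
import Cfsg.Agent.Lib.E6T.POLY
import Cfsg.Agent.Lib.E6T.FINORD

/-!
# S2373 (E6 torus), lattice piece NOEIG  [M]  -- STUB (helper13's farm, row S2373)

NEW: explicit polynomial identities.
May use (already imported): GOODB, NOL2, PD6, POLY, FINORD; other E6T pieces only if they do not (transitively) import this one.  Keep names/statements/namespace; aux names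
prefixed `noeig_`.  Plan: `plans/S2373_plan.md`, full skeleton `plans/E6T_SkelL.lean.txt`.
-/

set_option autoImplicit false
open Polynomial

namespace Cfsg.Agent.E6T

theorem noeig_mv_add (M : Matrix (Fin 6) (Fin 6) ℤ) (a b c : ℕ) (hc : c = a + b) (y : Fin 6 → ℤ) :
    (M ^ c).mulVec y = (M ^ a).mulVec ((M ^ b).mulVec y) := by
  subst hc
  rw [pow_add, Matrix.mulVec_mulVec]

theorem noeig_pm (M : Matrix (Fin 6) (Fin 6) ℤ) (hM : IsGood M) (y : Fin 6 → ℤ) :
    (M ^ 6).mulVec y + (M ^ 5).mulVec y - (M ^ 3).mulVec y + M.mulVec y + y = 0 := by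
  have h := congrArg (fun A : Matrix (Fin 6) (Fin 6) ℤ => A.mulVec y) (good_pm hM)
  simp only [PM, Matrix.add_mulVec, Matrix.sub_mulVec, Matrix.one_mulVec, Matrix.zero_mulVec] at h
  exact h

theorem noeig_ne_zero (y : Fin 6 → ℤ) (hy : ip y y = 2) : y ≠ 0 := by
  rintro rfl
  simp [ip] at hy

theorem noeig (M : Matrix (Fin 6) (Fin 6) ℤ) (hM : IsGood M) (y : Fin 6 → ℤ) (hy : ip y y = 2) :
    M.mulVec y ≠ -y ∧ M.mulVec y ≠ y ∧ (M ^ 2).mulVec y ≠ -y ∧ (M ^ 3).mulVec y ≠ y ∧ (M ^ 5).mulVec y ≠ -y := by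
  have hy0 := noeig_ne_zero y hy
  have hP := noeig_pm M hM y
  have h1' : ∀ v : Fin 6 → ℤ, (M ^ 1).mulVec v = M.mulVec v := fun v => by rw [pow_one]
  refine ⟨?_, ?_, ?_, ?_, ?_⟩
  · -- `M y = -y`
    intro h
    apply hy0
    have h2 : (M ^ 2).mulVec y = y := by
      rw [noeig_mv_add M 1 1 2 rfl y, h1', h1', h, Matrix.mulVec_neg, h, neg_neg]
    have h3 : (M ^ 3).mulVec y = -y := by
      rw [noeig_mv_add M 1 2 3 rfl y, h2, h1', h]
    have h5 : (M ^ 5).mulVec y = -y := by
      rw [noeig_mv_add M 3 2 5 rfl y, h2, h3]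
    have h6 : (M ^ 6).mulVec y = y := by
      rw [noeig_mv_add M 3 3 6 rfl y, h3, Matrix.mulVec_neg, h3, neg_neg]
    rw [h6, h5, h3, h] at hP
    funext i
    have := congrFun hP i
    simp only [Pi.add_apply, Pi.sub_apply, Pi.neg_apply, Pi.zero_apply] at this ⊢
    omega
  · -- `M y = y`
    intro h
    exact hy0 (no_fixed M hM y h)
  · -- `M² y = -y`
    intro h
    apply hy0
    have h3 : (M ^ 3).mulVec y = -(M.mulVec y) := by
      rw [noeig_mv_add M 1 2 3 rfl y, h, Matrix.mulVec_neg, h1']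
    have h4 : (M ^ 4).mulVec y = y := by
      rw [noeig_mv_add M 2 2 4 rfl y, h, Matrix.mulVec_neg, h, neg_neg]
    have h5 : (M ^ 5).mulVec y = M.mulVec y := by
      rw [noeig_mv_add M 1 4 5 rfl y, h4, h1']
    have h6 : (M ^ 6).mulVec y = -y := by
      rw [noeig_mv_add M 2 4 6 rfl y, h4, h]
    rw [h6, h5, h3] at hP
    have hMy : M.mulVec y = 0 := by
      funext i
      have := congrFun hP i
      simp only [Pi.add_apply, Pi.sub_apply, Pi.neg_apply, Pi.zero_apply] at this ⊢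
      omega
    have h2' : (M ^ 2).mulVec y = 0 := by
      rw [noeig_mv_add M 1 1 2 rfl y, h1', h1', hMy, Matrix.mulVec_zero]
    rw [h2'] at h
    have := congrArg Neg.neg h
    rw [neg_neg, neg_zero] at this
    exact this.symm
  · -- `M³ y = y`
    intro h
    have h5 : (M ^ 5).mulVec y = (M ^ 2).mulVec y := by
      rw [noeig_mv_add M 2 3 5 rfl y, h]
    have h6 : (M ^ 6).mulVec y = y := by
      rw [noeig_mv_add M 3 3 6 rfl y, h, h]
    rw [h6, h5, h] at hP
    apply no_l2 M hM y hy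
    simp only [Phi3M, Matrix.add_mulVec, Matrix.one_mulVec]
    funext i
    have := congrFun hP i
    simp only [Pi.add_apply, Pi.sub_apply, Pi.zero_apply] at this ⊢
    omega
  · -- `M⁵ y = -y`
    intro h
    apply hy0
    have h6 : (M ^ 6).mulVec y = -(M.mulVec y) := by
      rw [noeig_mv_add M 1 5 6 rfl y, h, Matrix.mulVec_neg, h1']
    rw [h6, h] at hP
    have h3 : (M ^ 3).mulVec y = 0 := by
      funext i
      have := congrFun hP i
      simp only [Pi.add_apply, Pi.sub_apply, Pi.neg_apply, Pi.zero_apply] at this ⊢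
      omega
    have h5' : (M ^ 5).mulVec y = 0 := by
      rw [noeig_mv_add M 2 3 5 rfl y, h3, Matrix.mulVec_zero]
    rw [h5'] at h
    have := congrArg Neg.neg h
    rw [neg_neg, neg_zero] at this
    exact this.symm

end Cfsg.Agent.E6T
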