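import Mathlib
import Cfsg.Agent.Lib.E6T.Lat
import Cfsg.Agent.Lib.E6T.GOODB
import Cfsg.Agent.Lib.E6T.GRAMREL
import Cfsg.Agent.Lib.E6T.GRAMDET
import Cfsg.Agent.Lib.E6T.NOL2
import Cfsg.Agent.Lib.E6T.NOEIG
import Cfsg.Agent.Lib.E6T.HAD6
import Cfsg.Agent.Lib.E6T.PD6
import Cfsg.Agent.Lib.E6T.FINORD

/-!
# S2373 (E6 torus), lattice piece GENU  [H]  (helper13's farm, row S2373)

With `c_k = (y, M^k y)`: `c = (2, c₁, c₂, 1 - c₂, -1, c₂ - c₁ - 1)` (GRAMREL).  NOEIG, `no_fixed` and the hypothesis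
`Φ₁₂(M) y ≠ 0` (which gives `c₂ ≠ 1`, as `|Φ₁₂(M) y|² = 4 - 4 c₂`) leave only `(c₁, c₂) = (-1, 0), (0, 0)`; in both cases
the Toeplitz (= Gram) determinant is `3`, so `3 D² = 3`.
-/

set_option autoImplicit false
open Polynomial

namespace Cfsg.Agent.E6T

/-- the symmetric Toeplitz matrix with first row `t` -/
def genu_T (t : List ℤ) : Matrix (Fin 6) (Fin 6) ℤ :=
  Matrix.of fun i j => t.getD (if i.val ≤ j.val then j.val - i.val else i.val - j.val) 0

set_option maxRecDepth 1000000 in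
theorem genu_detA : (genu_T [2, -1, 0, 1, -1, 0]).det = 3 := by decide +kernel

set_option maxRecDepth 1000000 in
theorem genu_detB : (genu_T [2, 0, 0, 1, -1, -1]).det = 3 := by decide +kernel

/-- 25 explicit determinants: the Toeplitz matrix of `(2, c₁, c₂, 1 - c₂, -1, c₂ - c₁ - 1)` has determinant `3` or `0` or
`≥ 27`; the cases with determinant `27` or `48` are excluded by NOEIG / NOL2 -/
theorem genu (M : Matrix (Fin 6) (Fin 6) ℤ) (hM : IsGood M) (y : Fin 6 → ℤ) (hy : ip y y = 2)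
    (h : (Phi12M M).mulVec y ≠ 0) : (krylov M y).det = 1 ∨ (krylov M y).det = -1 := by
  have hW : IsW M := hM.1
  obtain ⟨cf, hcf⟩ : ∃ cf : ℕ → ℤ, ∀ k, cf k = ip y ((M ^ k).mulVec y) := ⟨_, fun _ => rfl⟩
  have hnorm : ∀ k, ip ((M ^ k).mulVec y) ((M ^ k).mulVec y) = 2 := by
    intro k
    rw [isw_ip (isw_pow hW k), hy]
  have hb : ∀ k, cf k ≤ 2 ∧ -2 ≤ cf k := by
    intro k
    rw [hcf]
    exact ip_le_two y _ hy (hnorm k)
  have hM1 : (M ^ 1).mulVec y = M.mulVec y := by rw [pow_one]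
  have hc0 : cf 0 = 2 := by rw [hcf, pow_zero, Matrix.one_mulVec, hy]
  obtain ⟨r1, r2, r3⟩ := gram_rel M hM y
  rw [← hM1] at r3
  simp only [← hcf] at r1 r2 r3
  rw [hy] at r1 r3
  have e3 : cf 3 = 1 - cf 2 := by linarith
  have e4 : cf 4 = -1 := by linarith
  have e5 : cf 5 = cf 2 - cf 1 - 1 := by linarith
  -- the Toeplitz property
  have gt : ∀ a b : ℕ, a ≤ b → b < 6 →
      ip ((M ^ a).mulVec y) ((M ^ b).mulVec y) = cf (b - a) := by
    intro a b hab hb6
    rw [hcf]
    exact gram_toeplitz M hW y ⟨a, by omega⟩ ⟨b, hb6⟩ (by simpa using hab)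
  -- exclusions
  obtain ⟨n1, n2, n3, n4, n5⟩ := noeig M hM y hy
  have hn1 := hnorm 1
  rw [hM1] at hn1
  have x1 : cf 1 ≠ -2 := by
    intro hh
    rw [hcf, hM1] at hh
    exact n1 (neg_eq_iff_eq_neg.mp (ip_eq_neg_two y _ hy hn1 hh).symm)
  have x2 : cf 1 ≠ 2 := by
    intro hh
    rw [hcf, hM1] at hh
    exact n2 (ip_eq_two y _ hy hn1 hh).symm
  have x3 : cf 2 ≠ -2 := by
    intro hh
    rw [hcf] at hh
    exact n3 (neg_eq_iff_eq_neg.mp (ip_eq_neg_two y _ hy (hnorm 2) hh).symm)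
  have x4 : cf 3 ≠ 2 := by
    intro hh
    rw [hcf] at hh
    exact n4 (ip_eq_two y _ hy (hnorm 3) hh).symm
  have x5 : cf 5 ≠ -2 := by
    intro hh
    rw [hcf] at hh
    exact n5 (neg_eq_iff_eq_neg.mp (ip_eq_neg_two y _ hy (hnorm 5) hh).symm)
  have x6 : cf 2 ≠ 2 := by
    intro hh
    rw [hcf] at hh
    have h2 : (M ^ 2).mulVec y = y := (ip_eq_two y _ hy (hnorm 2) hh).symm
    have h3 : M.mulVec (M.mulVec y + y) = M.mulVec y + y := by
      rw [Matrix.mulVec_add, Matrix.mulVec_mulVec, ← pow_two, h2, add_comm]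
    have h4 := no_fixed M hM _ h3
    exact n1 (eq_neg_of_add_eq_zero_left h4)
  have x7 : cf 2 ≠ 1 := by
    intro hh
    apply h
    apply ip_self_eq_zero
    have hu : (Phi12M M).mulVec y = (M ^ 4).mulVec y - (M ^ 2).mulVec y + y := by
      unfold Phi12M
      rw [Matrix.add_mulVec, Matrix.sub_mulVec, Matrix.one_mulVec]
    have g44 := hnorm 4
    have g22 := hnorm 2
    have g24 := gt 2 4 (by norm_num) (by norm_num)
    have g42 : ip ((M ^ 4).mulVec y) ((M ^ 2).mulVec y) = cf 2 := by rw [ip_comm]; exact g24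
    have g04 : ip y ((M ^ 4).mulVec y) = cf 4 := (hcf 4).symm
    have g40 : ip ((M ^ 4).mulVec y) y = cf 4 := by rw [ip_comm]; exact g04
    have g02 : ip y ((M ^ 2).mulVec y) = cf 2 := (hcf 2).symm
    have g20 : ip ((M ^ 2).mulVec y) y = cf 2 := by rw [ip_comm]; exact g02
    rw [hu]
    simp only [ip_add_left, ip_add_right, ip_sub_left, ip_sub_right]
    rw [g44, g22, g24, g42, g04, g40, g02, g20, hy]
    norm_num at g24 ⊢
    linarith
  -- the remaining cases
  have hc2 : cf 2 = 0 := by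
    have b2 := hb 2
    have b3 := hb 3
    omega
  have hc1 : cf 1 = -1 ∨ cf 1 = 0 := by
    have b1 := hb 1
    omega
  -- the Gram matrix of the Krylov basis
  have hcol : ∀ i : Fin 6, (fun a => krylov M y a i) = (M ^ i.val).mulVec y := by
    intro i
    funext a
    rfl
  have hG : ∀ i j : Fin 6, ((krylov M y).transpose * C6 * krylov M y) i j =
      cf (if i.val ≤ j.val then j.val - i.val else i.val - j.val) := by
    intro i j
    rw [gram_entry, hcol, hcol]
    split_ifs with hij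
    · exact gt i.val j.val hij j.isLt
    · rw [ip_comm]
      exact gt j.val i.val (by omega) i.isLt
  have hfin : ∀ t : List ℤ, (∀ k < 6, cf k = t.getD k 0) → (genu_T t).det = 3 →
      (krylov M y).det = 1 ∨ (krylov M y).det = -1 := by
    intro t ht hdet
    have hGT : (krylov M y).transpose * C6 * krylov M y = genu_T t := by
      ext i j
      rw [hG]
      unfold genu_T
      rw [Matrix.of_apply]
      apply ht
      split_ifs <;> omega
    have h3 := gram_det (krylov M y)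
    rw [hGT, hdet] at h3
    have h4 : ((krylov M y).det - 1) * ((krylov M y).det + 1) = 0 := by nlinarith
    rcases mul_eq_zero.1 h4 with h5 | h5
    · left; linarith
    · right; linarith
  rcases hc1 with hc1 | hc1
  · apply hfin [2, -1, 0, 1, -1, 0] _ genu_detA
    intro k hk
    have e5' : cf 5 = 0 := by rw [e5, hc2, hc1]; norm_num
    have e3' : cf 3 = 1 := by rw [e3, hc2]; norm_num
    interval_cases k
    · exact hc0
    · exact hc1
    · exact hc2
    · exact e3'
    · exact e4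
    · exact e5'
  · apply hfin [2, 0, 0, 1, -1, -1] _ genu_detB
    intro k hk
    have e5' : cf 5 = -1 := by rw [e5, hc2, hc1]; norm_num
    have e3' : cf 3 = 1 := by rw [e3, hc2]; norm_num
    interval_cases k
    · exact hc0
    · exact hc1
    · exact hc2
    · exact e3'
    · exact e4
    · exact e5'

end Cfsg.Agent.E6T
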