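import Mathlib
import Cfsg.Agent.Lib.E6T.Lat
import Cfsg.Agent.Lib.E6T.GENU
import Cfsg.Agent.Lib.E6T.GOODB
import Cfsg.Agent.Lib.E6T.TAB
import Cfsg.Agent.Lib.E6T.PD6

/-!
# S2373 (E6 torus), lattice piece GEN  [M]  (helper13's farm, row S2373)

cf. Lib/Helper1/E8TGEN.lean; much easier: krylov M w unimodular.
-/

set_option autoImplicit false
open Polynomial

namespace Cfsg.Agent.E6T

/-- the lattice `L' = (q - M) ℤ⁶` -/
def gen_L (q : ℕ) (M : Matrix (Fin 6) (Fin 6) ℤ) : Submodule ℤ (Fin 6 → ℤ) :=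
  LinearMap.range (Matrix.mulVecLin (qM q M))

theorem gen_mem (q : ℕ) (M : Matrix (Fin 6) (Fin 6) ℤ) (y : Fin 6 → ℤ) :
    y ∈ gen_L q M ↔ ∃ z : Fin 6 → ℤ, y = (qM q M).mulVec z := by
  unfold gen_L
  rw [LinearMap.mem_range]
  constructor
  · rintro ⟨z, hz⟩
    exact ⟨z, by rw [← hz, Matrix.mulVecLin_apply]⟩
  · rintro ⟨z, hz⟩
    exact ⟨z, by rw [hz, Matrix.mulVecLin_apply]⟩

/-- `M^j y ≡ q^j y` modulo `L'` -/
theorem gen_pow (q : ℕ) (M : Matrix (Fin 6) (Fin 6) ℤ) (y : Fin 6 → ℤ) (j : ℕ) :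
    (M ^ j).mulVec y - ((q : ℤ) ^ j) • y ∈ gen_L q M := by
  induction j with
  | zero => simp
  | succ j ih =>
    have e : (M ^ (j + 1)).mulVec y - ((q : ℤ) ^ (j + 1)) • y =
        (q : ℤ) • ((M ^ j).mulVec y - ((q : ℤ) ^ j) • y) - (qM q M).mulVec ((M ^ j).mulVec y) := by
      rw [qM_mulVec, Matrix.mulVec_mulVec, ← pow_succ', smul_sub, smul_smul, ← pow_succ']
      abel
    rw [e]
    refine Submodule.sub_mem _ (Submodule.smul_mem _ _ ih) ?_
    exact (gen_mem q M _).2 ⟨_, rfl⟩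

theorem gen_krylov_mulVec (M : Matrix (Fin 6) (Fin 6) ℤ) (y c : Fin 6 → ℤ) :
    (krylov M y).mulVec c = ∑ j : Fin 6, c j • (M ^ j.val).mulVec y := by
  funext k
  simp only [krylov, Matrix.mulVec, dotProduct, Matrix.of_apply, Finset.sum_apply, Pi.smul_apply,
    smul_eq_mul]
  exact Finset.sum_congr rfl fun j _ => mul_comm _ _

theorem gen_exists (q : ℕ) (M : Matrix (Fin 6) (Fin 6) ℤ) (hM : IsGood M) :
    ∃ v < 72, ∃ c : Fin 6 → ℤ, ∀ y : Fin 6 → ℤ, ∃ z : Fin 6 → ℤ, y - (c ⬝ᵥ y) • rc v = (qM q M).mulVec z := by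
  classical
  obtain ⟨i0, hi0⟩ := exists_generic M hM
  have hv : sIdx i0 < 72 := sIdx_lt i0
  refine ⟨sIdx i0, hv, ?_⟩
  set v := sIdx i0 with hvdef
  have hdet := genu M hM (rc v) (ip_rc v hv) hi0
  set B := krylov M (rc v) with hB
  set D := B.det with hD
  have hDD : D * D = 1 := by
    rcases hdet with h | h <;> rw [h] <;> norm_num
  -- `D e_i ≡ s_i v`
  have hstep : ∀ i : Fin 6, ∃ s : ℤ, D • (Pi.single i (1 : ℤ) : Fin 6 → ℤ) - s • rc v ∈ gen_L q M := by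
    intro i
    set cv := (Matrix.adjugate B).mulVec (Pi.single i (1 : ℤ)) with hcv
    have h1 : B.mulVec cv = D • (Pi.single i (1 : ℤ) : Fin 6 → ℤ) := by
      rw [hcv, Matrix.mulVec_mulVec, Matrix.mul_adjugate, Matrix.smul_mulVec, Matrix.one_mulVec]
    refine ⟨∑ j : Fin 6, cv j * (q : ℤ) ^ j.val, ?_⟩
    rw [← h1, hB, gen_krylov_mulVec, Finset.sum_smul, ← Finset.sum_sub_distrib]
    refine Submodule.sum_mem _ fun j _ => ?_
    rw [mul_smul, ← smul_sub]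
    exact Submodule.smul_mem _ _ (gen_pow q M (rc v) j.val)
  choose s hs using hstep
  refine ⟨fun i => D * s i, ?_⟩
  -- `e_i ≡ D s_i v`
  have hei : ∀ i : Fin 6, (Pi.single i (1 : ℤ) : Fin 6 → ℤ) - (D * s i) • rc v ∈ gen_L q M := by
    intro i
    have e : (Pi.single i (1 : ℤ) : Fin 6 → ℤ) - (D * s i) • rc v =
        D • (D • (Pi.single i (1 : ℤ) : Fin 6 → ℤ) - s i • rc v) := by
      have h2 : (Pi.single i (1 : ℤ) : Fin 6 → ℤ) =
          (D * D) • (Pi.single i (1 : ℤ) : Fin 6 → ℤ) := by rw [hDD, one_smul]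
      conv_lhs => rw [h2]
      rw [smul_sub, smul_smul, smul_smul]
    rw [e]
    exact Submodule.smul_mem _ _ (hs i)
  intro y
  rw [← gen_mem]
  have e : y - ((fun i => D * s i) ⬝ᵥ y) • rc v =
      ∑ i : Fin 6, y i • ((Pi.single i (1 : ℤ) : Fin 6 → ℤ) - (D * s i) • rc v) := by
    funext k
    simp only [Pi.sub_apply, Pi.smul_apply, smul_eq_mul, Finset.sum_apply, dotProduct, mul_sub,
      Finset.sum_sub_distrib, Finset.sum_mul]
    congr 1
    · rw [Finset.sum_eq_single k]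
      · rw [Pi.single_eq_same, mul_one]
      · intro j _ hj
        rw [Pi.single_eq_of_ne hj.symm, mul_zero]
      · intro h
        exact absurd (Finset.mem_univ k) h
    · exact Finset.sum_congr rfl fun j _ => by ring
  rw [e]
  exact Submodule.sum_mem _ fun i _ => Submodule.smul_mem _ _ (hei i)

end Cfsg.Agent.E6T
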