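import Mathlib
import Cfsg.Agent.Lib.E6T.Lat

/-!
# S2373 (E6 torus), lattice piece INDEX  [E]  (helper13's farm, row S2373; proved by helper6)

clone of Lib/Helper4/E8TINDEX.lean.
Mathlib + Lat only; other E6T pieces only if they do not (transitively) import this one.  Keep names/statements/namespace; aux names
prefixed `index_`.  Plan: `plans/S2373_plan.md`, full skeleton `plans/E6T_SkelL.lean.txt`.
-/

set_option autoImplicit false
open Polynomial

namespace Cfsg.Agent.E6T

theorem index_injective (A : Matrix (Fin 6) (Fin 6) ℤ) (hA : A.det ≠ 0) :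
    Function.Injective (Matrix.mulVecLin A) := by
  intro x y hxy
  exact Matrix.mulVec_injective_of_det_ne_zero hA hxy

theorem index_det (A : Matrix (Fin 6) (Fin 6) ℤ) (hA : A.det ≠ 0) :
    Nat.card ((Fin 6 → ℤ) ⧸ (LinearMap.range (Matrix.mulVecLin A)).toAddSubgroup) = A.det.natAbs := by
  set N : Submodule ℤ (Fin 6 → ℤ) := LinearMap.range (Matrix.mulVecLin A) with hN
  let e : (Fin 6 → ℤ) ≃ₗ[ℤ] N := LinearEquiv.ofInjective (Matrix.mulVecLin A)
    (index_injective A hA)
  have h1 := Submodule.natAbs_det_equiv N e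
  have h2 : N.subtype ∘ₗ AddMonoidHom.toIntLinearMap ((e : (Fin 6 → ℤ) →+ N)) =
      Matrix.mulVecLin A := by
    apply LinearMap.ext
    intro x
    rfl
  rw [h2] at h1
  have h3 : LinearMap.det (Matrix.mulVecLin A) = A.det := by
    have : Matrix.mulVecLin A = Matrix.toLin' A := rfl
    rw [this, LinearMap.det_toLin']
  rw [h3] at h1
  rw [h1]
  rfl

end Cfsg.Agent.E6T
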