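import Mathlib
import Cfsg.Agent.Lib.E6T.Lat
import Cfsg.Agent.Lib.E6T.GOODB
import Cfsg.Agent.Lib.Helper4.KerCard

/-!
# S2373 (E6 torus), lattice piece ORD  [M]  (helper13's farm, row S2373; proved by helper4)

clone of Lib/Helper1/E8TORD.lean: the image of a root in `ℤ⁶ / (q - M) ℤ⁶` has order `mq q`.
-/

set_option autoImplicit false
open Polynomial

namespace Cfsg.Agent.E6T

theorem ord_mq_pos (q : ℕ) : 0 < mq q := by
  unfold mq m12 m3
  exact Nat.mul_pos (Nat.succ_pos _) (Nat.succ_pos _)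

theorem ord_gen (q : ℕ) (M : Matrix (Fin 6) (Fin 6) ℤ) (hM : IsGood M) (v : ℕ) (hv : v < 72) (c : Fin 6 → ℤ)
    (hc : ∀ y : Fin 6 → ℤ, ∃ z : Fin 6 → ℤ, y - (c ⬝ᵥ y) • rc v = (qM q M).mulVec z) (k : ℤ)
    (z : Fin 6 → ℤ) (h : k • rc v = (qM q M).mulVec z) : (mq q : ℤ) ∣ k := by
  classical
  have hdet : (qM q M).det = (mq q : ℤ) := det_qM q M hM
  have hdet0 : (qM q M).det ≠ 0 := by
    rw [hdet]
    exact_mod_cast (ord_mq_pos q).ne'
  have hcard := Cfsg.Agent.Helper4.KerCard.kercard_index_det (qM q M) hdet0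
  rw [hdet, Int.natAbs_natCast] at hcard
  set S : AddSubgroup (Fin 6 → ℤ) := (LinearMap.range (Matrix.mulVecLin (qM q M))).toAddSubgroup with hS
  have hmemS : ∀ y : Fin 6 → ℤ, y ∈ S ↔ ∃ z : Fin 6 → ℤ, y = (qM q M).mulVec z := by
    intro y
    rw [hS, Submodule.mem_toAddSubgroup, LinearMap.mem_range]
    constructor
    · rintro ⟨z, hz⟩
      exact ⟨z, by rw [← hz, Matrix.mulVecLin_apply]⟩
    · rintro ⟨z, hz⟩
      exact ⟨z, by rw [hz, Matrix.mulVecLin_apply]⟩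
  set vb : (Fin 6 → ℤ) ⧸ S := QuotientAddGroup.mk (rc v) with hvb
  have hgen : ∀ x : (Fin 6 → ℤ) ⧸ S, x ∈ AddSubgroup.zmultiples vb := by
    intro x
    induction x using QuotientAddGroup.induction_on with
    | H y =>
      obtain ⟨z', hz'⟩ := hc y
      rw [AddSubgroup.mem_zmultiples_iff]
      refine ⟨c ⬝ᵥ y, ?_⟩
      rw [hvb, ← QuotientAddGroup.mk_zsmul, QuotientAddGroup.eq]
      rw [(hmemS _)]
      exact ⟨z', by rw [← hz']; abel⟩
  have horder : addOrderOf vb = Nat.card ((Fin 6 → ℤ) ⧸ S) :=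
    addOrderOf_eq_card_of_forall_mem_zmultiples hgen
  rw [hcard] at horder
  have hk : k • vb = 0 := by
    rw [hvb, ← QuotientAddGroup.mk_zsmul, QuotientAddGroup.eq_zero_iff, hmemS]
    exact ⟨z, h⟩
  have := addOrderOf_dvd_iff_zsmul_eq_zero.2 hk
  rwa [horder] at this

end Cfsg.Agent.E6T
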