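import Mathlib
import Cfsg.Agent.Lib.E6T.Lat
import Cfsg.Agent.Lib.E6T.GEN
import Cfsg.Agent.Lib.E6T.ORD
import Cfsg.Agent.Lib.E6T.INDEX
import Cfsg.Agent.Lib.E6T.GOODB
import Cfsg.Agent.Lib.E6T.POLY
import Cfsg.Agent.Lib.E6T.ARITH12

/-!
# S2373 (E6 torus), lattice piece CARD  [H]  (helper13's farm, row S2373; proved by helper4)

clone of Lib/Helper1/E8TCARD.lean: the group `A_M = {x : χ_x ∘ M = χ_x ^ q}` is cyclic of order `mq q`,
and a lattice vector killed by all of `A_M` lies in `(q - M) ℤ⁶`.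
-/

set_option autoImplicit false
open Polynomial

namespace Cfsg.Agent.E6T

theorem card_mq_pos (q : ℕ) : 0 < mq q := by
  unfold mq m12 m3
  exact Nat.mul_pos (Nat.succ_pos _) (Nat.succ_pos _)

/-- the coefficient vector `c` with `y ≡ (c·y) v` modulo `L'`, `v` a suitable root -/
theorem card_core (q : ℕ) (M : Matrix (Fin 6) (Fin 6) ℤ) (hM : IsGood M) :
    ∃ v < 72, ∃ c : Fin 6 → ℤ,
      (∀ y : Fin 6 → ℤ, ∃ z : Fin 6 → ℤ, y - (c ⬝ᵥ y) • rc v = (qM q M).mulVec z) ∧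
      (mq q : ℤ) ∣ 1 - c ⬝ᵥ rc v ∧
      ∀ y : Fin 6 → ℤ, (mq q : ℤ) ∣ c ⬝ᵥ (qM q M).mulVec y := by
  obtain ⟨v, hv, c, hc⟩ := gen_exists q M hM
  refine ⟨v, hv, c, hc, ?_, ?_⟩
  · obtain ⟨z, hz⟩ := hc (rc v)
    apply ord_gen q M hM v hv c hc _ z
    rw [← hz, sub_smul, one_smul]
  · intro y
    obtain ⟨z, hz⟩ := hc ((qM q M).mulVec y)
    apply ord_gen q M hM v hv c hc _ (y - z)
    rw [Matrix.mulVec_sub, ← hz]
    abel

section K

variable {K : Type*} [Field K]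

theorem card_prod_zpow {ι : Type*} (ξ : Kˣ) (s : Finset ι) (f : ι → ℤ) :
    ∏ i ∈ s, ξ ^ f i = ξ ^ ∑ i ∈ s, f i := by
  classical
  induction s using Finset.induction_on with
  | empty => simp
  | insert a s ha ih => rw [Finset.prod_insert ha, Finset.sum_insert ha, zpow_add, ih]

theorem card_zpow_of_dvd {ξ : Kˣ} {m : ℕ} (hξ : ξ ^ m = 1) {k : ℤ} (hk : (m : ℤ) ∣ k) : ξ ^ k = 1 := by
  obtain ⟨j, rfl⟩ := hk
  rw [zpow_mul, zpow_natCast, hξ, one_zpow]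

/-- `χ_x` is trivial on `L'` -/
theorem card_kills {q : ℕ} {M : Matrix (Fin 6) (Fin 6) ℤ} {x : Fin 6 → Kˣ} (h : Cond q M x)
    (z : Fin 6 → ℤ) : chiV x ((qM q M).mulVec z) = 1 := by
  rw [qM_mulVec, chiV_sub, cond_all h, natCast_zsmul, chiV_nsmul, div_self']

/-- `χ_x(y) = χ_x(v) ^ (c·y)` -/
theorem card_eval {q : ℕ} {M : Matrix (Fin 6) (Fin 6) ℤ} {x : Fin 6 → Kˣ} (h : Cond q M x)
    {c : Fin 6 → ℤ} {v : Fin 6 → ℤ}
    (hc : ∀ y : Fin 6 → ℤ, ∃ z : Fin 6 → ℤ, y - (c ⬝ᵥ y) • v = (qM q M).mulVec z) (y : Fin 6 → ℤ) :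
    chiV x y = chiV x v ^ (c ⬝ᵥ y) := by
  obtain ⟨z, hz⟩ := hc y
  have h1 := card_kills h z
  rw [← hz, chiV_sub, chiV_zsmul] at h1
  exact div_eq_one.1 h1

/-- the character with coordinates `ξ ^ c i` -/
theorem card_chiV_pow (ξ : Kˣ) (c y : Fin 6 → ℤ) :
    chiV (fun i => ξ ^ c i) y = ξ ^ (c ⬝ᵥ y) := by
  unfold chiV
  rw [dotProduct, ← card_prod_zpow]
  exact Finset.prod_congr rfl fun i _ => (zpow_mul ξ (c i) (y i)).symm

/-- the existence of a character in `A_M` with a given value at `v` -/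
theorem card_exists (q : ℕ) (M : Matrix (Fin 6) (Fin 6) ℤ) {c : Fin 6 → ℤ} {v : ℕ}
    (h1 : (mq q : ℤ) ∣ 1 - c ⬝ᵥ rc v)
    (h2 : ∀ y : Fin 6 → ℤ, (mq q : ℤ) ∣ c ⬝ᵥ (qM q M).mulVec y)
    (ξ : Kˣ) (hξ : ξ ^ mq q = 1) :
    Cond q M (fun i => ξ ^ c i) ∧ chiV (fun i => ξ ^ c i) (rc v) = ξ := by
  constructor
  · intro u _
    rw [card_chiV_pow, card_chiV_pow, ← zpow_natCast, ← zpow_mul]
    have h3 := card_zpow_of_dvd hξ (h2 (rc u))
    rw [qM_mulVec, dotProduct_sub, dotProduct_smul, smul_eq_mul, zpow_sub] at h3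
    have h4 := div_eq_one.1 h3
    rw [← h4, mul_comm]
  · rw [card_chiV_pow]
    have h3 := card_zpow_of_dvd hξ h1
    rw [zpow_sub, zpow_one] at h3
    exact (div_eq_one.1 h3).symm

end K

theorem corew3 {K : Type*} [Field K] (q : ℕ) (ζ : Kˣ) (hζ : orderOf ζ = mq q)
    (M : Matrix (Fin 6) (Fin 6) ℤ) (hM : IsGood M) :
    IsCyclic (condSubgroup K q M) ∧ Nat.card (condSubgroup K q M) = mq q := by
  classical
  obtain ⟨v, hv, c, hc, h1, h2⟩ := card_core q M hM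
  have hm0 : 0 < mq q := card_mq_pos q
  -- the evaluation homomorphism
  let φ : condSubgroup K q M →* Kˣ :=
    { toFun := fun x => chiV x.1 (rc v)
      map_one' := chiV_one_left _
      map_mul' := fun x y => chiV_mul_left x.1 y.1 _ }
  have hφ : ∀ x : condSubgroup K q M, φ x = chiV x.1 (rc v) := fun _ => rfl
  have hinj : Function.Injective φ := by
    rw [injective_iff_map_eq_one]
    intro x hx
    rw [hφ] at hx
    apply Subtype.ext
    apply chiV_ext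
    intro i
    rw [card_eval x.2 hc, hx, one_zpow]
    exact (chiV_one_left _).symm
  -- roots of unity
  have hroot : ∀ x : condSubgroup K q M, (φ x) ^ mq q = 1 := by
    intro x
    obtain ⟨z, hz⟩ := mq_smul_mem q M hM (rc v)
    have := card_kills x.2 z
    rw [hz, natCast_zsmul, chiV_nsmul] at this
    exact this
  -- the generator
  have hζm : ζ ^ mq q = 1 := by rw [← hζ]; exact pow_orderOf_eq_one ζ
  obtain ⟨hx0, hx0v⟩ := card_exists (K := K) q M h1 h2 ζ hζm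
  set x0 : condSubgroup K q M := ⟨fun i => ζ ^ c i, hx0⟩ with hx0def
  have hφx0 : φ x0 = ζ := hx0v
  have hprim : IsPrimitiveRoot ζ (mq q) := by
    rw [← hζ]
    exact IsPrimitiveRoot.orderOf ζ
  have hgen : ∀ x : condSubgroup K q M, x ∈ Subgroup.zpowers x0 := by
    intro x
    have : NeZero (mq q) := ⟨hm0.ne'⟩
    have hprimK : IsPrimitiveRoot ((ζ : Kˣ) : K) (mq q) := IsPrimitiveRoot.coe_units_iff.2 hprim
    have hrootK : ((φ x : Kˣ) : K) ^ mq q = 1 := by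
      rw [← Units.val_pow_eq_pow_val, hroot x, Units.val_one]
    obtain ⟨i, -, hiK⟩ := hprimK.eq_pow_of_pow_eq_one hrootK
    have hi : ζ ^ i = φ x := by
      apply Units.ext
      rw [Units.val_pow_eq_pow_val]
      exact hiK
    rw [Subgroup.mem_zpowers_iff]
    refine ⟨(i : ℤ), ?_⟩
    apply hinj
    rw [zpow_natCast, map_pow, hφx0, hi]
  refine ⟨⟨⟨x0, hgen⟩⟩, ?_⟩
  rw [← orderOf_eq_card_of_forall_mem_zpowers hgen, ← orderOf_injective φ hinj x0, hφx0, hζ]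

theorem dual {K : Type*} [Field K] (q : ℕ) (ζ : Kˣ) (hζ : orderOf ζ = mq q)
    (M : Matrix (Fin 6) (Fin 6) ℤ) (hM : IsGood M) (y : Fin 6 → ℤ)
    (hy : ∀ x : Fin 6 → Kˣ, Cond q M x → chiV x y = 1) : ∃ z : Fin 6 → ℤ, y = (qM q M).mulVec z := by
  obtain ⟨v, hv, c, hc, h1, h2⟩ := card_core q M hM
  have hζm : ζ ^ mq q = 1 := by rw [← hζ]; exact pow_orderOf_eq_one ζ
  obtain ⟨hx0, hx0v⟩ := card_exists (K := K) q M h1 h2 ζ hζm
  have h3 := hy _ hx0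
  rw [card_chiV_pow] at h3
  have h4 : (mq q : ℤ) ∣ c ⬝ᵥ y := by
    rw [← hζ]
    exact orderOf_dvd_iff_zpow_eq_one.2 h3
  obtain ⟨j, hj⟩ := h4
  obtain ⟨z, hz⟩ := hc y
  obtain ⟨z', hz'⟩ := mq_smul_mem q M hM (rc v)
  refine ⟨z + j • z', ?_⟩
  rw [Matrix.mulVec_add, Matrix.mulVec_smul, ← hz, hz', hj, smul_smul, mul_comm j]
  abel

end Cfsg.Agent.E6T
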