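import Mathlib
import Cfsg.Agent.Lib.E6T.Defs
import Cfsg.Agent.S1035

/-!
# S2373 piece CHIB6 (helper13; clone of helper11's `Lib/Helper11/E8TCHIB8.lean`): the values of `T(K)` at the fundamental
roots of `E₆`; a character of the root lattice comes from `T(K)` iff its value at `β = (1,0,2,0,1,2)` is a cube
-/

set_option autoImplicit false
set_option linter.unusedSectionVars false
set_option linter.unusedVariables false

namespace Cfsg.Agent.E6T

open Cfsg Cfsg.Lie Cfsg.Agent.Lead.Chev Cfsg.Agent.Lead.Tw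

/-- the column of the Cartan numbers of the root `v` -/
def e6tchib_cart (v : ℕ) : Fin 6 → ℤ := fun i => chevE6.cartan i.val v

theorem e6tchib_cart_table : ∀ v : Fin 72, ∀ i : Fin 6,
    chevE6.cartan i.val v.val = ∑ j : Fin 6, rc v.val j * chevE6.cartan i.val (sIdx j) := by
  decide +kernel

theorem e6tchib_cart_eq (v : ℕ) (hv : v < 72) :
    e6tchib_cart v = ∑ j : Fin 6, rc v j • e6tchib_cart (sIdx j) := by
  funext i
  rw [Finset.sum_apply]
  simp only [Pi.smul_apply, smul_eq_mul]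
  exact e6tchib_cart_table ⟨v, hv⟩ i

theorem e6tchib_cart_simple : ∀ j i : Fin 6, e6tchib_cart (sIdx j) i = C6 i j := by
  decide +kernel

section K

variable {K : Type*} [Field K]

/-- the character of `E₆` in terms of `chiV` -/
theorem e6tchib_chi (u : Fin 6 → Kˣ) (c : ℕ → K) (hu : ∀ i : Fin 6, ((u i : Kˣ) : K) = c i.val) (v : ℕ) :
    chi chevE6 c v = ((chiV u (e6tchib_cart v) : Kˣ) : K) := by
  unfold chi chiV e6tchib_cart
  have : chevE6.rank = 6 := rfl
  rw [this]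
  have h0 : ((u 0 : Kˣ) : K) = c 0 := hu 0
  have h1 : ((u 1 : Kˣ) : K) = c 1 := hu 1
  have h2 : ((u 2 : Kˣ) : K) = c 2 := hu 2
  have h3 : ((u 3 : Kˣ) : K) = c 3 := hu 3
  have h4 : ((u 4 : Kˣ) : K) = c 4 := hu 4
  have h5 : ((u 5 : Kˣ) : K) = c 5 := hu 5
  simp [List.range_succ, mul_assoc, Fin.prod_univ_six, h0, h1, h2, h3, h4, h5]

theorem e6tchib_ev_Tmat (h : GL chevE6.Idx K) (c : ℕ → K)
    (e : (h : Matrix chevE6.Idx chevE6.Idx K) = Tmat chevE6 c) (v : ℕ) (hv : v < 72) :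
    ev h v = chi chevE6 c v := by
  unfold ev
  have hv' : v < chevE6.nroots := hv
  rw [dif_pos hv', e]
  unfold Tmat
  rw [Matrix.diagonal_apply_eq]
  rfl

/-- the values of `ev` as a character of the root lattice -/
theorem e6tchib_exists_units (h : GL chevE6.Idx K) (hh : h ∈ chevE6.diagonalSubgroup K) :
    ∃ u : Fin 6 → Kˣ, ∀ v < 72, ev h v = ((chiV u (e6tchib_cart v) : Kˣ) : K) := by
  obtain ⟨c, hc, e⟩ := exists_Tmat_of_mem chevE6 (e6F K).hall h hh
  refine ⟨fun i => Units.mk0 (c i.val) (hc i.val i.2), fun v hv => ?_⟩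
  rw [e6tchib_ev_Tmat h c e v hv]
  exact e6tchib_chi _ c (fun i => rfl) v

theorem ev_rc (h : GL chevE6.Idx K) (hh : h ∈ chevE6.diagonalSubgroup K) (v : ℕ) (hv : v < 72) :
    ev h v = ∏ i : Fin 6, ev h (sIdx i) ^ rc v i := by
  obtain ⟨u, hu⟩ := e6tchib_exists_units h hh
  rw [hu v hv, e6tchib_cart_eq v hv, chiV_sum, Units.coe_prod]
  refine Finset.prod_congr rfl fun i _ => ?_
  rw [chiV_zsmul, hu (sIdx i) (sIdx_lt i), Units.val_zpow_eq_zpow_val]

theorem eq_one_of_ev (h : GL chevE6.Idx K) (hh : h ∈ chevE6.diagonalSubgroup K)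
    (h1 : ∀ i : Fin 6, ev h (sIdx i) = 1) : h = 1 := by
  obtain ⟨c, hc, e⟩ := exists_Tmat_of_mem chevE6 (e6F K).hall h hh
  apply Units.ext
  rw [e, Units.val_one, ← Matrix.diagonal_one]
  unfold Tmat
  congr 1
  funext idx
  rcases idx with i | v
  · rfl
  · have hv : v.val < 72 := v.2
    have h4 := ev_rc h hh v.val hv
    simp only [h1, one_zpow, Finset.prod_const_one] at h4
    rw [e6tchib_ev_Tmat h c e v.val hv] at h4
    simpa using h4

/-- the vector `β = (1,0,2,0,1,2)` (`≡ 3 ω₁` modulo `3 Q`) -/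
def e6tchib_beta : Fin 6 → ℤ := ![1, 0, 2, 0, 1, 2]

/-- the matrix `(A6 - β βᵀ) / 3` -/
def e6tchib_B : Matrix (Fin 6) (Fin 6) ℤ :=
  !![1, 1, 1, 2, 1, 0;
    1, 2, 2, 3, 2, 1;
    1, 2, 2, 4, 2, 0;
    2, 3, 4, 6, 4, 2;
    1, 2, 2, 4, 3, 1;
    0, 1, 0, 2, 1, 0]

def e6tchib_brow (i : Fin 6) : Fin 6 → ℤ := fun k => e6tchib_B i k

/-- `C6 β / 3` -/
def e6tchib_m : Fin 6 → ℤ := ![0, 0, 1, -1, 0, 1]

theorem e6tchib_key : ∀ j : Fin 6,
    (e6tchib_m j • e6tchib_beta + ∑ i : Fin 6, C6 i j • e6tchib_brow i) = Pi.single j 1 := by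
  decide +kernel

theorem e6tchib_beta_cart : ∀ j : Fin 6, ∑ i : Fin 6, e6tchib_beta i * C6 i j = 3 * e6tchib_m j := by
  decide +kernel

theorem e6tchib_chiV_beta (X : Fin 6 → Kˣ) : chiV X e6tchib_beta = X 0 * X 2 ^ 2 * X 4 * X 5 ^ 2 := by
  unfold chiV e6tchib_beta
  simp [Fin.prod_univ_six]

theorem e6tchib_prod_zpow (S : Kˣ) (f : Fin 6 → ℤ) : ∏ i, S ^ f i = S ^ ∑ i, f i := by
  simp only [Fin.prod_univ_six, Fin.sum_univ_six, zpow_add]

/-- a character of the root lattice whose value at `β` is a cube comes from `T(K)` -/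
theorem exists_ev6 (x : Fin 6 → K) (hx : ∀ i, x i ≠ 0) (hcube : ∃ s : K, s ^ 3 = x 0 * x 2 ^ 2 * x 4 * x 5 ^ 2) :
    ∃ h ∈ chevE6.diagonalSubgroup K, ∀ i : Fin 6, ev h (sIdx i) = x i := by
  have hF := e6F K
  obtain ⟨s, hs⟩ := hcube
  have hs0 : s ≠ 0 := by
    rintro rfl
    have h1 : x 0 * x 2 ^ 2 * x 4 * x 5 ^ 2 ≠ 0 :=
      mul_ne_zero (mul_ne_zero (mul_ne_zero (hx 0) (pow_ne_zero _ (hx 2))) (hx 4)) (pow_ne_zero _ (hx 5))
    exact h1 (by rw [← hs]; ring)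
  let X : Fin 6 → Kˣ := fun i => Units.mk0 (x i) (hx i)
  let S : Kˣ := Units.mk0 s hs0
  have hS : S ^ 3 = chiV X e6tchib_beta := by
    rw [e6tchib_chiV_beta]
    apply Units.ext
    simp only [Units.val_pow_eq_pow_val, Units.val_mul]
    exact hs
  let c : Fin chevE6.rank → Kˣ := fun i => S ^ (e6tchib_beta i) * chiV X (e6tchib_brow i)
  have hmem : torusHom chevE6 K c ∈ chevE6.diagonalSubgroup K := by
    rw [← torusHom_range chevE6 hF.xadd hF.hsimple hF.hall (fun i hi => hF.simple_lt i hi)]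
    exact ⟨c, rfl⟩
  refine ⟨torusHom chevE6 K c, hmem, fun j => ?_⟩
  rw [e6tchib_ev_Tmat _ _ (torusHom_val chevE6 c) (sIdx j) (sIdx_lt j),
    e6tchib_chi c (extC chevE6 c) (fun i => (extC_lt chevE6 c i.val i.2).symm) (sIdx j)]
  have key : chiV c (e6tchib_cart (sIdx j)) = X j := by
    have e0 : chiV c (e6tchib_cart (sIdx j)) =
        (∏ i : Fin 6, (S ^ (e6tchib_beta i)) ^ (C6 i j)) * ∏ i : Fin 6, (chiV X (e6tchib_brow i)) ^ (C6 i j) := by
      unfold chiV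
      rw [← Finset.prod_mul_distrib]
      refine Finset.prod_congr rfl fun i _ => ?_
      rw [e6tchib_cart_simple, ← mul_zpow]
      rfl
    have e1 : (∏ i : Fin 6, (S ^ (e6tchib_beta i)) ^ (C6 i j)) = chiV X (e6tchib_m j • e6tchib_beta) := by
      rw [chiV_zsmul, ← hS]
      have : ∀ i : Fin 6, (S ^ (e6tchib_beta i)) ^ (C6 i j) = S ^ (e6tchib_beta i * C6 i j) := fun i => (zpow_mul _ _ _).symm
      simp only [this]
      rw [e6tchib_prod_zpow, e6tchib_beta_cart j]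
      rw [zpow_mul]
      rfl
    have e2 : (∏ i : Fin 6, (chiV X (e6tchib_brow i)) ^ (C6 i j)) =
        chiV X (∑ i : Fin 6, C6 i j • e6tchib_brow i) := by
      rw [chiV_sum]
      refine Finset.prod_congr rfl fun i _ => ?_
      rw [chiV_zsmul]
    rw [e0, e1, e2, ← chiV_add, e6tchib_key j, chiV_single, zpow_one]
  rw [key]
  rfl

/-- `gcd(3, |K| - 1) · |T(K)| = (|K| - 1)⁶` -/
theorem card_torus [Fintype K] :
    Nat.gcd 3 (Fintype.card K - 1) * Nat.card (chevE6.diagonalSubgroup K) = (Fintype.card K - 1) ^ 6 := by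
  have h := Cfsg.Agent.S1035.result (F := K) (q := Fintype.card K) rfl (chevE6, Nat.gcd 3 (Fintype.card K - 1))
    (by simp)
  have hr : chevE6.rank = 6 := rfl
  simp only [hr] at h
  exact h

end K

end Cfsg.Agent.E6T
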