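import Mathlib
import Cfsg.Agent.Lib.E6T.Lat

/-!
# S2373 piece IRR6 (helper3; clone of `Lib/Helper3/E8TIRR.lean`): generic linear algebra over `ℚ`
for an irreducible annihilating polynomial, and the irreducibility of `Φ₁₂`, `Φ₃`.
-/

set_option autoImplicit false

open Polynomial

namespace Cfsg.Agent.E6T

/-- `f` irreducible, `f(N) y = 0`, `y ≠ 0`, `g ≠ 0` of smaller degree: `g(N) y ≠ 0` -/
theorem irr_indep (N : Matrix (Fin 6) (Fin 6) ℚ) (f : ℚ[X]) (hf : Irreducible f) (y : Fin 6 → ℚ)
    (hy : y ≠ 0) (h : (aeval N f).mulVec y = 0) (g : ℚ[X]) (hg : g ≠ 0)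
    (hdeg : g.natDegree < f.natDegree) : (aeval N g).mulVec y ≠ 0 := by
  intro hgN
  have hndvd : ¬ f ∣ g := by
    intro hdvd
    have h1 := Polynomial.natDegree_le_of_dvd hdvd hg
    omega
  have hcop : IsCoprime f g := (EuclideanDomain.dvd_or_coprime f g hf).resolve_left hndvd
  obtain ⟨a, b, hab⟩ := hcop
  apply hy
  have h1 : (aeval N (a * f + b * g)).mulVec y = y := by
    rw [hab, map_one, Matrix.one_mulVec]
  rw [map_add, map_mul, map_mul, Matrix.add_mulVec, ← Matrix.mulVec_mulVec,
    ← Matrix.mulVec_mulVec, h, hgN, Matrix.mulVec_zero, Matrix.mulVec_zero, add_zero] at h1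
  exact h1.symm

/-- linear independence form of `irr_indep` -/
theorem irr6_linindep (N : Matrix (Fin 6) (Fin 6) ℚ) (f : ℚ[X]) (hf : Irreducible f)
    (y : Fin 6 → ℚ) (hN : (aeval N f).mulVec y = 0) (hy : y ≠ 0) :
    LinearIndependent ℚ (fun j : Fin f.natDegree => (N ^ j.val).mulVec y) := by
  rw [Fintype.linearIndependent_iff]
  intro c hc
  set g : ℚ[X] := ∑ j : Fin f.natDegree, C (c j) * X ^ (j : ℕ) with hg
  have hgN : (aeval N g).mulVec y = 0 := by
    rw [hg, map_sum, Matrix.sum_mulVec, ← hc]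
    refine Finset.sum_congr rfl fun j _ => ?_
    rw [map_mul, aeval_C, map_pow, aeval_X, Algebra.algebraMap_eq_smul_one, smul_mul_assoc,
      one_mul, Matrix.smul_mulVec]
  have hdeg : g.degree < f.natDegree := Polynomial.degree_sum_fin_lt c
  by_cases hg0 : g = 0
  · intro j
    have h1 : g.coeff (j : ℕ) = c j := by
      rw [hg, Polynomial.finsetSum_coeff]
      simp only [Polynomial.coeff_C_mul_X_pow]
      rw [Finset.sum_eq_single j]
      · simp
      · intro b _ hb
        rw [if_neg]
        intro hjb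
        exact hb (Fin.ext hjb.symm)
      · intro h
        exact absurd (Finset.mem_univ j) h
    rw [hg0] at h1
    simpa using h1.symm
  · exfalso
    have hnd : g.natDegree < f.natDegree := by
      rw [Polynomial.degree_eq_natDegree hg0] at hdeg
      exact_mod_cast hdeg
    exact irr_indep N f hf y hy hN g hg0 hnd hgN

/-- an integral `6 × 6` matrix of prime order `r > 7` does not exist -/
theorem tors (M : Matrix (Fin 6) (Fin 6) ℤ) (r : ℕ) (hr : r.Prime) (h7 : 7 < r) (h : M ^ r = 1) :
    M = 1 := by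
  by_contra hne
  set N : Matrix (Fin 6) (Fin 6) ℚ := (Int.castRingHom ℚ).mapMatrix M with hNdef
  have hNr : N ^ r = 1 := by
    rw [hNdef, ← map_pow, h, map_one]
  have hN1 : N ≠ 1 := by
    intro h1
    apply hne
    have hinj : Function.Injective ((Int.castRingHom ℚ).mapMatrix (m := Fin 6)) := by
      intro A B hAB
      ext i j
      have := congrFun (congrFun hAB i) j
      simpa using this
    apply hinj
    rw [map_one]
    exact h1
  obtain ⟨z, hz⟩ : ∃ z, (N - 1).mulVec z ≠ 0 := by
    by_contra hall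
    push Not at hall
    apply hN1
    have h0 : N - 1 = 0 := by
      ext i j
      have := congrFun (hall (Pi.single j 1)) i
      simpa using this
    exact sub_eq_zero.1 h0
  have : Fact r.Prime := ⟨hr⟩
  have hirr : Irreducible (cyclotomic r ℚ) := cyclotomic.irreducible_rat hr.pos
  have hkill : (aeval N (cyclotomic r ℚ)).mulVec ((N - 1).mulVec z) = 0 := by
    rw [Matrix.mulVec_mulVec]
    have h1 : aeval N (cyclotomic r ℚ) * (N - 1) = N ^ r - 1 := by
      have := congrArg (aeval N) (cyclotomic_prime_mul_X_sub_one ℚ r)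
      simpa using this
    rw [h1, hNr, sub_self, Matrix.zero_mulVec]
  have hind := irr6_linindep N _ hirr _ hkill hz
  have hcard := hind.fintype_card_le_finrank
  rw [natDegree_cyclotomic, Nat.totient_prime hr] at hcard
  simp at hcard
  omega

/-- the 12th cyclotomic polynomial over `ℚ` -/
theorem irr6_cyc12 : cyclotomic 12 ℚ = X ^ 4 - X ^ 2 + 1 := by
  have h2 : cyclotomic 2 ℚ = X + 1 := cyclotomic_two ℚ
  have h4 : cyclotomic 4 ℚ = X ^ 2 + 1 := by
    have h := cyclotomic_expand_eq_cyclotomic (p := 2) (n := 2) Nat.prime_two (dvd_refl 2) ℚ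
    rw [h2] at h
    have h22 : (2 * 2 : ℕ) = 4 := by norm_num
    rw [h22] at h
    rw [← h]
    simp only [map_add, expand_X, map_one]
  have h := cyclotomic_expand_eq_cyclotomic_mul (p := 3) (n := 4) (by norm_num) (by norm_num) ℚ
  rw [h4] at h
  have hne : (X ^ 2 + 1 : ℚ[X]) ≠ 0 := by
    rw [← h4]
    exact cyclotomic_ne_zero 4 ℚ
  apply mul_right_cancel₀ hne
  have h12 : (4 * 3 : ℕ) = 12 := by norm_num
  rw [h12] at h
  rw [← h]
  simp only [map_add, map_pow, expand_X, map_one]
  ring

theorem cyc12_irr : Irreducible (X ^ 4 - X ^ 2 + 1 : ℚ[X]) := by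
  rw [← irr6_cyc12]
  exact cyclotomic.irreducible_rat (by norm_num)

theorem cyc3_irr : Irreducible (X ^ 2 + X + 1 : ℚ[X]) := by
  rw [← cyclotomic_three ℚ]
  exact cyclotomic.irreducible_rat (by norm_num)

end Cfsg.Agent.E6T
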