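import Mathlib
import Cfsg.Agent.Lib.E6T.Lat
import Cfsg.Agent.Lib.E6T.IRR6
import Cfsg.Agent.Lib.E6T.POLY

/-!
# S2373 (E6 torus), lattice piece CH1  [H]  (helper26; helper13's farm, row S2373)

NEW: Phi12 | charpoly (irr_indep + Cayley-Hamilton over Q, division by the monic Phi12 over Z).
May use (already imported): IRR6, POLY; other E6T pieces only if they do not (transitively) import this one.  Keep names/statements/namespace; aux names
prefixed `ch1_`.  Plan: `plans/S2373_plan.md`, full skeleton `plans/E6T_SkelL.lean.txt`.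
-/

set_option autoImplicit false
open Polynomial

namespace Cfsg.Agent.E6T

/-- casting `B.mulVec y` to `ℚ` -/
theorem ch1_cast (B : Matrix (Fin 6) (Fin 6) ℤ) (y : Fin 6 → ℤ) (i : Fin 6) :
    ((Int.castRingHom ℚ).mapMatrix B).mulVec (fun j => (y j : ℚ)) i = (((B.mulVec y) i : ℤ) : ℚ) := by
  have h := RingHom.map_mulVec (Int.castRingHom ℚ) B y i
  rw [RingHom.mapMatrix_apply]
  exact h.symm

/-- `aeval` commutes with the cast to `ℚ` -/
theorem ch1_aeval_map (M : Matrix (Fin 6) (Fin 6) ℤ) (g : ℤ[X]) :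
    aeval ((Int.castRingHom ℚ).mapMatrix M) (g.map (Int.castRingHom ℚ)) =
      (Int.castRingHom ℚ).mapMatrix (aeval M g) := by
  refine (Polynomial.map_aeval_eq_aeval_map ?_ g M).symm
  exact RingHom.ext_int _ _

theorem ch1_natDegree12 : (X ^ 4 - X ^ 2 + 1 : ℚ[X]).natDegree = 4 := by
  rw [← irr6_cyc12, natDegree_cyclotomic]
  decide

theorem ch1_monic12 : (X ^ 4 - X ^ 2 + 1 : ℤ[X]).Monic := by
  rw [← cyc12_eq]
  exact cyclotomic.monic 12 ℤ

theorem ch1_natDegree12Z : (X ^ 4 - X ^ 2 + 1 : ℤ[X]).natDegree = 4 := by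
  rw [← cyc12_eq, natDegree_cyclotomic]
  decide

theorem ch1_map12 : (X ^ 4 - X ^ 2 + 1 : ℤ[X]).map (Int.castRingHom ℚ) = X ^ 4 - X ^ 2 + 1 := by
  simp

/-- a monic quadratic over `ℤ` -/
theorem ch1_quad (g : ℤ[X]) (hg : g.Monic) (hd : g.natDegree = 2) :
    g = X ^ 2 - C (-(g.coeff 1)) * X + C (g.coeff 0) := by
  have h := g.as_sum_range_C_mul_X_pow
  rw [hd] at h
  have hl : g.coeff 2 = 1 := by
    have := hg.coeff_natDegree
    rw [hd] at this
    exact this
  rw [Finset.sum_range_succ, Finset.sum_range_succ, Finset.sum_range_one, hl] at h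
  calc g = C (g.coeff 0) * X ^ 0 + C (g.coeff 1) * X ^ 1 + C 1 * X ^ 2 := h
    _ = X ^ 2 - C (-(g.coeff 1)) * X + C (g.coeff 0) := by
        rw [map_neg, map_one]
        ring

/-- CH1: `Φ₁₂` divides the characteristic polynomial (IRR6 + Cayley-Hamilton + division by the monic `Φ₁₂`) -/
theorem ch1 (M : Matrix (Fin 6) (Fin 6) ℤ) (y : Fin 6 → ℤ) (hy : y ≠ 0) (h : (Phi12M M).mulVec y = 0) :
    ∃ t d : ℤ, M.charpoly = (X ^ 4 - X ^ 2 + 1) * (X ^ 2 - C t * X + C d) := by
  obtain ⟨f, hfdef⟩ : ∃ f : ℤ[X], f = X ^ 4 - X ^ 2 + 1 := ⟨_, rfl⟩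
  have hfm : f.Monic := by rw [hfdef]; exact ch1_monic12
  have hfd : f.natDegree = 4 := by rw [hfdef]; exact ch1_natDegree12Z
  have hfM : aeval M f = Phi12M M := by rw [hfdef]; exact aeval_phi12 M
  obtain ⟨r, hrdef⟩ : ∃ r : ℤ[X], r = M.charpoly %ₘ f := ⟨_, rfl⟩
  obtain ⟨g, hgdef⟩ : ∃ g : ℤ[X], g = M.charpoly /ₘ f := ⟨_, rfl⟩
  have hdiv : r + f * g = M.charpoly := by
    rw [hrdef, hgdef]
    exact Polynomial.modByMonic_add_div M.charpoly f
  -- `r(M) y = 0`
  have hrM : (aeval M r).mulVec y = 0 := by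
    have h1 : aeval M r = aeval M M.charpoly - aeval M g * aeval M f := by
      rw [← hdiv, map_add, map_mul]
      have hc : aeval M f * aeval M g = aeval M g * aeval M f := by
        rw [← map_mul, ← map_mul, mul_comm]
      rw [hc]
      abel
    rw [h1, Matrix.aeval_self_charpoly, zero_sub, Matrix.neg_mulVec, ← Matrix.mulVec_mulVec, hfM, h,
      Matrix.mulVec_zero, neg_zero]
  -- `r = 0` by `irr_indep`
  have hr0 : r = 0 := by
    by_contra hrne
    obtain ⟨N, hN⟩ : ∃ N : Matrix (Fin 6) (Fin 6) ℚ, N = (Int.castRingHom ℚ).mapMatrix M := ⟨_, rfl⟩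
    obtain ⟨yq, hyq⟩ : ∃ yq : Fin 6 → ℚ, yq = fun i => (y i : ℚ) := ⟨_, rfl⟩
    have hyq0 : yq ≠ 0 := by
      intro h0
      apply hy
      funext i
      have := congrFun h0 i
      rw [hyq] at this
      simpa using this
    have hfq : (aeval N (X ^ 4 - X ^ 2 + 1 : ℚ[X])).mulVec yq = 0 := by
      rw [← ch1_map12, hN, ch1_aeval_map, aeval_phi12]
      funext i
      rw [hyq, ch1_cast, h]
      simp
    have hrq : (aeval N (r.map (Int.castRingHom ℚ))).mulVec yq = 0 := by
      rw [hN, ch1_aeval_map]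
      funext i
      rw [hyq, ch1_cast, hrM]
      simp
    have hrq0 : r.map (Int.castRingHom ℚ) ≠ 0 := by
      intro h0
      apply hrne
      exact (Polynomial.map_eq_zero_iff (RingHom.injective_int (Int.castRingHom ℚ))).1 h0
    have hdeg : (r.map (Int.castRingHom ℚ)).natDegree < (X ^ 4 - X ^ 2 + 1 : ℚ[X]).natDegree := by
      rw [ch1_natDegree12]
      have h1 : (r.map (Int.castRingHom ℚ)).natDegree ≤ r.natDegree := Polynomial.natDegree_map_le
      have h2 : r.natDegree < f.natDegree := by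
        rw [hrdef]
        apply Polynomial.natDegree_modByMonic_lt _ hfm
        intro h1
        rw [h1, natDegree_one] at hfd
        omega
      rw [hfd] at h2
      omega
    exact irr_indep N _ cyc12_irr yq hyq0 hfq _ hrq0 hdeg hrq
  rw [hr0, zero_add] at hdiv
  -- `g` is a monic quadratic
  have hgm : g.Monic := by
    have hc : (f * g).Monic := by rw [hdiv]; exact Matrix.charpoly_monic M
    exact hfm.of_mul_monic_left hc
  have hgd : g.natDegree = 2 := by
    have h1 : (f * g).natDegree = f.natDegree + g.natDegree := hfm.natDegree_mul hgm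
    rw [hdiv, Matrix.charpoly_natDegree_eq_dim, hfd] at h1
    simp only [Fintype.card_fin] at h1
    omega
  refine ⟨-(g.coeff 1), g.coeff 0, ?_⟩
  rw [← hdiv, ← hfdef, ← ch1_quad g hgm hgd]

end Cfsg.Agent.E6T
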