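import Mathlib
import Cfsg.Agent.Lib.E6T.Lat
import Cfsg.Agent.Lib.E6T.PD6
import Cfsg.Agent.Lib.E6T.FINORD

/-!
# S2373 (E6 torus), lattice piece WDET  [M]  -- STUB (helper13's farm, row S2373)

new, small: (M-1)*A6 = 3X so det(M-1)*3^5 = 3^6 det X.
May use (already imported): PD6, FINORD; other E6T pieces only if they do not (transitively) import this one.  Keep names/statements/namespace; aux names
prefixed `wdet_`.  Plan: `plans/S2373_plan.md`, full skeleton `plans/E6T_SkelL.lean.txt`.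
-/

set_option autoImplicit false
open Polynomial

namespace Cfsg.Agent.E6T

/-- the determinant of the scalar matrix `3` -/
theorem wdet_det_three : ((3 : Matrix (Fin 6) (Fin 6) ℤ)).det = 3 ^ 6 := by
  have e : (3 : Matrix (Fin 6) (Fin 6) ℤ) = (3 : ℤ) • (1 : Matrix (Fin 6) (Fin 6) ℤ) := by
    ext i j
    rw [Matrix.ofNat_apply, Matrix.smul_apply, Matrix.one_apply, smul_eq_mul]
    by_cases hij : i = j
    · rw [if_pos hij, if_pos hij, mul_one]
      norm_num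
    · rw [if_neg hij, if_neg hij, mul_zero]
      norm_num
  rw [e, Matrix.det_smul, Matrix.det_one, mul_one, Fintype.card_fin]

/-- `det A6 = 3⁵` -/
theorem wdet_a6_det : A6.det = 3 ^ 5 := by
  have h1 := congrArg Matrix.det c6_mul_a6
  rw [Matrix.det_mul, c6_det, wdet_det_three] at h1
  have h2 : (3 : ℤ) * A6.det = 3 * 3 ^ 5 := by
    rw [h1]
    norm_num
  exact mul_left_cancel₀ (by norm_num) h2

theorem isw_det_sub_one {M : Matrix (Fin 6) (Fin 6) ℤ} (h : IsW M) : (3 : ℤ) ∣ (M - 1).det := by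
  obtain ⟨X, hX⟩ : ∃ X : Matrix (Fin 6) (Fin 6) ℤ, (M - 1) * A6 = (3 : ℤ) • X := by
    have hc : ∀ i j, ∃ x : ℤ, ((M - 1) * A6) i j = 3 * x := fun i j => h.2.2 i j
    choose f hf using hc
    refine ⟨Matrix.of f, ?_⟩
    ext i j
    rw [hf i j, Matrix.smul_apply, Matrix.of_apply, smul_eq_mul]
  have h1 := congrArg Matrix.det hX
  rw [Matrix.det_mul, wdet_a6_det, Matrix.det_smul, Fintype.card_fin] at h1
  have h2 : (3 : ℤ) ^ 5 * (M - 1).det = 3 ^ 5 * (3 * X.det) := by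
    rw [mul_comm, h1]
    ring
  have h3 := mul_left_cancel₀ (by norm_num : (3 : ℤ) ^ 5 ≠ 0) h2
  exact ⟨X.det, h3⟩

/-- `Φ₁₂(M) ≠ 0`: otherwise `M⁶ = -1` and `(M⁶ - 1) A6 = -2 A6` is not `0` mod `3` (`isw_pow`) -/
theorem isw_phi12_ne {M : Matrix (Fin 6) (Fin 6) ℤ} (h : IsW M) : Phi12M M ≠ 0 := by
  intro hP
  unfold Phi12M at hP
  have h6 : M ^ 6 = -1 := by
    have e : M ^ 6 + 1 = (M ^ 2 + 1) * (M ^ 4 - M ^ 2 + 1) := by noncomm_ring
    rw [hP, mul_zero] at e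
    exact eq_neg_of_add_eq_zero_left e
  have h3 := (isw_pow h 6).2.2 0 0
  rw [h6] at h3
  have e2 : ((-1 - 1 : Matrix (Fin 6) (Fin 6) ℤ) * A6) 0 0 = -8 := by
    have e3 : (-1 - 1 : Matrix (Fin 6) (Fin 6) ℤ) = (-2 : ℤ) • (1 : Matrix (Fin 6) (Fin 6) ℤ) := by
      rw [neg_smul, two_smul]
      abel
    rw [e3, Matrix.smul_mul, Matrix.one_mul, Matrix.smul_apply, smul_eq_mul]
    have e4 : A6 0 0 = 4 := by decide
    rw [e4]
    norm_num
  rw [e2] at h3
  norm_num at h3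

end Cfsg.Agent.E6T
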