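import Mathlib
import Cfsg.Agent.Lib.E6T.Lat
import Cfsg.Agent.Lib.E6T.ISWINV
import Cfsg.Agent.Lib.E6T.FINORD
import Cfsg.Agent.Lib.E6T.POLY
import Cfsg.Agent.Lib.E6T.PD6
import Cfsg.Agent.Lib.E6T.IRR6
import Cfsg.Agent.Lib.E6T.WDET

/-!
# S2373 (E6 torus), lattice piece CH2  [H]  (helper13's farm, row S2373; proved by helper23)

Positivity pins `(t, d)`: `d = det M = ± 1`; `z = Φ₁₂(M) u ≠ 0` is killed by `M² - t M + d`; since `M` is an isometry,
`(M² z, M z) = (M z, z)`, which gives `t |z|² = 2 (z, M z)` if `d = 1` (and then `|z ∓ M z|² = (2 ∓ t) |z|² ≥ 0`), and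
`t |z|² = 0` if `d = -1`.
Uses FINORD (`isw_det`, `isw_ip`), WDET (`isw_phi12_ne`), POLY (`aeval_phi12`), PD6 (`ip_self_nonneg`, `ip_self_eq_zero`).
-/

set_option autoImplicit false
open Polynomial

namespace Cfsg.Agent.E6T

/-- the constant coefficient: `d = det M` -/
theorem ch2_det (M : Matrix (Fin 6) (Fin 6) ℤ) (t d : ℤ)
    (hc : M.charpoly = (X ^ 4 - X ^ 2 + 1) * (X ^ 2 - C t * X + C d)) : M.det = d := by
  rw [Matrix.det_eq_sign_charpoly_coeff, hc, coeff_zero_eq_eval_zero]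
  simp

/-- Cayley-Hamilton: `(M² - t M + d) Φ₁₂(M) = 0` -/
theorem ch2_cayley (M : Matrix (Fin 6) (Fin 6) ℤ) (t d : ℤ)
    (hc : M.charpoly = (X ^ 4 - X ^ 2 + 1) * (X ^ 2 - C t * X + C d)) :
    (M ^ 2 - t • M + d • (1 : Matrix (Fin 6) (Fin 6) ℤ)) * Phi12M M = 0 := by
  have h := Matrix.aeval_self_charpoly M
  rw [hc, mul_comm, map_mul, aeval_phi12] at h
  have h2 : aeval M (X ^ 2 - C t * X + C d : ℤ[X]) =
      M ^ 2 - t • M + d • (1 : Matrix (Fin 6) (Fin 6) ℤ) := by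
    simp only [map_add, map_sub, map_mul, map_pow, aeval_X, aeval_C]
    rw [Algebra.algebraMap_eq_smul_one, Algebra.algebraMap_eq_smul_one, smul_mul_assoc, one_mul]
  rw [h2] at h
  exact h

/-- a nonzero matrix has a nonzero column -/
theorem ch2_exists_vec (A : Matrix (Fin 6) (Fin 6) ℤ) (hA : A ≠ 0) :
    ∃ u : Fin 6 → ℤ, A.mulVec u ≠ 0 := by
  by_contra hne
  apply hA
  ext i j
  have h0 : A.mulVec (Pi.single j 1) = 0 := by
    by_contra h1
    exact hne ⟨_, h1⟩
  have h := congrFun h0 i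
  simpa using h

theorem ch2 (M : Matrix (Fin 6) (Fin 6) ℤ) (hM : IsW M) (t d : ℤ)
    (hc : M.charpoly = (X ^ 4 - X ^ 2 + 1) * (X ^ 2 - C t * X + C d)) :
    (d = 1 ∧ -2 ≤ t ∧ t ≤ 2) ∨ (d = -1 ∧ t = 0) := by
  have hd : d = 1 ∨ d = -1 := by
    have h1 := isw_det hM
    rw [ch2_det M t d hc] at h1
    exact Int.isUnit_iff.1 h1
  obtain ⟨u, hu⟩ := ch2_exists_vec (Phi12M M) (isw_phi12_ne hM)
  set z : Fin 6 → ℤ := (Phi12M M).mulVec u with hz
  -- `M² z = t M z - d z`
  have hk : (M ^ 2 - t • M + d • (1 : Matrix (Fin 6) (Fin 6) ℤ)).mulVec z = 0 := by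
    rw [hz, Matrix.mulVec_mulVec, ch2_cayley M t d hc, Matrix.zero_mulVec]
  have hk2 : M.mulVec (M.mulVec z) = t • M.mulVec z - d • z := by
    rw [Matrix.add_mulVec, Matrix.sub_mulVec, Matrix.smul_mulVec, Matrix.smul_mulVec,
      Matrix.one_mulVec, pow_two, ← Matrix.mulVec_mulVec] at hk
    have : M.mulVec (M.mulVec z) = (M.mulVec (M.mulVec z) - t • M.mulVec z + d • z) +
        (t • M.mulVec z - d • z) := by abel
    rw [this, hk, zero_add]
  -- norms
  set N : ℤ := ip z z with hN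
  have hNpos : 0 < N := by
    rcases (ip_self_nonneg z).lt_or_eq with h | h
    · exact h
    · exact absurd (ip_self_eq_zero z h.symm) hu
  have hMz : ip (M.mulVec z) (M.mulVec z) = N := isw_ip hM z z
  set c : ℤ := ip z (M.mulVec z) with hcdef
  have hc' : ip (M.mulVec z) z = c := ip_comm _ _
  -- the isometry identity `(M² z, M z) = (M z, z)`
  have hiso : ip (M.mulVec (M.mulVec z)) (M.mulVec z) = c := by
    rw [isw_ip hM, hc']
  rw [hk2, ip_sub_left, ip_smul_left, ip_smul_left, hMz, ← hcdef] at hiso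
  -- `hiso : t * N - d * c = c`
  rcases hd with rfl | rfl
  · left
    refine ⟨rfl, ?_, ?_⟩
    · -- `|z + M z|² = (2 + t) N ≥ 0`
      have h1 := ip_self_nonneg (z + M.mulVec z)
      rw [ip_add_left, ip_add_right, ip_add_right, hMz, hc', ← hcdef, ← hN] at h1
      have h2 : 0 ≤ (2 + t) * N := by linarith
      by_contra hlt
      have h3 : (2 + t) * N < 0 := mul_neg_of_neg_of_pos (by linarith) hNpos
      linarith
    · have h1 := ip_self_nonneg (z - M.mulVec z)
      rw [ip_sub_left, ip_sub_right, ip_sub_right, hMz, hc', ← hcdef, ← hN] at h1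
      have h2 : 0 ≤ (2 - t) * N := by linarith
      by_contra hlt
      have h3 : (2 - t) * N < 0 := mul_neg_of_neg_of_pos (by linarith) hNpos
      linarith
  · right
    refine ⟨rfl, ?_⟩
    have h0 : t * N = 0 := by linarith
    rcases mul_eq_zero.1 h0 with h | h
    · exact h
    · omega

end Cfsg.Agent.E6T
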