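import Mathlib
import Cfsg.Agent.Lib.E6T.Lat
import Cfsg.Agent.Lib.E6T.WDET

/-!
# S2373 (E6 torus), lattice piece CH3  [E]  (helper13's farm, row S2373)

charpoly.eval 1 = det(1-M), and 3 | det(M-1) by isw_det_sub_one.
-/

set_option autoImplicit false
open Polynomial

namespace Cfsg.Agent.E6T

/-- CH3: `3 ∣ det (1 - M) = charpoly(1) = 1 - t + d` -/
theorem ch3 (M : Matrix (Fin 6) (Fin 6) ℤ) (hM : IsW M) (t d : ℤ)
    (hc : M.charpoly = (X ^ 4 - X ^ 2 + 1) * (X ^ 2 - C t * X + C d)) : (3 : ℤ) ∣ 1 - t + d := by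
  have h1 := Matrix.eval_charpoly M (1 : ℤ)
  rw [hc] at h1
  have h2 : ((X ^ 4 - X ^ 2 + 1 : ℤ[X]) * (X ^ 2 - C t * X + C d)).eval 1 = 1 - t + d := by
    simp only [eval_mul, eval_add, eval_sub, eval_pow, eval_X, eval_one, eval_C, one_pow]
    ring
  rw [h2] at h1
  have h3 : (Matrix.scalar (Fin 6) (1 : ℤ) - M) = -(M - 1) := by
    rw [map_one, neg_sub]
  rw [h1, h3, Matrix.det_neg, Fintype.card_fin]
  have h4 := isw_det_sub_one hM
  have h5 : ((-1 : ℤ)) ^ 6 = 1 := by norm_num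
  rw [h5, one_mul]
  exact h4

end Cfsg.Agent.E6T
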