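import Mathlib
import Cfsg.Agent.Lib.E6T.Lat
import Cfsg.Agent.Lib.E6T.PD6
import Cfsg.Agent.Lib.E6T.TAB

/-!
# S2373 (E6 torus), lattice piece CH4A  [H]  (helper13's farm, row S2373; proved by helper14)

NEW: orthogonal decomposition of the E6 lattice is trivial (connected Dynkin diagram).
May use (already imported): PD6, TAB; other E6T pieces only if they do not (transitively) import this one.  Keep names/statements/namespace; aux names
prefixed `ch4a_`.  Plan: `plans/S2373_plan.md`, full skeleton `plans/E6T_SkelL.lean.txt`.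
-/

set_option autoImplicit false
open Polynomial

namespace Cfsg.Agent.E6T

theorem ch4a_ip_single (i j : Fin 6) :
    ip (Pi.single i (1 : ℤ)) (Pi.single j (1 : ℤ)) = C6 i j := by
  unfold ip
  rw [Matrix.mulVec_single_one, single_one_dotProduct]
  rfl

/-- each simple root lies in one of the two summands -/
theorem ch4a_dich (E₁ E₂ : Matrix (Fin 6) (Fin 6) ℤ) (hsum : E₁ + E₂ = 1)
    (horth : ∀ y z : Fin 6 → ℤ, ip (E₁.mulVec y) (E₂.mulVec z) = 0) (i : Fin 6) :
    E₁.mulVec (Pi.single i 1) = 0 ∨ E₂.mulVec (Pi.single i 1) = 0 := by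
  have hd : ∀ k : Fin 6, C6 k k = 2 := by decide
  have hnorm0 : ip (Pi.single i (1 : ℤ)) (Pi.single i (1 : ℤ)) = 2 := by
    rw [ch4a_ip_single]; exact hd i
  set e : Fin 6 → ℤ := Pi.single i 1 with he
  have hdec : E₁.mulVec e + E₂.mulVec e = e := by
    rw [← Matrix.add_mulVec, hsum, Matrix.one_mulVec]
  have hnorm : ip e e = 2 := hnorm0
  have hexp : ip e e = ip (E₁.mulVec e) (E₁.mulVec e) + ip (E₂.mulVec e) (E₂.mulVec e) := by
    conv_lhs => rw [← hdec]
    rw [ip_add_left, ip_add_right, ip_add_right, horth e e, ip_comm (E₂.mulVec e) (E₁.mulVec e),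
      horth e e]
    ring
  have h1 := ip_self_nonneg (E₁.mulVec e)
  have h2 := ip_self_nonneg (E₂.mulVec e)
  obtain ⟨a, ha⟩ := ip_self_even (E₁.mulVec e)
  obtain ⟨b, hb⟩ := ip_self_even (E₂.mulVec e)
  have hcases : ip (E₁.mulVec e) (E₁.mulVec e) = 0 ∨ ip (E₂.mulVec e) (E₂.mulVec e) = 0 := by
    omega
  rcases hcases with h | h
  · exact Or.inl (ip_self_eq_zero _ h)
  · exact Or.inr (ip_self_eq_zero _ h)

/-- propagation along an edge of the Dynkin diagram -/
theorem ch4a_prop (E₁ E₂ : Matrix (Fin 6) (Fin 6) ℤ) (hsum : E₁ + E₂ = 1)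
    (horth : ∀ y z : Fin 6 → ℤ, ip (E₁.mulVec y) (E₂.mulVec z) = 0) (i j : Fin 6)
    (hij : C6 j i ≠ 0) (hi : E₁.mulVec (Pi.single i 1) = 0) : E₁.mulVec (Pi.single j 1) = 0 := by
  rcases ch4a_dich E₁ E₂ hsum horth j with h | h
  · exact h
  · exfalso
    have hdi : E₁.mulVec (Pi.single i (1 : ℤ)) + E₂.mulVec (Pi.single i 1) = Pi.single i 1 := by
      rw [← Matrix.add_mulVec, hsum, Matrix.one_mulVec]
    have hdj : E₁.mulVec (Pi.single j (1 : ℤ)) + E₂.mulVec (Pi.single j 1) = Pi.single j 1 := by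
      rw [← Matrix.add_mulVec, hsum, Matrix.one_mulVec]
    rw [hi, zero_add] at hdi
    rw [h, add_zero] at hdj
    have := horth (Pi.single j 1) (Pi.single i 1)
    rw [hdi, hdj, ch4a_ip_single] at this
    exact hij this

theorem ch4a_aux (E₁ E₂ : Matrix (Fin 6) (Fin 6) ℤ) (hsum : E₁ + E₂ = 1)
    (horth : ∀ y z : Fin 6 → ℤ, ip (E₁.mulVec y) (E₂.mulVec z) = 0)
    (h3 : E₁.mulVec (Pi.single (3 : Fin 6) 1) = 0) : E₁ = 0 := by
  have p := ch4a_prop E₁ E₂ hsum horth
  have h2 : E₁.mulVec (Pi.single (2 : Fin 6) 1) = 0 := p 3 2 (by decide) h3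
  have h1 : E₁.mulVec (Pi.single (1 : Fin 6) 1) = 0 := p 3 1 (by decide) h3
  have h4 : E₁.mulVec (Pi.single (4 : Fin 6) 1) = 0 := p 3 4 (by decide) h3
  have h0 : E₁.mulVec (Pi.single (0 : Fin 6) 1) = 0 := p 2 0 (by decide) h2
  have h5 : E₁.mulVec (Pi.single (5 : Fin 6) 1) = 0 := p 4 5 (by decide) h4
  have hall : ∀ j : Fin 6, E₁.mulVec (Pi.single j 1) = 0 := by
    intro j
    fin_cases j
    · exact h0
    · exact h1
    · exact h2
    · exact h3
    · exact h4
    · exact h5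
  ext i j
  have := congrFun (hall j) i
  rw [Matrix.mulVec_single_one] at this
  simpa using this

/-- CH4a: orthogonal decomposition.  If `E₁ + E₂ = 1`, `E₁`, `E₂` are integral, and `ip (E₁ y) (E₂ z) = 0` for all
`y z`, then `E₁ = 0` or `E₂ = 0` (every root lies in one summand since `2 = |E₁ v|² + |E₂ v|²` with even nonnegative
terms; adjacent simple roots lie in the same summand; the Dynkin diagram is connected) -/
theorem ch4a (E₁ E₂ : Matrix (Fin 6) (Fin 6) ℤ) (hsum : E₁ + E₂ = 1)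
    (horth : ∀ y z : Fin 6 → ℤ, ip (E₁.mulVec y) (E₂.mulVec z) = 0) : E₁ = 0 ∨ E₂ = 0 := by
  rcases ch4a_dich E₁ E₂ hsum horth 3 with h | h
  · exact Or.inl (ch4a_aux E₁ E₂ hsum horth h)
  · refine Or.inr (ch4a_aux E₂ E₁ (by rw [add_comm]; exact hsum) ?_ h)
    intro y z
    rw [ip_comm]
    exact horth z y

end Cfsg.Agent.E6T
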