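import Mathlib
import Cfsg.Agent.Lib.E6T.Lat
import Cfsg.Agent.Lib.E6T.CH4A
import Cfsg.Agent.Lib.E6T.ISWINV
import Cfsg.Agent.Lib.E6T.POLY
import Cfsg.Agent.Lib.E6T.FINORD
import Cfsg.Agent.Lib.E6T.PD6
import Cfsg.Agent.Lib.E6T.WDET

/-!
# S2373 (E6 torus), lattice piece CH4  [H]  (helper13's farm, row S2373)

Exclude f = (X-1)^2 and f = X^2-1 via CH4A.  With `a Φ₁₂ + b f = 1` put `E₁ = (b f)(M)`, `E₂ = (a Φ₁₂)(M)`;
`E₁ + E₂ = 1`; orthogonality: `ip (f(M) u) (M² w) = ε ip u (f(M) w)` (`f` self-reciprocal up to the sign `ε`, `M` an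
isometry) and every `E₂ z` is `M² w'` with `w' = M^(2(e-1)) E₂ z` (`M^e = 1`), `f(M) w' = 0` by Cayley-Hamilton.
Then CH4a: `E₁ = 0` gives `y = E₂ y = 0`; `E₂ = 0` gives `Φ₁₂(M) = E₁ Φ₁₂(M) = 0`, against `isw_phi12_ne`.
-/

set_option autoImplicit false
open Polynomial

namespace Cfsg.Agent.E6T

theorem ch4_aeval_f (M : Matrix (Fin 6) (Fin 6) ℤ) (t d : ℤ) (u : Fin 6 → ℤ) :
    (aeval M (X ^ 2 - C t * X + C d : ℤ[X])).mulVec u =
      (M ^ 2).mulVec u - t • M.mulVec u + d • u := by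
  have h1 : aeval M (X ^ 2 - C t * X + C d : ℤ[X]) =
      M ^ 2 - t • M + d • (1 : Matrix (Fin 6) (Fin 6) ℤ) := by
    simp only [map_add, map_sub, map_mul, map_pow, aeval_X, aeval_C,
      Algebra.algebraMap_eq_smul_one, smul_mul_assoc, one_mul]
  rw [h1, Matrix.add_mulVec, Matrix.sub_mulVec, Matrix.smul_mulVec, Matrix.smul_mulVec,
    Matrix.one_mulVec]

theorem ch4_rev (M : Matrix (Fin 6) (Fin 6) ℤ) (hM : IsW M) (t d ε : ℤ)
    (hε : ∀ p q r : ℤ, p - t * q + d * r = ε * (r - t * q + d * p)) (u w : Fin 6 → ℤ) :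
    ip ((aeval M (X ^ 2 - C t * X + C d : ℤ[X])).mulVec u) ((M ^ 2).mulVec w) =
      ε * ip u ((aeval M (X ^ 2 - C t * X + C d : ℤ[X])).mulVec w) := by
  rw [ch4_aeval_f, ch4_aeval_f]
  have h1 : ip ((M ^ 2).mulVec u) ((M ^ 2).mulVec w) = ip u w := isw_ip (isw_pow hM 2) u w
  have h2 : ip (M.mulVec u) ((M ^ 2).mulVec w) = ip u (M.mulVec w) := by
    rw [pow_two, ← Matrix.mulVec_mulVec]
    exact isw_ip hM u (M.mulVec w)
  rw [ip_add_left, ip_sub_left, ip_smul_left, ip_smul_left, h1, h2, ip_add_right, ip_sub_right,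
    ip_smul_right, ip_smul_right]
  exact hε _ _ _

theorem ch4_core (M : Matrix (Fin 6) (Fin 6) ℤ) (hM : IsW M) (y : Fin 6 → ℤ) (hy : y ≠ 0)
    (h : (Phi12M M).mulVec y = 0) (ε : ℤ) (φ f a b : ℤ[X]) (hφ : aeval M φ = Phi12M M)
    (hc : M.charpoly = φ * f) (hbez : a * φ + b * f = 1)
    (hrev : ∀ u w : Fin 6 → ℤ, ip ((aeval M f).mulVec u) ((M ^ 2).mulVec w) =
      ε * ip u ((aeval M f).mulVec w)) : False := by
  have hCH : aeval M (φ * f) = 0 := by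
    rw [← hc]
    exact Matrix.aeval_self_charpoly M
  obtain ⟨e, he0, he⟩ := isw_finorder hM
  have hsum : aeval M (b * f) + aeval M (a * φ) = 1 := by
    rw [← map_add, add_comm, hbez, map_one]
  have horth : ∀ y z : Fin 6 → ℤ,
      ip ((aeval M (b * f)).mulVec y) ((aeval M (a * φ)).mulVec z) = 0 := by
    intro y z
    have h1 : (aeval M (b * f)).mulVec y = (aeval M f).mulVec ((aeval M b).mulVec y) := by
      rw [Matrix.mulVec_mulVec, ← map_mul, mul_comm]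
    have h2 : (aeval M (a * φ)).mulVec z =
        (M ^ 2).mulVec ((aeval M (X ^ (2 * (e - 1)) * (a * φ))).mulVec z) := by
      rw [Matrix.mulVec_mulVec]
      congr 1
      have h3 : M ^ 2 = aeval M (X ^ 2 : ℤ[X]) := by rw [map_pow, aeval_X]
      have h4 : 2 + 2 * (e - 1) = e * 2 := by omega
      have h5 : (X ^ 2 : ℤ[X]) * (X ^ (2 * (e - 1)) * (a * φ)) = X ^ (e * 2) * (a * φ) := by
        rw [← mul_assoc, ← pow_add, h4]
      have h6 : aeval M (X ^ (e * 2) : ℤ[X]) = 1 := by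
        rw [map_pow, aeval_X, pow_mul, he, one_pow]
      calc aeval M (a * φ) = aeval M (X ^ (e * 2) : ℤ[X]) * aeval M (a * φ) := by
            rw [h6, one_mul]
        _ = aeval M ((X ^ 2 : ℤ[X]) * (X ^ (2 * (e - 1)) * (a * φ))) := by
            rw [h5, map_mul (aeval M) (X ^ (e * 2) : ℤ[X]) (a * φ)]
        _ = M ^ 2 * aeval M (X ^ (2 * (e - 1)) * (a * φ)) := by
            rw [map_mul (aeval M) (X ^ 2 : ℤ[X]), ← h3]
    rw [h1, h2, hrev]
    have h4 : (aeval M f).mulVec ((aeval M (X ^ (2 * (e - 1)) * (a * φ))).mulVec z) = 0 := by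
      rw [Matrix.mulVec_mulVec, ← map_mul]
      have h5 : f * (X ^ (2 * (e - 1)) * (a * φ)) = (X ^ (2 * (e - 1)) * a) * (φ * f) := by ring
      rw [h5, map_mul, hCH, mul_zero, Matrix.zero_mulVec]
    rw [h4, ip_zero_right, mul_zero]
  rcases ch4a _ _ hsum horth with h1 | h2
  · rw [h1, zero_add] at hsum
    apply hy
    have h3 : y = (aeval M (a * φ)).mulVec y := by rw [hsum, Matrix.one_mulVec]
    rw [h3, map_mul, ← Matrix.mulVec_mulVec, hφ, h, Matrix.mulVec_zero]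
  · rw [h2, add_zero] at hsum
    apply isw_phi12_ne hM
    calc Phi12M M = aeval M (b * f) * Phi12M M := by rw [hsum, one_mul]
      _ = aeval M (b * (φ * f)) := by
        rw [← hφ, ← map_mul]
        congr 1
        ring
      _ = 0 := by rw [map_mul, hCH, mul_zero]

/-- CH4: the second factor is not `(X - 1)²` or `X² - 1`. -/
theorem ch4 (M : Matrix (Fin 6) (Fin 6) ℤ) (hM : IsW M) (y : Fin 6 → ℤ) (hy : y ≠ 0)
    (h : (Phi12M M).mulVec y = 0) (t d : ℤ)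
    (hc : M.charpoly = (X ^ 4 - X ^ 2 + 1) * (X ^ 2 - C t * X + C d)) :
    ¬ ((t = 2 ∧ d = 1) ∨ (t = 0 ∧ d = -1)) := by
  rintro (⟨rfl, rfl⟩ | ⟨rfl, rfl⟩)
  · refine ch4_core M hM y hy h 1 (X ^ 4 - X ^ 2 + 1) (X ^ 2 - C 2 * X + C 1) (3 - 2 * X)
      (2 * X ^ 3 + X ^ 2 - 2 * X - 2) (aeval_phi12 M) hc ?_
      (ch4_rev M hM 2 1 1 (by intro p q r; ring))
    have hC2 : (C (2 : ℤ) : ℤ[X]) = 2 := by simp
    rw [hC2, map_one]
    ring
  · refine ch4_core M hM y hy h (-1) (X ^ 4 - X ^ 2 + 1) (X ^ 2 - C 0 * X + C (-1)) 1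
      (-X ^ 2) (aeval_phi12 M) hc ?_
      (ch4_rev M hM 0 (-1) (-1) (by intro p q r; ring))
    rw [map_zero, map_neg, map_one]
    ring

end Cfsg.Agent.E6T
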