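import Mathlib
import Cfsg.Agent.Lib.E6T.Lat
import Cfsg.Agent.Lib.E6T.POLY
import Cfsg.Agent.Lib.E6T.ARITH12

/-!
# S2373 (E6 torus), lattice piece CYCK  [M]  (helper3; helper13's farm, row S2373)

first half of e8tcyc_core in Lib/Helper3/E8TCYCCore.lean: S(M) e_i with (X^e-1) = Phi12 * S.
May use (already imported): POLY, ARITH12; other E6T pieces only if they do not (transitively) import this one.  Keep names/statements/namespace; aux names
prefixed `cyck_`.  Plan: `plans/S2373_plan.md`, full skeleton `plans/E6T_SkelL.lean.txt`.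
-/

set_option autoImplicit false
open Polynomial

namespace Cfsg.Agent.E6T

theorem corew1_ker {K : Type*} [Field K] (q r : ℕ) (hq : 2 ≤ q) (hr : GoodPrime12 q r) (x : Fin 6 → Kˣ)
    (hx : ∀ i, x i ^ r = 1) (hne : x ≠ 1) (M : Matrix (Fin 6) (Fin 6) ℤ)
    (hord : ∃ e : ℕ, 0 < e ∧ M ^ e = 1 ∧ 12 ∣ e ∧ ¬ r ∣ e) (h : Cond q M x) :
    ∃ y : Fin 6 → ℤ, y ≠ 0 ∧ (Phi12M M).mulVec y = 0 := by
  have hrp : r.Prime := hr.prime
  have hrf : Fact r.Prime := ⟨hrp⟩
  obtain ⟨e, he0, heM, h12, hre⟩ := hord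
  -- `X ^ e - 1 = Φ₁₂ S`
  obtain ⟨S, hS⟩ : (X ^ 4 - X ^ 2 + 1 : ℤ[X]) ∣ X ^ e - 1 := by
    rw [← cyc12_eq]
    obtain ⟨k, rfl⟩ := h12
    refine (cyclotomic.dvd_X_pow_sub_one 12 ℤ).trans ?_
    have := sub_dvd_pow_sub_pow ((X : ℤ[X]) ^ 12) 1 k
    rwa [one_pow, ← pow_mul] at this
  -- `r ∤ S(q)`
  have hΦq : eval (q : ℤ) (X ^ 4 - X ^ 2 + 1 : ℤ[X]) = ((m12 q : ℕ) : ℤ) := by
    rw [m12_cast]
    simp only [eval_add, eval_sub, eval_pow, eval_X, eval_one]
  have hrq : ¬ r ∣ q := arith12_not_dvd_q q r hq hr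
  have hSq : ¬ (r : ℤ) ∣ eval (q : ℤ) S := by
    intro hd
    have hder : (e : ℤ) * (q : ℤ) ^ (e - 1) = eval (q : ℤ) (derivative (X ^ 4 - X ^ 2 + 1 : ℤ[X])) * eval (q : ℤ) S
        + ((m12 q : ℕ) : ℤ) * eval (q : ℤ) (derivative S) := by
      have h0 := congrArg (fun p : ℤ[X] => eval (q : ℤ) (derivative p)) hS
      simp only [derivative_sub, derivative_X_pow, derivative_one, sub_zero, eval_mul, eval_pow, eval_X,
        eval_natCast, map_natCast] at h0
      rw [h0, derivative_mul, eval_add, eval_mul, eval_mul, hΦq]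
    have h1 : (r : ℤ) ∣ ((m12 q : ℕ) : ℤ) := Int.natCast_dvd_natCast.2 hr.dvd
    have h2 : (r : ℤ) ∣ (e : ℤ) * (q : ℤ) ^ (e - 1) := by
      rw [hder]
      exact dvd_add (Dvd.dvd.mul_left hd _) (Dvd.dvd.mul_right h1 _)
    have h3 : (r : ℤ) ∣ ((e * q ^ (e - 1) : ℕ) : ℤ) := by
      push_cast
      exact h2
    have h4 : r ∣ e * q ^ (e - 1) := Int.natCast_dvd_natCast.1 h3
    rcases (Nat.Prime.dvd_mul hrp).1 h4 with h5 | h5
    · exact hre h5
    · exact hrq (hrp.dvd_of_dvd_pow h5)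
  -- a coordinate of order `r`
  obtain ⟨i, hi⟩ : ∃ i, x i ≠ 1 := by
    by_contra hall
    push Not at hall
    exact hne (funext hall)
  have hordi : orderOf (x i) = r := orderOf_eq_prime (hx i) hi
  refine ⟨(aeval M S).mulVec (Pi.single i 1), ?_, ?_⟩
  · intro h0
    have h1 := cond_poly q M x h S (Pi.single i 1)
    rw [h0, chiV_zero, chiV_single, zpow_one] at h1
    have h2 : (orderOf (x i) : ℤ) ∣ eval (q : ℤ) S := orderOf_dvd_iff_zpow_eq_one.2 h1.symm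
    rw [hordi] at h2
    exact hSq h2
  · have hprod : Phi12M M * aeval M S = 0 := by
      rw [← aeval_phi12, ← map_mul, ← hS]
      simp only [map_sub, map_pow, aeval_X, map_one]
      rw [heM, sub_self]
    rw [Matrix.mulVec_mulVec, hprod, Matrix.zero_mulVec]

end Cfsg.Agent.E6T
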