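import Mathlib
import Cfsg.Agent.Lib.E6T.Lat
import Cfsg.Agent.Lib.E6T.FINORD
import Cfsg.Agent.Lib.E6T.IRR6
import Cfsg.Agent.Lib.E6T.ARITH12
import Cfsg.Agent.Lib.E6T.POLY

/-!
# S2373 (E6 torus), lattice piece ORDER  [M]  (helper3; helper13's farm, row S2373)

clone of Lib/Helper3/E8TORDERCore.lean + E8TORDER.lean.
May use (already imported): FINORD, IRR6, ARITH12, POLY; other E6T pieces only if they do not (transitively) import this one.  Keep names/statements/namespace; aux names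
prefixed `order_`.  Plan: `plans/S2373_plan.md`, full skeleton `plans/E6T_SkelL.lean.txt`.
-/

set_option autoImplicit false
open Polynomial

namespace Cfsg.Agent.E6T

/-- the core of `corew1_order`, from a finite order only -/
theorem order_core {K : Type*} [Field K] (q r : ℕ) (hq : 2 ≤ q) (hr : GoodPrime12 q r) (x : Fin 6 → Kˣ)
    (hx : ∀ i, x i ^ r = 1) (hne : x ≠ 1) (M : Matrix (Fin 6) (Fin 6) ℤ)
    (hfin : ∃ e : ℕ, 0 < e ∧ M ^ e = 1) (h : Cond q M x) :
    ∃ e : ℕ, 0 < e ∧ M ^ e = 1 ∧ 12 ∣ e ∧ ¬ r ∣ e := by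
  classical
  have hrp : r.Prime := hr.prime
  have hr13 := arith12_ge q r hq hr
  obtain ⟨he0, heM⟩ := Nat.find_spec hfin
  have hmin : ∀ k, 0 < k → M ^ k = 1 → Nat.find hfin ≤ k := fun k hk hk' =>
    Nat.find_min' hfin ⟨hk, hk'⟩
  refine ⟨Nat.find hfin, he0, heM, ?_, ?_⟩
  · obtain ⟨i, hi⟩ : ∃ i, x i ≠ 1 := by
      by_contra hall
      push Not at hall
      exact hne (funext hall)
    have hrf : Fact r.Prime := ⟨hrp⟩
    have hord : orderOf (x i) = r := orderOf_eq_prime (hx i) hi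
    have h1 := cond_iter h (Nat.find hfin) (Pi.single i 1)
    rw [heM, Matrix.one_mulVec, chiV_single, zpow_one] at h1
    have hpos : 1 ≤ q ^ Nat.find hfin := Nat.one_le_pow _ _ (by omega)
    have h2 : x i ^ (q ^ Nat.find hfin - 1) = 1 := by
      have h3 : x i ^ (q ^ Nat.find hfin - 1) * x i = 1 * x i := by
        rw [← pow_succ, Nat.sub_add_cancel hpos, one_mul]
        exact h1.symm
      exact mul_right_cancel h3
    have h3 : r ∣ q ^ Nat.find hfin - 1 := hord ▸ orderOf_dvd_of_pow_eq_one h2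
    exact (arith12_order q r hq hr _).1 h3
  · rintro ⟨k, hk⟩
    have hk0 : 0 < k := by
      rcases Nat.eq_zero_or_pos k with rfl | hpos
      · rw [mul_zero] at hk
        omega
      · exact hpos
    have h1 : (M ^ k) ^ r = 1 := by
      rw [← pow_mul, mul_comm, ← hk]
      exact heM
    have h2 := tors (M ^ k) r hrp (by omega) h1
    have h3 := hmin k hk0 h2
    rw [hk] at h3
    nlinarith

theorem corew1_order {K : Type*} [Field K] (q r : ℕ) (hq : 2 ≤ q) (hr : GoodPrime12 q r) (x : Fin 6 → Kˣ)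
    (hx : ∀ i, x i ^ r = 1) (hne : x ≠ 1) (M : Matrix (Fin 6) (Fin 6) ℤ) (hM : IsW M) (h : Cond q M x) :
    ∃ e : ℕ, 0 < e ∧ M ^ e = 1 ∧ 12 ∣ e ∧ ¬ r ∣ e :=
  order_core q r hq hr x hx hne M (isw_finorder hM) h

end Cfsg.Agent.E6T
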