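import Mathlib
import Cfsg.Agent.Lib.E6T.Lat
import Cfsg.Agent.Lib.E6T.ORDER
import Cfsg.Agent.Lib.E6T.CYCK
import Cfsg.Agent.Lib.E6T.CH1
import Cfsg.Agent.Lib.E6T.CH2
import Cfsg.Agent.Lib.E6T.CH3
import Cfsg.Agent.Lib.E6T.CH4
import Cfsg.Agent.Lib.E6T.FINORD

/-!
# S2373 (E6 torus), lattice piece COREW1A  [M]  -- STUB (helper13's farm, row S2373)

assembly: (t,d) in the list of ch2, 3 | 1-t+d (ch3), not (2,1),(0,-1) (ch4) => (t,d) = (-1,1) => charpoly = Ppoly.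
May use (already imported): ORDER, CYCK, CH1, CH2, CH3, CH4, FINORD; other E6T pieces only if they do not (transitively) import this one.  Keep names/statements/namespace; aux names
prefixed `corew1a_`.  Plan: `plans/S2373_plan.md`, full skeleton `plans/E6T_SkelL.lean.txt`.
-/

set_option autoImplicit false
open Polynomial

namespace Cfsg.Agent.E6T

/-- CH6 = **COREW1a**: assembly of ORDER, CYCK, CH1-CH4 -/
theorem corew1a {K : Type*} [Field K] (q r : ℕ) (hq : 2 ≤ q) (hr : GoodPrime12 q r) (x : Fin 6 → Kˣ)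
    (hx : ∀ i, x i ^ r = 1) (hne : x ≠ 1) (M : Matrix (Fin 6) (Fin 6) ℤ) (hM : IsW M) (h : Cond q M x) :
    IsGood M := by
  have hord := corew1_order q r hq hr x hx hne M hM h
  obtain ⟨y, hy0, hy⟩ := corew1_ker q r hq hr x hx hne M hord h
  obtain ⟨t, d, hc⟩ := ch1 M y hy0 hy
  have h2 := ch2 M hM t d hc
  have h3 := ch3 M hM t d hc
  have h4 := ch4 M hM y hy0 hy t d hc
  have htd : t = -1 ∧ d = 1 := by
    rcases h2 with ⟨hd, ht1, ht2⟩ | ⟨hd, ht⟩
    · subst hd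
      have h5 : t ≠ 2 := fun h => h4 (Or.inl ⟨h, rfl⟩)
      refine ⟨?_, rfl⟩
      omega
    · exact absurd (Or.inr ⟨ht, hd⟩) h4
  refine ⟨hM, ?_⟩
  rw [hc, htd.1, htd.2]
  unfold Ppoly
  simp only [map_neg, map_one]
  ring

end Cfsg.Agent.E6T
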