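import Mathlib
import Cfsg.Agent.Lib.E6T.Lat
import Cfsg.Agent.Lib.E6T.IRR6
import Cfsg.Agent.Lib.E6T.POLY
import Cfsg.Agent.Lib.E6T.GOODB

/-!
# S2373 (E6 torus), lattice piece KRYDET  [H]  (helper13's farm, row S2373; proved by helper6)

NEW: independence of y, My, .., M^5 y.
May use (already imported): IRR6, POLY, GOODB; other E6T pieces only if they do not (transitively) import this one.  Keep names/statements/namespace; aux names
prefixed `krydet_`.  Plan: `plans/S2373_plan.md`, full skeleton `plans/E6T_SkelL.lean.txt`.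

Proof: if `det = 0` there is `c ≠ 0` with `(∑ c_j M^j) y = 0`, i.e. `g(M) y = 0` with `0 ≠ g`, `deg g ≤ 5`.  Over `ℚ`:
`y₁ = Φ₃(M) y ≠ 0` is killed by `Φ₁₂(M)` (as `P(M) = 0`) and by `g(M)`, so `Φ₁₂ ∣ g` (irreducibility); likewise
`Φ₃ ∣ g`; the two are coprime, so `Φ₁₂ Φ₃ ∣ g`, of degree `6 > 5`.
-/

set_option autoImplicit false
open Polynomial

namespace Cfsg.Agent.E6T

/-- `f` irreducible, `f(N) y = 0`, `y ≠ 0`, `g(N) y = 0`: then `f ∣ g` -/
theorem krydet_dvd (N : Matrix (Fin 6) (Fin 6) ℚ) (f : ℚ[X]) (hf : Irreducible f) (y : Fin 6 → ℚ)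
    (hy : y ≠ 0) (h : (aeval N f).mulVec y = 0) (g : ℚ[X]) (hg : (aeval N g).mulVec y = 0) :
    f ∣ g := by
  by_contra hndvd
  have hcop : IsCoprime f g := (EuclideanDomain.dvd_or_coprime f g hf).resolve_left hndvd
  obtain ⟨a, b, hab⟩ := hcop
  apply hy
  have h1 : (aeval N (a * f + b * g)).mulVec y = y := by
    rw [hab, map_one, Matrix.one_mulVec]
  rw [map_add, map_mul, map_mul, Matrix.add_mulVec, ← Matrix.mulVec_mulVec,
    ← Matrix.mulVec_mulVec, h, hg, Matrix.mulVec_zero, Matrix.mulVec_zero, add_zero] at h1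
  exact h1.symm

/-- casting a matrix-vector product to `ℚ` -/
theorem krydet_cast (A : Matrix (Fin 6) (Fin 6) ℤ) (v : Fin 6 → ℤ) (i : Fin 6) :
    (((Int.castRingHom ℚ).mapMatrix A).mulVec (fun k => ((v k : ℤ) : ℚ))) i =
      ((A.mulVec v i : ℤ) : ℚ) := by
  have h := RingHom.map_mulVec (Int.castRingHom ℚ) A v i
  simp only [eq_intCast] at h
  rw [h]
  rfl

theorem krydet_natDegree12 : (X ^ 4 - X ^ 2 + 1 : ℚ[X]).natDegree = 4 := by
  rw [← irr6_cyc12, natDegree_cyclotomic]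
  decide

theorem krydet_natDegree3 : (X ^ 2 + X + 1 : ℚ[X]).natDegree = 2 := by
  rw [← cyclotomic_three ℚ, natDegree_cyclotomic]
  decide

/-- the independence part: the Krylov determinant of a vector killed neither by `Φ₁₂(M)` nor by `Φ₃(M)` is not `0` -/
theorem krylov_det_ne_zero (M : Matrix (Fin 6) (Fin 6) ℤ) (hM : IsGood M) (y : Fin 6 → ℤ)
    (h12 : (Phi12M M).mulVec y ≠ 0) (h3 : (Phi3M M).mulVec y ≠ 0) : (krylov M y).det ≠ 0 := by
  intro hdet
  obtain ⟨c, hc0, hc⟩ := Matrix.exists_mulVec_eq_zero_iff.mpr hdet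
  set φ := (Int.castRingHom ℚ).mapMatrix (m := Fin 6) with hφ
  set N : Matrix (Fin 6) (Fin 6) ℚ := φ M with hN
  set yq : Fin 6 → ℚ := fun k => ((y k : ℤ) : ℚ) with hyq
  set g : ℚ[X] := ∑ j : Fin 6, C ((c j : ℤ) : ℚ) * X ^ (j : ℕ) with hg
  -- `g(N) yq = 0`
  have hgN : (aeval N g).mulVec yq = 0 := by
    rw [hg, map_sum, Matrix.sum_mulVec]
    funext i
    rw [Finset.sum_apply]
    have hterm : ∀ j : Fin 6, ((aeval N (C ((c j : ℤ) : ℚ) * X ^ (j : ℕ))).mulVec yq) i =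
        (((M ^ (j : ℕ)).mulVec y i * c j : ℤ) : ℚ) := by
      intro j
      rw [map_mul, aeval_C, map_pow, aeval_X, Algebra.algebraMap_eq_smul_one, smul_mul_assoc,
        one_mul, Matrix.smul_mulVec, Pi.smul_apply, smul_eq_mul, hN, ← map_pow, hyq, krydet_cast,
        Int.cast_mul, mul_comm]
    rw [Finset.sum_congr rfl (fun j _ => hterm j), ← Int.cast_sum]
    have h2 := congrFun hc i
    have h3' : (krylov M y).mulVec c i = ∑ j : Fin 6, (M ^ (j : ℕ)).mulVec y i * c j := by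
      rfl
    rw [← h3', h2]
    simp
  -- the two cyclotomic factors at `N`
  have hA12 : aeval N (X ^ 4 - X ^ 2 + 1 : ℚ[X]) = φ (Phi12M M) := by
    simp only [map_add, map_sub, map_pow, aeval_X, map_one, Phi12M, hN]
  have hA3 : aeval N (X ^ 2 + X + 1 : ℚ[X]) = φ (Phi3M M) := by
    simp only [map_add, map_pow, aeval_X, map_one, Phi3M, hN]
  have hPM := good_pm hM
  -- `y₁ = Φ₃(N) yq`
  have hy1 : (aeval N (X ^ 2 + X + 1 : ℚ[X])).mulVec yq ≠ 0 := by
    intro h0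
    apply h3
    funext i
    have hi := congrFun h0 i
    rw [hA3, hyq, krydet_cast] at hi
    simp only [Pi.zero_apply] at hi ⊢
    exact_mod_cast hi
  have hy2 : (aeval N (X ^ 4 - X ^ 2 + 1 : ℚ[X])).mulVec yq ≠ 0 := by
    intro h0
    apply h12
    funext i
    have hi := congrFun h0 i
    rw [hA12, hyq, krydet_cast] at hi
    simp only [Pi.zero_apply] at hi ⊢
    exact_mod_cast hi
  have hk1 : (aeval N (X ^ 4 - X ^ 2 + 1 : ℚ[X])).mulVec
      ((aeval N (X ^ 2 + X + 1 : ℚ[X])).mulVec yq) = 0 := by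
    rw [Matrix.mulVec_mulVec, hA12, hA3, ← map_mul, ← pm_eq, hPM, map_zero, Matrix.zero_mulVec]
  have hk2 : (aeval N (X ^ 2 + X + 1 : ℚ[X])).mulVec
      ((aeval N (X ^ 4 - X ^ 2 + 1 : ℚ[X])).mulVec yq) = 0 := by
    rw [Matrix.mulVec_mulVec, hA12, hA3, ← map_mul, ← pm_eq', hPM, map_zero, Matrix.zero_mulVec]
  have hg1 : (aeval N g).mulVec ((aeval N (X ^ 2 + X + 1 : ℚ[X])).mulVec yq) = 0 := by
    rw [Matrix.mulVec_mulVec, ← map_mul, mul_comm, map_mul, ← Matrix.mulVec_mulVec, hgN,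
      Matrix.mulVec_zero]
  have hg2 : (aeval N g).mulVec ((aeval N (X ^ 4 - X ^ 2 + 1 : ℚ[X])).mulVec yq) = 0 := by
    rw [Matrix.mulVec_mulVec, ← map_mul, mul_comm, map_mul, ← Matrix.mulVec_mulVec, hgN,
      Matrix.mulVec_zero]
  have hd12 : (X ^ 4 - X ^ 2 + 1 : ℚ[X]) ∣ g := krydet_dvd N _ cyc12_irr _ hy1 hk1 g hg1
  have hd3 : (X ^ 2 + X + 1 : ℚ[X]) ∣ g := krydet_dvd N _ cyc3_irr _ hy2 hk2 g hg2
  have h3ne : (X ^ 2 + X + 1 : ℚ[X]) ≠ 0 := cyc3_irr.ne_zero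
  have h12ne : (X ^ 4 - X ^ 2 + 1 : ℚ[X]) ≠ 0 := cyc12_irr.ne_zero
  have hcop : IsCoprime (X ^ 4 - X ^ 2 + 1 : ℚ[X]) (X ^ 2 + X + 1) := by
    refine (EuclideanDomain.dvd_or_coprime _ _ cyc12_irr).resolve_left ?_
    intro hdvd
    have h1 := Polynomial.natDegree_le_of_dvd hdvd h3ne
    rw [krydet_natDegree12, krydet_natDegree3] at h1
    omega
  have hmul : (X ^ 4 - X ^ 2 + 1 : ℚ[X]) * (X ^ 2 + X + 1) ∣ g := hcop.mul_dvd hd12 hd3
  -- `g ≠ 0`
  have hcoeff : ∀ j : Fin 6, g.coeff (j : ℕ) = ((c j : ℤ) : ℚ) := by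
    intro j
    rw [hg, Polynomial.finsetSum_coeff]
    simp only [Polynomial.coeff_C_mul_X_pow]
    rw [Finset.sum_eq_single j]
    · simp
    · intro b _ hb
      rw [if_neg]
      intro hjb
      exact hb (Fin.ext hjb.symm)
    · intro h
      exact absurd (Finset.mem_univ j) h
  have hg0 : g ≠ 0 := by
    intro h0
    apply hc0
    funext j
    have h1 := hcoeff j
    rw [h0, coeff_zero] at h1
    simp only [Pi.zero_apply]
    exact_mod_cast h1.symm
  have hdeg : g.degree < (6 : ℕ) := Polynomial.degree_sum_fin_lt (fun j : Fin 6 => ((c j : ℤ) : ℚ))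
  have hnd : g.natDegree < 6 := by
    rw [Polynomial.degree_eq_natDegree hg0] at hdeg
    exact_mod_cast hdeg
  have h6 := Polynomial.natDegree_le_of_dvd hmul hg0
  rw [Polynomial.natDegree_mul h12ne h3ne, krydet_natDegree12, krydet_natDegree3] at h6
  omega

end Cfsg.Agent.E6T
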