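import Mathlib
import Cfsg.Agent.Lib.E6T.Lat
import Cfsg.Agent.Lib.E6T.HAD6
import Cfsg.Agent.Lib.E6T.POLY
import Cfsg.Agent.Lib.E6T.ARITH12
import Cfsg.Agent.Lib.E6T.FINORD

/-!
# S2373 (E6 torus), lattice piece REGG  [M]  (helper13's farm, row S2373; proved by helper9)

clone of Lib/Helper3/E8TREG.lean.
May use (already imported): HAD6, POLY, ARITH12, FINORD; other E6T pieces only if they do not (transitively) import this one.  Keep names/statements/namespace; aux names
prefixed `regg_`.  Plan: `plans/S2373_plan.md`, full skeleton `plans/E6T_SkelL.lean.txt`.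
-/

set_option autoImplicit false
open Polynomial

namespace Cfsg.Agent.E6T

/-- the Krylov matrix applied to a vector is a combination of the iterates -/
theorem regg_mulVec (M : Matrix (Fin 6) (Fin 6) ℤ) (y w : Fin 6 → ℤ) :
    (krylov M y).mulVec w = ∑ j : Fin 6, w j • (M ^ j.val).mulVec y := by
  funext a
  simp only [Matrix.mulVec, dotProduct, krylov, Matrix.of_apply, Finset.sum_apply, Pi.smul_apply, smul_eq_mul]
  refine Finset.sum_congr rfl fun j _ => ?_
  ring

theorem reg_generic {K : Type*} [Field K] (q r : ℕ) (hq : 2 ≤ q) (hr : GoodPrime12 q r) (x : Fin 6 → Kˣ)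
    (hx : ∀ i, x i ^ r = 1) (hne : x ≠ 1) (M : Matrix (Fin 6) (Fin 6) ℤ) (hM : IsGood M) (h : Cond q M x)
    (y : Fin 6 → ℤ) (hy : ip y y = 2) (hD : (krylov M y).det ≠ 0) : chiV x y ≠ 1 := by
  intro hχ
  have hrp : r.Prime := hr.prime
  have hr13 := arith12_ge q r hq hr
  have hle := had_krylov M hM.1 y hy
  set B : Matrix (Fin 6) (Fin 6) ℤ := krylov M y with hB
  -- the character is trivial on the image of `B`
  have himg : ∀ w : Fin 6 → ℤ, chiV x (B.mulVec w) = 1 := by
    intro w
    rw [hB, regg_mulVec, chiV_sum]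
    refine Finset.prod_eq_one fun j _ => ?_
    rw [chiV_zsmul, cond_iter h, hχ, one_pow, one_zpow]
  apply hne
  funext i
  have h1 : chiV x (B.det • Pi.single i 1) = 1 := by
    have h2 : B.det • (Pi.single i 1 : Fin 6 → ℤ) = B.mulVec (B.adjugate.mulVec (Pi.single i 1)) := by
      rw [Matrix.mulVec_mulVec, Matrix.mul_adjugate, Matrix.smul_mulVec, Matrix.one_mulVec]
    rw [h2]
    exact himg _
  rw [chiV_zsmul, chiV_single, zpow_one] at h1
  have h3 : (orderOf (x i) : ℤ) ∣ B.det := orderOf_dvd_iff_zpow_eq_one.2 h1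
  have h4 : orderOf (x i) ∣ B.det.natAbs := Int.natCast_dvd.1 h3
  have h5 : orderOf (x i) ∣ r := orderOf_dvd_of_pow_eq_one (hx i)
  have hnat : B.det.natAbs ≤ 4 := by
    by_contra hcon
    have h5' : 5 ≤ B.det.natAbs := by omega
    have h6 : (5 : ℤ) ≤ |B.det| := by
      rw [Int.abs_eq_natAbs]
      exact_mod_cast h5'
    have h7 : (25 : ℤ) ≤ B.det ^ 2 := by
      rw [← sq_abs]
      nlinarith
    omega
  have hpos : 0 < B.det.natAbs := Int.natAbs_pos.2 hD
  rcases (Nat.dvd_prime hrp).1 h5 with h6 | h6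
  · exact orderOf_eq_one_iff.1 h6
  · exfalso
    rw [h6] at h4
    have := Nat.le_of_dvd hpos h4
    omega

end Cfsg.Agent.E6T
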