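import Mathlib
import Cfsg.Agent.Lib.E6T.Lat
import Cfsg.Agent.Lib.E6T.IRR6
import Cfsg.Agent.Lib.E6T.POLY
import Cfsg.Agent.Lib.E6T.GOODB

/-!
# S2373 (E6 torus), lattice piece MIXDET  [H]  (helper13's farm, row S2373)
-/

set_option autoImplicit false
open Polynomial

namespace Cfsg.Agent.E6T

/-- casting `B.mulVec y` to `ℚ` -/
theorem mixdet_cast (B : Matrix (Fin 6) (Fin 6) ℤ) (y : Fin 6 → ℤ) (i : Fin 6) :
    (((B.mulVec y) i : ℤ) : ℚ) =
      ((Int.castRingHom ℚ).mapMatrix B).mulVec (fun j => (y j : ℚ)) i := by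
  have h := RingHom.map_mulVec (Int.castRingHom ℚ) B y i
  rw [RingHom.mapMatrix_apply]
  exact h

/-- sub-piece of REGL1: the mixed Krylov matrix is nonsingular -/
theorem mixed_det_ne_zero (M : Matrix (Fin 6) (Fin 6) ℤ) (hM : IsGood M) (v w' : Fin 6 → ℤ) (hv : v ≠ 0)
    (hw' : w' ≠ 0) (h12 : (Phi12M M).mulVec v = 0) (h3 : (Phi3M M).mulVec w' = 0) :
    (Matrix.of fun i (j : Fin 6) =>
      (if j.val < 4 then (M ^ j.val).mulVec v i else (M ^ (j.val - 4)).mulVec w' i)).det ≠ 0 := by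
  intro hdet
  obtain ⟨A, hAdef⟩ : ∃ A : Matrix (Fin 6) (Fin 6) ℤ, A = Matrix.of fun i (j : Fin 6) =>
      (if j.val < 4 then (M ^ j.val).mulVec v i else (M ^ (j.val - 4)).mulVec w' i) := ⟨_, rfl⟩
  rw [← hAdef] at hdet
  obtain ⟨N, hN⟩ : ∃ N : Matrix (Fin 6) (Fin 6) ℚ, N = (Int.castRingHom ℚ).mapMatrix M := ⟨_, rfl⟩
  obtain ⟨vq, hvq⟩ : ∃ vq : Fin 6 → ℚ, vq = fun i => (v i : ℚ) := ⟨_, rfl⟩
  obtain ⟨wq, hwq⟩ : ∃ wq : Fin 6 → ℚ, wq = fun i => (w' i : ℚ) := ⟨_, rfl⟩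
  have hvq0 : vq ≠ 0 := by
    intro h
    apply hv
    funext i
    have h1 := congrFun h i
    rw [hvq] at h1
    simpa using h1
  have hwq0 : wq ≠ 0 := by
    intro h
    apply hw'
    funext i
    have h1 := congrFun h i
    rw [hwq] at h1
    simpa using h1
  have hpow : ∀ k : ℕ, (Int.castRingHom ℚ).mapMatrix (M ^ k) = N ^ k := by
    intro k
    rw [map_pow, hN]
  have h12q : (aeval N (X ^ 4 - X ^ 2 + 1 : ℚ[X])).mulVec vq = 0 := by
    have e : aeval N (X ^ 4 - X ^ 2 + 1 : ℚ[X]) = (Int.castRingHom ℚ).mapMatrix (Phi12M M) := by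
      simp only [map_sub, map_add, map_pow, aeval_X, map_one, Phi12M, hN]
    rw [e]
    funext i
    rw [hvq, ← mixdet_cast, h12]
    simp
  have h3q : (aeval N (X ^ 2 + X + 1 : ℚ[X])).mulVec wq = 0 := by
    have e : aeval N (X ^ 2 + X + 1 : ℚ[X]) = (Int.castRingHom ℚ).mapMatrix (Phi3M M) := by
      simp only [map_add, map_pow, aeval_X, map_one, Phi3M, hN]
    rw [e]
    funext i
    rw [hwq, ← mixdet_cast, h3]
    simp
  have hdetq : ((Int.castRingHom ℚ).mapMatrix A).det = 0 := by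
    rw [← RingHom.map_det, hdet, map_zero]
  obtain ⟨c, hc0, hc⟩ := Matrix.exists_mulVec_eq_zero_iff.mpr hdetq
  have hA : ∀ i, (A i 0 = v i) ∧ (A i 1 = M.mulVec v i) ∧ (A i 2 = (M ^ 2).mulVec v i) ∧
      (A i 3 = (M ^ 3).mulVec v i) ∧ (A i 4 = w' i) ∧ (A i 5 = M.mulVec w' i) := by
    intro i
    rw [hAdef]
    refine ⟨?_, ?_, ?_, ?_, ?_, ?_⟩ <;> simp
  have hrel : c 0 • vq + c 1 • N.mulVec vq + c 2 • (N ^ 2).mulVec vq + c 3 • (N ^ 3).mulVec vq +
      c 4 • wq + c 5 • N.mulVec wq = 0 := by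
    funext i
    have h1 := congrFun hc i
    obtain ⟨a0, a1, a2, a3, a4, a5⟩ := hA i
    simp only [Matrix.mulVec, dotProduct, Fin.sum_univ_six, RingHom.mapMatrix_apply,
      Matrix.map_apply, Pi.zero_apply] at h1
    rw [a0, a1, a2, a3, a4, a5] at h1
    simp only [eq_intCast] at h1
    have e1 := mixdet_cast M v i
    have e2 := mixdet_cast (M ^ 2) v i
    have e3 := mixdet_cast (M ^ 3) v i
    have e5 := mixdet_cast M w' i
    rw [hpow 2] at e2
    rw [hpow 3] at e3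
    rw [← hN] at e1 e5
    rw [← hvq] at e1 e2 e3
    rw [← hwq] at e5
    have e0 : ((v i : ℤ) : ℚ) = vq i := by rw [hvq]
    have e4 : ((w' i : ℤ) : ℚ) = wq i := by rw [hwq]
    rw [e0, e1, e2, e3, e4, e5] at h1
    simp only [Pi.add_apply, Pi.smul_apply, smul_eq_mul, Pi.zero_apply]
    linear_combination h1
  obtain ⟨g, hgdef⟩ : ∃ g : ℚ[X], g = C (c 0) + C (c 1) * X + C (c 2) * X ^ 2 + C (c 3) * X ^ 3 :=
    ⟨_, rfl⟩
  obtain ⟨h, hhdef⟩ : ∃ h : ℚ[X], h = C (c 4) + C (c 5) * X := ⟨_, rfl⟩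
  have hgv : (aeval N g).mulVec vq =
      c 0 • vq + c 1 • N.mulVec vq + c 2 • (N ^ 2).mulVec vq + c 3 • (N ^ 3).mulVec vq := by
    simp only [hgdef, map_add, map_mul, aeval_C, aeval_X, map_pow, Algebra.algebraMap_eq_smul_one,
      smul_mul_assoc, one_mul, Matrix.add_mulVec, Matrix.smul_mulVec, Matrix.one_mulVec]
  have hhw : (aeval N h).mulVec wq = c 4 • wq + c 5 • N.mulVec wq := by
    simp only [hhdef, map_add, map_mul, aeval_C, aeval_X, Algebra.algebraMap_eq_smul_one,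
      smul_mul_assoc, one_mul, Matrix.add_mulVec, Matrix.smul_mulVec, Matrix.one_mulVec]
  have hsum : (aeval N g).mulVec vq + (aeval N h).mulVec wq = 0 := by
    rw [hgv, hhw, ← hrel]
    abel
  have hd12 : (X ^ 4 - X ^ 2 + 1 : ℚ[X]).natDegree = 4 := by compute_degree!
  have hd3 : (X ^ 2 + X + 1 : ℚ[X]).natDegree = 2 := by compute_degree!
  have hg0 : g = 0 := by
    by_contra hg0
    have hdeg : g.natDegree < (X ^ 4 - X ^ 2 + 1 : ℚ[X]).natDegree := by
      have h2 : g.natDegree ≤ 3 := by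
        rw [hgdef]
        compute_degree
      omega
    have hu := irr_indep N _ cyc12_irr vq hvq0 h12q g hg0 hdeg
    have hu12 : (aeval N (X ^ 4 - X ^ 2 + 1 : ℚ[X])).mulVec ((aeval N g).mulVec vq) = 0 := by
      rw [Matrix.mulVec_mulVec, ← map_mul, mul_comm, map_mul, ← Matrix.mulVec_mulVec, h12q,
        Matrix.mulVec_zero]
    have hu3 : (aeval N (X ^ 2 + X + 1 : ℚ[X])).mulVec ((aeval N g).mulVec vq) = 0 := by
      have h4 : (aeval N g).mulVec vq = -(aeval N h).mulVec wq := eq_neg_of_add_eq_zero_left hsum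
      rw [h4, Matrix.mulVec_neg, Matrix.mulVec_mulVec, ← map_mul, mul_comm, map_mul,
        ← Matrix.mulVec_mulVec, h3q, Matrix.mulVec_zero, neg_zero]
    have hdeg3 : (X ^ 2 + X + 1 : ℚ[X]).natDegree < (X ^ 4 - X ^ 2 + 1 : ℚ[X]).natDegree := by
      omega
    exact irr_indep N _ cyc12_irr _ hu hu12 (X ^ 2 + X + 1) cyc3_irr.ne_zero hdeg3 hu3
  have hh0 : h = 0 := by
    by_contra hh0
    have hdeg : h.natDegree < (X ^ 2 + X + 1 : ℚ[X]).natDegree := by
      have h2 : h.natDegree ≤ 1 := by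
        rw [hhdef]
        compute_degree
      omega
    have hw0 : (aeval N h).mulVec wq = 0 := by
      rw [hg0, map_zero, Matrix.zero_mulVec, zero_add] at hsum
      exact hsum
    exact irr_indep N _ cyc3_irr wq hwq0 h3q h hh0 hdeg hw0
  apply hc0
  rw [hgdef] at hg0
  rw [hhdef] at hh0
  have k0 := congrArg (fun p : ℚ[X] => p.coeff 0) hg0
  have k1 := congrArg (fun p : ℚ[X] => p.coeff 1) hg0
  have k2 := congrArg (fun p : ℚ[X] => p.coeff 2) hg0
  have k3 := congrArg (fun p : ℚ[X] => p.coeff 3) hg0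
  have k4 := congrArg (fun p : ℚ[X] => p.coeff 0) hh0
  have k5 := congrArg (fun p : ℚ[X] => p.coeff 1) hh0
  simp [coeff_X, coeff_X_pow, coeff_C] at k0 k1 k2 k3 k4 k5
  funext j
  fin_cases j <;> simp [k0, k1, k2, k3, k4, k5]

end Cfsg.Agent.E6T
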