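import Mathlib
import Cfsg.Agent.Lib.E6T.Lat
import Cfsg.Agent.Lib.E6T.GRAMREL
import Cfsg.Agent.Lib.E6T.NOEIG
import Cfsg.Agent.Lib.E6T.GOODB
import Cfsg.Agent.Lib.E6T.PD6
import Cfsg.Agent.Lib.E6T.FINORD

/-!
# S2373 (E6 torus), lattice piece NORMPHI  [M]  (helper13's farm, row S2373; proved by helper4)

NEW.
May use (already imported): GRAMREL, NOEIG, GOODB, PD6, FINORD; other E6T pieces only if they do not (transitively) import this one.  Keep names/statements/namespace; aux names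
prefixed `normphi_`.  Plan: `plans/S2373_plan.md`, full skeleton `plans/E6T_SkelL.lean.txt`.
-/

set_option autoImplicit false
open Polynomial

namespace Cfsg.Agent.E6T

theorem normphi_expand (M : Matrix (Fin 6) (Fin 6) ℤ) (hW : IsW M) (w : Fin 6 → ℤ) :
    ip ((Phi12M M).mulVec w) ((Phi12M M).mulVec w) =
      3 * ip w w - 4 * ip w ((M ^ 2).mulVec w) + 2 * ip w ((M ^ 4).mulVec w) := by
  have h1 : (Phi12M M).mulVec w = (M ^ 4).mulVec w - (M ^ 2).mulVec w + w := by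
    unfold Phi12M
    rw [Matrix.add_mulVec, Matrix.sub_mulVec, Matrix.one_mulVec]
  have e44 := gramrel_le M hW w 4 4 le_rfl
  have e22 := gramrel_le M hW w 2 2 le_rfl
  have e24 := gramrel_le M hW w 2 4 (by norm_num)
  rw [Nat.sub_self, pow_zero, Matrix.one_mulVec] at e44 e22
  rw [show 4 - 2 = 2 from rfl] at e24
  have e42 : ip ((M ^ 4).mulVec w) ((M ^ 2).mulVec w) = ip w ((M ^ 2).mulVec w) := by
    rw [ip_comm, e24]
  have e4w : ip ((M ^ 4).mulVec w) w = ip w ((M ^ 4).mulVec w) := ip_comm _ _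
  have e2w : ip ((M ^ 2).mulVec w) w = ip w ((M ^ 2).mulVec w) := ip_comm _ _
  rw [h1]
  simp only [ip_add_left, ip_add_right, ip_sub_left, ip_sub_right]
  rw [e44, e22, e24, e42, e4w, e2w]
  ring

theorem norm_phi12 (M : Matrix (Fin 6) (Fin 6) ℤ) (hM : IsGood M) (w : Fin 6 → ℤ) (hw : ip w w = 2)
    (h : (Phi12M M).mulVec w ≠ 0) : ip ((Phi12M M).mulVec w) ((Phi12M M).mulVec w) = 4 := by
  have hW : IsW M := hM.1
  obtain ⟨g1, g2, -⟩ := gram_rel M hM w
  have hexp := normphi_expand M hW w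
  have hnn := ip_self_nonneg ((Phi12M M).mulVec w)
  have hne : ip ((Phi12M M).mulVec w) ((Phi12M M).mulVec w) ≠ 0 := fun h0 => h (ip_self_eq_zero _ h0)
  have hw2 : ip ((M ^ 2).mulVec w) ((M ^ 2).mulVec w) = 2 := by
    rw [isw_ip (isw_pow hW 2), hw]
  have hw3 : ip ((M ^ 3).mulVec w) ((M ^ 3).mulVec w) = 2 := by
    rw [isw_ip (isw_pow hW 3), hw]
  obtain ⟨n1, n2, n3, n4, n5⟩ := noeig M hM w hw
  have hb := ip_le_two w ((M ^ 2).mulVec w) hw hw2
  have hc2a : ip w ((M ^ 2).mulVec w) ≠ -2 := by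
    intro h2
    have := ip_eq_neg_two w ((M ^ 2).mulVec w) hw hw2 h2
    have h4 := congrArg Neg.neg this
    rw [neg_neg] at h4
    exact n3 h4.symm
  have hc2b : ip w ((M ^ 2).mulVec w) ≠ -1 := by
    intro h2
    have h3 : ip w ((M ^ 3).mulVec w) = 2 := by rw [hw, h2] at g1; omega
    have := ip_eq_two w ((M ^ 3).mulVec w) hw hw3 h3
    exact n4 this.symm
  rw [hexp] at hnn hne ⊢
  rw [hw] at g1 hnn hne ⊢
  omega

end Cfsg.Agent.E6T
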