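import Mathlib
import Cfsg.Agent.Lib.E6T.Lat
import Cfsg.Agent.Lib.E6T.NORMPHI
import Cfsg.Agent.Lib.E6T.MIXDET
import Cfsg.Agent.Lib.E6T.HAD6
import Cfsg.Agent.Lib.E6T.GOODB
import Cfsg.Agent.Lib.E6T.POLY
import Cfsg.Agent.Lib.E6T.ARITH12
import Cfsg.Agent.Lib.E6T.TAB
import Cfsg.Agent.Lib.E6T.PD6

/-!
# S2373 (E6 torus), lattice piece REGL1  [H]  (helper13's farm, row S2373; proved by helper27)

Regularity, the case `Φ₁₂(M) v = 0`: take a simple root `w` with `w' := Φ₁₂(M) w ≠ 0` (`exists_generic`); then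
`Φ₃(M) w' = 0`, `|w'|² = 4` (`norm_phi12`), the mixed matrix `B' = [v, M v, M² v, M³ v, w', M w']` is nonsingular
(`mixed_det_ne_zero`), `3 (det B')² ≤ (16/6)⁶ < 360` (`had6`), so `|det B'| ≤ 10 < 13 ≤ r`; the character `χ_x` kills all
columns of `B'`, hence `x ^ det B' = 1`, hence `x = 1`.
-/

set_option autoImplicit false
open Polynomial

namespace Cfsg.Agent.E6T

/-- an isometry preserves the form -/
theorem regl1_ip_mulVec (M : Matrix (Fin 6) (Fin 6) ℤ) (hM : IsW M) (y z : Fin 6 → ℤ) :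
    ip (M.mulVec y) (M.mulVec z) = ip y z := by
  have h1 : ip y z = y ⬝ᵥ (M.transpose * C6 * M).mulVec z := by rw [hM.1]; rfl
  rw [h1, ← Matrix.mulVec_mulVec, ← Matrix.mulVec_mulVec, Matrix.dotProduct_mulVec, Matrix.vecMul_transpose]
  rfl

/-- powers of an isometry preserve the form -/
theorem regl1_ip_pow (M : Matrix (Fin 6) (Fin 6) ℤ) (hM : IsW M) (k : ℕ) (y z : Fin 6 → ℤ) :
    ip ((M ^ k).mulVec y) ((M ^ k).mulVec z) = ip y z := by
  induction k with
  | zero => rw [pow_zero, Matrix.one_mulVec, Matrix.one_mulVec]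
  | succ k ih =>
    rw [pow_succ', ← Matrix.mulVec_mulVec, ← Matrix.mulVec_mulVec, regl1_ip_mulVec M hM, ih]

/-- a matrix applied to a vector is a combination of the columns -/
theorem regl1_mulVec (B : Matrix (Fin 6) (Fin 6) ℤ) (w : Fin 6 → ℤ) :
    B.mulVec w = ∑ j : Fin 6, w j • (fun a => B a j) := by
  funext a
  simp only [Matrix.mulVec, dotProduct, Finset.sum_apply, Pi.smul_apply, smul_eq_mul]
  refine Finset.sum_congr rfl fun j _ => ?_
  ring

theorem reg_l1 {K : Type*} [Field K] (q r : ℕ) (hq : 2 ≤ q) (hr : GoodPrime12 q r) (x : Fin 6 → Kˣ)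
    (hx : ∀ i, x i ^ r = 1) (hne : x ≠ 1) (M : Matrix (Fin 6) (Fin 6) ℤ) (hM : IsGood M) (h : Cond q M x)
    (y : Fin 6 → ℤ) (hy : ip y y = 2) (h12 : (Phi12M M).mulVec y = 0) : chiV x y ≠ 1 := by
  intro hχ
  have hrp : r.Prime := hr.prime
  have hr13 := arith12_ge q r hq hr
  obtain ⟨i, hi⟩ := exists_generic M hM
  have hww : ip (rc (sIdx i)) (rc (sIdx i)) = 2 := ip_rc _ (sIdx_lt i)
  have hn4 := norm_phi12 M hM _ hww hi
  have h3 : (Phi3M M).mulVec ((Phi12M M).mulVec (rc (sIdx i))) = 0 := by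
    rw [Matrix.mulVec_mulVec, ← pm_eq', good_pm hM, Matrix.zero_mulVec]
  have hy0 : y ≠ 0 := by
    intro h0
    rw [h0, ip_zero_left] at hy
    norm_num at hy
  have hxr : x ^ r = 1 := by
    funext j
    rw [Pi.pow_apply, hx j, Pi.one_apply]
  -- the character kills `w'`
  have hχw' : chiV x ((Phi12M M).mulVec (rc (sIdx i))) = 1 := by
    rw [← aeval_phi12, cond_poly q M x h]
    have he : (X ^ 4 - X ^ 2 + 1 : ℤ[X]).eval (q : ℤ) = ((m12 q : ℕ) : ℤ) := by
      rw [m12_cast]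
      simp
    rw [he, zpow_natCast]
    have hr1 : chiV x (rc (sIdx i)) ^ r = 1 := by
      rw [← chiV_pow_left, hxr, chiV_one_left]
    obtain ⟨c, hc⟩ := hr.dvd
    rw [hc, pow_mul, hr1, one_pow]
  set w' : Fin 6 → ℤ := (Phi12M M).mulVec (rc (sIdx i)) with hw'
  set B : Matrix (Fin 6) (Fin 6) ℤ := Matrix.of fun a (j : Fin 6) =>
      (if j.val < 4 then (M ^ j.val).mulVec y a else (M ^ (j.val - 4)).mulVec w' a) with hB
  have hdet : B.det ≠ 0 := mixed_det_ne_zero M hM y w' hy0 hi h12 h3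
  have hcol : ∀ j : Fin 6, (fun a => B a j) =
      if j.val < 4 then (M ^ j.val).mulVec y else (M ^ (j.val - 4)).mulVec w' := by
    intro j
    funext a
    rw [hB, Matrix.of_apply]
    split_ifs <;> rfl
  -- the Hadamard bound
  have hs : ∀ j : Fin 6, ip (fun a => B a j) (fun a => B a j) ≤ (if j.val < 4 then (2 : ℤ) else 4) := by
    intro j
    rw [hcol j]
    split_ifs
    · rw [regl1_ip_pow M hM.1, hy]
    · rw [regl1_ip_pow M hM.1, hn4]
  have hhad := had6 B (fun j => if j.val < 4 then (2 : ℤ) else 4) hs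
  have hsum : (∑ j : Fin 6, (if j.val < 4 then (2 : ℤ) else 4)) = 16 := by
    decide
  rw [hsum] at hhad
  have hle : B.det.natAbs ≤ 10 := by
    have h1 : (B.det : ℝ) ^ 2 < 121 := by
      have : (((16 : ℤ) : ℝ) / 6) ^ 6 < 360 := by norm_num
      nlinarith
    have h2 : B.det ^ 2 < 121 := by exact_mod_cast h1
    by_contra hcon
    rw [not_le] at hcon
    have h4 : (11 : ℤ) ≤ (B.det.natAbs : ℤ) := by exact_mod_cast hcon
    have h5 : ((B.det.natAbs : ℤ)) ^ 2 = B.det ^ 2 := Int.natAbs_sq B.det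
    nlinarith
  -- the character is trivial on the image of `B`
  have himg : ∀ w₀ : Fin 6 → ℤ, chiV x (B.mulVec w₀) = 1 := by
    intro w₀
    rw [regl1_mulVec, chiV_sum]
    refine Finset.prod_eq_one fun j _ => ?_
    rw [chiV_zsmul, hcol j]
    split_ifs
    · rw [cond_iter h, hχ, one_pow, one_zpow]
    · rw [cond_iter h, hχw', one_pow, one_zpow]
  apply hne
  funext j
  have h1 : chiV x (B.det • Pi.single j 1) = 1 := by
    have h2 : B.det • (Pi.single j 1 : Fin 6 → ℤ) = B.mulVec (B.adjugate.mulVec (Pi.single j 1)) := by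
      rw [Matrix.mulVec_mulVec, Matrix.mul_adjugate, Matrix.smul_mulVec, Matrix.one_mulVec]
    rw [h2]
    exact himg _
  rw [chiV_zsmul, chiV_single, zpow_one] at h1
  have h3' : (orderOf (x j) : ℤ) ∣ B.det := orderOf_dvd_iff_zpow_eq_one.2 h1
  have h4 : orderOf (x j) ∣ B.det.natAbs := Int.natCast_dvd.1 h3'
  have h5 : orderOf (x j) ∣ r := orderOf_dvd_of_pow_eq_one (hx j)
  have hpos : 0 < B.det.natAbs := Int.natAbs_pos.2 hdet
  rcases (Nat.dvd_prime hrp).1 h5 with h6 | h6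
  · exact orderOf_eq_one_iff.1 h6
  · exfalso
    rw [h6] at h4
    have := Nat.le_of_dvd hpos h4
    omega

end Cfsg.Agent.E6T
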