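import Mathlib
import Cfsg.Agent.Lib.E6T.Lat
import Cfsg.Agent.Lib.E6T.KRYDET
import Cfsg.Agent.Lib.E6T.NOL2
import Cfsg.Agent.Lib.E6T.REGG
import Cfsg.Agent.Lib.E6T.REGL1
import Cfsg.Agent.Lib.E6T.PD6

/-!
# S2373 (E6 torus), lattice piece COREW1B  [E]  -- STUB (helper13's farm, row S2373)

assembly.
May use (already imported): KRYDET, NOL2, REGG, REGL1, PD6; other E6T pieces only if they do not (transitively) import this one.  Keep names/statements/namespace; aux names
prefixed `corew1b_`.  Plan: `plans/S2373_plan.md`, full skeleton `plans/E6T_SkelL.lean.txt`.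
-/

set_option autoImplicit false
open Polynomial

namespace Cfsg.Agent.E6T

/-- **COREW1b**: the character of an element of order `r` is regular (krylov_det_ne_zero, no_l2, reg_generic, reg_l1) -/
theorem corew1b {K : Type*} [Field K] (q r : ℕ) (hq : 2 ≤ q) (hr : GoodPrime12 q r) (x : Fin 6 → Kˣ)
    (hx : ∀ i, x i ^ r = 1) (hne : x ≠ 1) (M : Matrix (Fin 6) (Fin 6) ℤ) (hM : IsGood M) (h : Cond q M x) :
    ∀ v < 72, chiV x (rc v) ≠ 1 := by
  intro v hv
  have hy : ip (rc v) (rc v) = 2 := ip_rc v hv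
  by_cases h12 : (Phi12M M).mulVec (rc v) = 0
  · exact reg_l1 q r hq hr x hx hne M hM h (rc v) hy h12
  · have h3 : (Phi3M M).mulVec (rc v) ≠ 0 := no_l2 M hM (rc v) hy
    have hD : (krylov M (rc v)).det ≠ 0 := krylov_det_ne_zero M hM (rc v) h12 h3
    exact reg_generic q r hq hr x hx hne M hM h (rc v) hy hD

end Cfsg.Agent.E6T
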