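import Mathlib
import Cfsg.Agent.Lib.E6T.Lat
import Cfsg.Agent.Lib.E6T.NORM
import Cfsg.Agent.Lib.E6T.TAB
import Cfsg.Agent.Lib.E6T.PD6
import Cfsg.Agent.Lib.E6T.FINORD

/-!
# S2373 (E6 torus), lattice piece Q3  [M]  (helper26; helper13's farm, row S2373)

clone of Lib/Helper1/E8TQ3.lean.
May use (already imported): NORM, TAB, PD6, FINORD; other E6T pieces only if they do not (transitively) import this one.  Keep names/statements/namespace; aux names
prefixed `q3_`.  Plan: `plans/S2373_plan.md`, full skeleton `plans/E6T_SkelL.lean.txt`.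
-/

set_option autoImplicit false
open Polynomial

namespace Cfsg.Agent.E6T

theorem corew2_core3 (q : ℕ) (hq : 3 ≤ q) (M : Matrix (Fin 6) (Fin 6) ℤ) (hM : IsGood M)
    (M' : Matrix (Fin 6) (Fin 6) ℤ) (hM' : IsW M')
    (hdiff : ∀ y : Fin 6 → ℤ, ∃ z : Fin 6 → ℤ, M'.mulVec y - y = (qM q M).mulVec z) : M' = 1 := by
  apply isw_eq_one
  intro v hv
  obtain ⟨z, hz⟩ := hdiff (rc v)
  by_contra hne
  have hz0 : z ≠ 0 := by
    rintro rfl
    rw [Matrix.mulVec_zero] at hz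
    exact hne (sub_eq_zero.1 hz)
  have h1 := norm_lower q M hM z hz0
  rw [← hz] at h1
  have e1 : ip (M'.mulVec (rc v) - rc v) (M'.mulVec (rc v) - rc v) =
      ip (M'.mulVec (rc v)) (M'.mulVec (rc v)) - 2 * ip (M'.mulVec (rc v)) (rc v) + ip (rc v) (rc v) := by
    rw [ip_sub_left, ip_sub_right, ip_sub_right, ip_comm (rc v) (M'.mulVec (rc v))]
    ring
  have e2 : ip (M'.mulVec (rc v)) (M'.mulVec (rc v)) = 2 := by rw [isw_ip hM', ip_rc v hv]
  have e3 : 0 ≤ ip (M'.mulVec (rc v) + rc v) (M'.mulVec (rc v) + rc v) := ip_self_nonneg _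
  have e4 : ip (M'.mulVec (rc v) + rc v) (M'.mulVec (rc v) + rc v) =
      ip (M'.mulVec (rc v)) (M'.mulVec (rc v)) + 2 * ip (M'.mulVec (rc v)) (rc v) + ip (rc v) (rc v) := by
    rw [ip_add_left, ip_add_right, ip_add_right, ip_comm (rc v) (M'.mulVec (rc v))]
    ring
  rw [e1, e2, ip_rc v hv] at h1
  rw [e4, e2, ip_rc v hv] at e3
  have hq' : (3 : ℤ) ≤ (q : ℤ) := by exact_mod_cast hq
  have h4 : (4 : ℤ) ≤ ((q : ℤ) - 1) ^ 2 := by nlinarith
  linarith

end Cfsg.Agent.E6T
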