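import Mathlib
import Cfsg.Agent.Lib.E6T.Lat
import Cfsg.Agent.Lib.E6T.CARD
import Cfsg.Agent.Lib.E6T.Q3
import Cfsg.Agent.Lib.E6T.Q2
import Cfsg.Agent.Lib.E6T.FINORD

/-!
# S2373 (E6 torus), lattice piece CW2  [E]  (helper13's farm, row S2373; done by helper15)

clone of Lib/Helper20/E8TCW2.lean.
May use (already imported): CARD, Q3, Q2, FINORD; other E6T pieces only if they do not (transitively) import this one.  Keep names/statements/namespace; aux names
prefixed `cw2_`.  Plan: `plans/S2373_plan.md`, full skeleton `plans/E6T_SkelL.lean.txt`.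
-/

set_option autoImplicit false
open Polynomial

namespace Cfsg.Agent.E6T

theorem corew2 {K : Type*} [Field K] (q : ℕ) (hq : 2 ≤ q) (ζ : Kˣ) (hζ : orderOf ζ = mq q)
    (M : Matrix (Fin 6) (Fin 6) ℤ) (hM : IsGood M) (M' : Matrix (Fin 6) (Fin 6) ℤ) (hM' : IsW M')
    (h : ∀ x : Fin 6 → Kˣ, Cond q M x → ∀ v < 72, chiV x (M'.mulVec (rc v)) = chiV x (rc v)) : M' = 1 := by
  have hdiff : ∀ y : Fin 6 → ℤ, ∃ z : Fin 6 → ℤ, M'.mulVec y - y = (qM q M).mulVec z := by
    intro y
    apply dual q ζ hζ M hM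
    intro x hx
    have h1 : Cond 1 M' x := by
      intro v hv
      rw [h x hx v hv, pow_one]
    rw [chiV_sub, cond_all h1 y, pow_one, div_self']
  rcases Nat.lt_or_ge q 3 with h3 | h3
  · have h2 : q = 2 := by omega
    subst h2
    exact corew2_core2 M hM M' hM' hdiff
  · exact corew2_core3 q h3 M hM M' hM' hdiff

end Cfsg.Agent.E6T
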