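import Mathlib
import Cfsg.Agent.Lib.E6T.Lat
import Cfsg.Agent.Lib.E6T.GOODB
import Cfsg.Agent.Lib.E6T.POLY
import Cfsg.Agent.Lib.E6T.FINORD

/-!
# S2373 (E6 torus), lattice piece EXT  [H]  (helper13's farm, row S2373; done by helper15)

NEW: see section docstring.
May use (already imported): GOODB, POLY, FINORD; other E6T pieces only if they do not (transitively) import this one.  Keep names/statements/namespace; aux names
prefixed `ext_`.  Plan: `plans/S2373_plan.md`, full skeleton `plans/E6T_SkelL.lean.txt`.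
-/

set_option autoImplicit false
open Polynomial

namespace Cfsg.Agent.E6T

/-- in a cyclic group of order `m k`, an element killed by `m` is a `k`-th power -/
theorem ext_cyc {G : Type*} [Group G] [Fintype G] [IsCyclic G] (m k : ℕ) (hm : 0 < m)
    (h : Fintype.card G = m * k) (y : G) (hy : y ^ m = 1) : ∃ d : G, d ^ k = y := by
  obtain ⟨g, hg⟩ := IsCyclic.exists_monoid_generator (α := G)
  obtain ⟨i, rfl⟩ := (Submonoid.mem_powers_iff _ _).1 (hg y)
  have ho : orderOf g = Fintype.card G := by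
    rw [← Nat.card_eq_fintype_card]
    exact orderOf_eq_card_of_forall_mem_zpowers fun z => Submonoid.powers_le_zpowers g (hg z)
  rw [← pow_mul, ← orderOf_dvd_iff_pow_eq_one, ho, h, mul_comm m k] at hy
  obtain ⟨j, rfl⟩ := Nat.dvd_of_mul_dvd_mul_right hm hy
  exact ⟨g ^ j, by rw [← pow_mul, mul_comm]⟩

/-- the vector `β = α₁ + 2 α₃ + α₅ + 2 α₆` -/
def ext_beta : Fin 6 → ℤ := ![1, 0, 2, 0, 1, 2]

theorem ext_chi_beta {K : Type*} [Field K] (x : Fin 6 → Kˣ) :
    chiV x ext_beta = x 0 * x 2 ^ 2 * x 4 * x 5 ^ 2 := by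
  simp [chiV, Fin.prod_univ_six, ext_beta]

/-- `(M - 1) β` is divisible by `3` -/
theorem ext_eta (M : Matrix (Fin 6) (Fin 6) ℤ) (hM : IsW M) :
    ∃ η : Fin 6 → ℤ, M.mulVec ext_beta - ext_beta = (3 : ℤ) • η := by
  have h3 := hM.2.2
  have hcol : (fun k => A6 k 0) = ext_beta + (3 : ℤ) • (![1, 1, 1, 2, 1, 0] : Fin 6 → ℤ) := by
    funext k
    fin_cases k <;> simp [A6, ext_beta]
  have key : ∀ i, (3 : ℤ) ∣ ((M - 1).mulVec ext_beta) i := by
    intro i
    have h1 : ((M - 1) * A6) i 0 = ((M - 1).mulVec (fun k => A6 k 0)) i := by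
      simp [Matrix.mul_apply, Matrix.mulVec, dotProduct]
    have h2 := h3 i 0
    rw [h1, hcol, Matrix.mulVec_add, Matrix.mulVec_smul] at h2
    simp only [Pi.add_apply, Pi.smul_apply, smul_eq_mul] at h2
    exact (dvd_add_left (Dvd.intro _ rfl)).1 h2
  refine ⟨fun i => ((M - 1).mulVec ext_beta) i / 3, ?_⟩
  funext i
  have hi := key i
  simp only [Matrix.sub_mulVec, Matrix.one_mulVec, Pi.sub_apply, Pi.smul_apply, smul_eq_mul] at hi ⊢
  omega

/-- `1 + q + … + q¹¹` is divisible by `3` unless `3 ∣ q` -/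
theorem ext_three_dvd (q : ℕ) (h : ¬ 3 ∣ q) : 3 ∣ ∑ j ∈ Finset.range 12, q ^ j := by
  rw [← ZMod.natCast_eq_zero_iff]
  have hq : (q : ZMod 3) ≠ 0 := by
    rwa [Ne, ZMod.natCast_eq_zero_iff]
  push_cast
  generalize (q : ZMod 3) = z at hq
  revert z
  decide

theorem ext_cube {K : Type*} [Field K] [Fintype K] (q : ℕ) (hq : 2 ≤ q) (hK : Fintype.card K = q ^ 12)
    (M : Matrix (Fin 6) (Fin 6) ℤ) (hM : IsGood M) (x : Fin 6 → Kˣ) (h : Cond q M x) :
    ∃ s : Kˣ, s ^ 3 = x 0 * x 2 ^ 2 * x 4 * x 5 ^ 2 := by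
  classical
  rw [← ext_chi_beta]
  have hcard : Fintype.card Kˣ = q ^ 12 - 1 := by rw [Fintype.card_units, hK]
  by_cases h3 : 3 ∣ q
  · -- everything is a cube
    have hcop : (Nat.card Kˣ).Coprime 3 := by
      rw [Nat.card_eq_fintype_card, hcard]
      obtain ⟨m, hm⟩ : 3 ∣ q ^ 12 := dvd_pow h3 (by norm_num)
      have hpos : 0 < q ^ 12 := pow_pos (by omega) 12
      rw [Nat.coprime_comm, Nat.Prime.coprime_iff_not_dvd Nat.prime_three]
      omega
    obtain ⟨s, hs⟩ := (powCoprime hcop).surjective (chiV x ext_beta)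
    exact ⟨s, by rw [← hs, powCoprime_apply]⟩
  · obtain ⟨η, hη⟩ := ext_eta M hM.1
    set a := chiV x ext_beta with ha
    set c := chiV x η with hc
    set sq := ∑ j ∈ Finset.range 12, q ^ j with hsq
    have hqs : sq * (q - 1) = q ^ 12 - 1 := by
      obtain ⟨p, rfl⟩ : ∃ p, q = p + 1 := ⟨q - 1, by omega⟩
      have := geom_sum_mul ((p : ℤ) + 1) 12
      rw [hsq, Nat.add_sub_cancel]
      zify
      rw [Nat.cast_sub (Nat.one_le_pow _ _ (by omega))]
      push_cast
      linarith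
    -- `a ^ q = a * c ^ 3`
    have h1 : a ^ q = a * c ^ 3 := by
      have := congrArg (chiV x) hη
      rw [chiV_sub, cond_all h, chiV_zsmul, div_eq_iff_eq_mul] at this
      rw [this, mul_comm]
      norm_cast
    -- `c ^ sq = 1`
    have h2 : c ^ sq = 1 := by
      have hS : (∑ j ∈ Finset.range 12, M ^ j).mulVec η = 0 := by
        have h0 : (∑ j ∈ Finset.range 12, M ^ j).mulVec ((3 : ℤ) • η) = 0 := by
          have hη' : (3 : ℤ) • η = (M - 1).mulVec ext_beta := by
            rw [← hη, Matrix.sub_mulVec, Matrix.one_mulVec]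
          rw [hη', Matrix.mulVec_mulVec, geom_sum_mul, good_pow12 hM, sub_self, Matrix.zero_mulVec]
        rw [Matrix.mulVec_smul] at h0
        funext i
        have hi := congrFun h0 i
        simp only [Pi.smul_apply, smul_eq_mul, Pi.zero_apply] at hi ⊢
        omega
      have h4 := congrArg (chiV x) hS
      rw [chiV_zero, Matrix.sum_mulVec, chiV_sum] at h4
      rw [hsq, ← Finset.prod_pow_eq_pow_sum, ← h4]
      exact Finset.prod_congr rfl fun j _ => (cond_iter h j η).symm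
    -- `c = d ^ (q - 1)`
    obtain ⟨d, hd⟩ := ext_cyc sq (q - 1) (by rw [hsq]; positivity) (by rw [hcard, hqs]) c h2
    -- `(a / d ^ 3) ^ (q - 1) = 1`
    have h5 : (a / d ^ 3) ^ (q - 1) = 1 := by
      have h6 : a ^ (q - 1) = c ^ 3 := by
        have h7 : a ^ q = a ^ (q - 1) * a := by
          rw [← pow_succ]
          congr 1
          omega
        rw [h7, mul_comm] at h1
        exact mul_left_cancel h1
      rw [div_pow, h6, ← hd, ← pow_mul, ← pow_mul, mul_comm, div_self']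
    obtain ⟨u, hu⟩ := ext_cyc (q - 1) sq (by omega) (by rw [hcard, ← hqs, mul_comm]) _ h5
    obtain ⟨t, ht⟩ := ext_three_dvd q h3
    refine ⟨d * u ^ t, ?_⟩
    rw [mul_pow, ← pow_mul, mul_comm t 3, ← ht, ← hsq, hu, mul_div_cancel]

end Cfsg.Agent.E6T
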