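import Mathlib
import Cfsg.Agent.Lib.E6T.Lat
import Cfsg.Agent.Lib.E6T.GOODB
import Cfsg.Agent.Lib.E6T.PD6
import Cfsg.Agent.Lib.E6T.NOL2

/-!
# S2373 (E6 torus), lattice piece KER3  [M]  -- STUB (helper13's farm, row S2373)

The kernel of `1 - M` modulo `3` is `3 P / 3 Q`.  By the third clause of `IsW`, `(M - 1) * A6 = 3 X` with `X` integral;
`det (1 - M) = 3` (det_one_sub) and `det A6 = 3⁵` (NOL2: nol2_det_a6) give `det X = 1`; so `(M - 1) * (A6 * X⁻¹) = 3`
(`X⁻¹ = adjugate X`), and `(M - 1) (z - A6 X⁻¹ u) = -3u + 3u = 0`, hence `z = A6 (X⁻¹ u)` (`1 - M` is injective: nol2_cancel).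
This is the computation of helper16's `no_l2`.
-/

set_option autoImplicit false

namespace Cfsg.Agent.E6T

theorem ker3 (M : Matrix (Fin 6) (Fin 6) ℤ) (hM : IsGood M) (z u : Fin 6 → ℤ)
    (h : z - M.mulVec z = (3 : ℤ) • u) : ∃ k : Fin 6 → ℤ, z = A6.mulVec k := by
  obtain ⟨⟨hiso, -, hdiv⟩, -⟩ := id hM
  have hd : (1 - M).det = 3 := det_one_sub M hM
  have hz3 : (1 - M).mulVec z = (3 : ℤ) • u := by
    rw [Matrix.sub_mulVec, Matrix.one_mulVec]
    exact h
  let X : Matrix (Fin 6) (Fin 6) ℤ := Matrix.of fun i j => ((M - 1) * A6) i j / 3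
  have hX : (M - 1) * A6 = (3 : ℤ) • X := by
    ext i j
    simp only [X, Matrix.smul_apply, Matrix.of_apply, smul_eq_mul]
    exact (Int.mul_ediv_cancel' (hdiv i j)).symm
  have hdetX : X.det = 1 := by
    have h1 := congrArg Matrix.det hX
    rw [Matrix.det_mul, Matrix.det_smul, nol2_det_a6] at h1
    have h2 : (M - 1).det = 3 := by
      have : M - 1 = -(1 - M) := by abel
      rw [this, Matrix.det_neg, hd]
      norm_num
    rw [h2] at h1
    simp only [Fintype.card_fin] at h1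
    omega
  refine ⟨-(X.adjugate.mulVec u), ?_⟩
  have hXk : X.mulVec (-(X.adjugate.mulVec u)) = -u := by
    rw [Matrix.mulVec_neg, Matrix.mulVec_mulVec, Matrix.mul_adjugate, hdetX, one_smul, Matrix.one_mulVec]
  symm
  apply nol2_cancel hd
  rw [hz3, Matrix.mulVec_mulVec]
  have h4 : (1 - M) * A6 = -((3 : ℤ) • X) := by
    rw [← hX]
    have : (1 : Matrix (Fin 6) (Fin 6) ℤ) - M = -(M - 1) := by abel
    rw [this, Matrix.neg_mul]
  rw [h4, Matrix.neg_mulVec, Matrix.smul_mulVec, hXk, smul_neg, neg_neg]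

end Cfsg.Agent.E6T
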