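import Mathlib
import Cfsg.Agent.Lib.E6T.Lat
import Cfsg.Agent.Lib.E6T.GOODB
import Cfsg.Agent.Lib.E6T.FINORD
import Cfsg.Agent.Lib.E6T.PD6

/-!
# S2373 (E6 torus), lattice piece NORMG  [E]  -- STUB (helper13's farm, row S2373)

`|(q - M) z|² = (q² + 1)|z|² - 2 q (z, M z)` (isw_ip) and `(z, M z) ≤ |z|²` (from `0 ≤ |z - M z|²`, ip_self_nonneg).
-/

set_option autoImplicit false

namespace Cfsg.Agent.E6T

theorem norm_lower_gen (q : ℕ) (M : Matrix (Fin 6) (Fin 6) ℤ) (hM : IsW M) (z : Fin 6 → ℤ) :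
    ((q : ℤ) - 1) ^ 2 * ip z z ≤ ip ((qM q M).mulVec z) ((qM q M).mulVec z) := by
  rw [qM_mulVec]
  have h1 : ip (M.mulVec z) (M.mulVec z) = ip z z := isw_ip hM z z
  have h2 : 0 ≤ ip (z - M.mulVec z) (z - M.mulVec z) := ip_self_nonneg _
  simp only [ip_sub_left, ip_sub_right] at h2
  rw [h1, ip_comm (M.mulVec z) z] at h2
  simp only [ip_sub_left, ip_sub_right, ip_smul_left, ip_smul_right]
  rw [h1, ip_comm (M.mulVec z) z]
  have hq : (0 : ℤ) ≤ (q : ℤ) := Int.natCast_nonneg q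
  have hb : ip z (M.mulVec z) ≤ ip z z := by linarith
  nlinarith [mul_le_mul_of_nonneg_left hb hq]

end Cfsg.Agent.E6T
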