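import Mathlib
import Cfsg.Agent.Lib.E6T.Lat
import Cfsg.Agent.Lib.E6T.CARD
import Cfsg.Agent.Lib.E6T.CW2
import Cfsg.Agent.Lib.E6T.FINORD
import Cfsg.Agent.Lib.E6T.PD6
import Cfsg.Agent.Lib.E6T.ARITH12
import Cfsg.Agent.Lib.E6T.NORMG
import Cfsg.Agent.Lib.E6T.KER3
import Cfsg.Agent.Lib.E6T.A6LOW

/-!
# S2373 (E6 torus), lattice piece CW2C  [H]  (helper13's farm, row S2373; proved by helper2)

**COREW2 for cubes**: an element `M'` of `W` that fixes the CUBES of all the characters of the twisted torus is `1`.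
(Needed because the subgroup `H` of `E₆(q)` only maps onto the cubes of the twisted torus when `3 ∣ q - 1`.)

* Case `¬ 3 ∣ q - 1`: then `¬ 3 ∣ mq q` (mq_three); every `x` with `Cond q M x` is a cube `x = (x ^ k) ^ 3` with
  `3 k ≡ 1 (mod mq q)` (`x ^ mq q = 1` as `Nat.card (condSubgroup K q M) = mq q`, corew3; `x ^ k ∈ condSubgroup`), so the
  hypothesis gives `chiV x (M' v) = chiV x v` and `corew2` applies.
* Case `3 ∣ q - 1` (so `4 ≤ q`): for a root `v` put `y := M' v - v`; `chiV x (3 • y) = 1` for all `x` with `Cond`, so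
  `3 • y = (qM q M) z` (dual).  Then `z - M z = 3 (y - ((q - 1) / 3) z)`, so `z = A6 k` (ker3).  If `k ≠ 0` then
  `9 |y|² = |(q - M) z|² ≥ (q - 1)² |z|² ≥ 9 · 12` (norm_lower_gen, a6_norm_lower) but
  `|y|² = 4 - 2 (M' v, v) ≤ 8` (isw_ip, ip_rc, ip_le_two).  So `z = 0`, `y = 0`, `M' v = v` for all roots: isw_eq_one.
-/

set_option autoImplicit false

namespace Cfsg.Agent.E6T

/-- first case: every character of the twisted torus is a cube -/
theorem cw2c_case1 {K : Type*} [Field K] (q : ℕ) (hq : 2 ≤ q) (ζ : Kˣ) (hζ : orderOf ζ = mq q)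
    (M : Matrix (Fin 6) (Fin 6) ℤ) (hM : IsGood M) (M' : Matrix (Fin 6) (Fin 6) ℤ) (hM' : IsW M')
    (h : ∀ x : Fin 6 → Kˣ, Cond q M x → ∀ v < 72, chiV x (M'.mulVec (rc v)) ^ 3 = chiV x (rc v) ^ 3)
    (h3 : ¬ 3 ∣ q - 1) : M' = 1 := by
  have hm3 : ¬ 3 ∣ mq q := fun hd => h3 ((mq_three q hq).1.1 hd)
  have hcop : Nat.Coprime 3 (mq q) := (Nat.Prime.coprime_iff_not_dvd Nat.prime_three).2 hm3
  have hm1 : 1 < mq q := by
    have h0 := mq_pos q
    rcases Nat.lt_or_ge 1 (mq q) with h1 | h1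
    · exact h1
    · exfalso
      have h2 : mq q = 1 := by omega
      have h4 := mq_odd q
      have h5 : (mq q : ℤ) = (q : ℤ) ^ 6 + (q : ℤ) ^ 5 - (q : ℤ) ^ 3 + (q : ℤ) + 1 := mq_cast q
      rw [h2] at h5
      have hq' : (2 : ℤ) ≤ (q : ℤ) := by exact_mod_cast hq
      have h6 : (q : ℤ) ^ 3 ≤ (q : ℤ) ^ 6 := pow_le_pow_right₀ (by linarith) (by norm_num)
      have h7 : (0 : ℤ) < (q : ℤ) ^ 5 := by positivity
      push_cast at h5
      linarith
  obtain ⟨k, -, hk⟩ := Nat.exists_mul_mod_eq_one_of_coprime hcop hm1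
  obtain ⟨_, hcard⟩ := corew3 (K := K) q ζ hζ M hM
  apply corew2 q hq ζ hζ M hM M' hM'
  intro x hx v hv
  have hxm : x ^ mq q = 1 := by
    have h1 : (⟨x, hx⟩ : condSubgroup K q M) ^ Nat.card (condSubgroup K q M) = 1 := pow_card_eq_one'
    rw [hcard] at h1
    have h2 := congrArg Subtype.val h1
    simpa using h2
  have hx3 : (x ^ k) ^ 3 = x := by
    rw [← pow_mul, mul_comm k 3]
    have h1 : 3 * k = mq q * (3 * k / mq q) + 1 := by
      have := Nat.div_add_mod (3 * k) (mq q)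
      omega
    rw [h1, pow_succ, pow_mul, hxm, one_pow, one_mul]
  have hxk : Cond q M (x ^ k) := (condSubgroup K q M).pow_mem hx k
  have h1 := h (x ^ k) hxk v hv
  rw [← chiV_pow_left, ← chiV_pow_left, hx3] at h1
  exact h1

/-- second case -/
theorem cw2c_case2 {K : Type*} [Field K] (q : ℕ) (hq : 2 ≤ q) (ζ : Kˣ) (hζ : orderOf ζ = mq q)
    (M : Matrix (Fin 6) (Fin 6) ℤ) (hM : IsGood M) (M' : Matrix (Fin 6) (Fin 6) ℤ) (hM' : IsW M')
    (h : ∀ x : Fin 6 → Kˣ, Cond q M x → ∀ v < 72, chiV x (M'.mulVec (rc v)) ^ 3 = chiV x (rc v) ^ 3)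
    (h3 : 3 ∣ q - 1) : M' = 1 := by
  obtain ⟨c, hc⟩ := h3
  have hc1 : 1 ≤ c := by omega
  have hqc : (q : ℤ) - 1 = 3 * (c : ℤ) := by omega
  apply isw_eq_one
  intro v hv
  obtain ⟨y, hy⟩ : ∃ y : Fin 6 → ℤ, y = M'.mulVec (rc v) - rc v := ⟨_, rfl⟩
  have hdual : ∃ z : Fin 6 → ℤ, (3 : ℤ) • y = (qM q M).mulVec z := by
    apply dual q ζ hζ M hM
    intro x hx
    rw [chiV_zsmul, hy, chiV_sub]
    have h1 := h x hx v hv
    rw [div_zpow]
    have h2 : chiV x (M'.mulVec (rc v)) ^ (3 : ℤ) = chiV x (rc v) ^ (3 : ℤ) := by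
      exact_mod_cast h1
    rw [h2]
    exact div_self' _
  obtain ⟨z, hz⟩ := hdual
  rw [qM_mulVec] at hz
  have hker : z - M.mulVec z = (3 : ℤ) • (y - (c : ℤ) • z) := by
    have e1 : z - M.mulVec z = ((q : ℤ) • z - M.mulVec z) - ((q : ℤ) - 1) • z := by
      rw [sub_smul, one_smul]
      abel
    rw [e1, ← hz, hqc, smul_sub, mul_smul]
  obtain ⟨k, hk⟩ := ker3 M hM z _ hker
  have hnorm := norm_lower_gen q M hM.1 z
  rw [qM_mulVec, ← hz, ip_smul_left, ip_smul_right] at hnorm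
  -- the norm of `y`
  have hyy : ip y y ≤ 8 := by
    have h1 : ip (M'.mulVec (rc v)) (M'.mulVec (rc v)) = 2 := by rw [isw_ip hM', ip_rc v hv]
    have h2 := ip_rc v hv
    have h3 := (ip_le_two _ _ h1 h2).2
    rw [hy, ip_sub_left, ip_sub_right, ip_sub_right, h1, h2, ip_comm (rc v) (M'.mulVec (rc v))]
    linarith
  have hk0 : k = 0 := by
    by_contra hk0
    have h1 := a6_norm_lower k hk0
    rw [← hk] at h1
    have h2 : (3 : ℤ) ≤ (q : ℤ) - 1 := by omega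
    have h4 : (9 : ℤ) ≤ ((q : ℤ) - 1) ^ 2 := by nlinarith
    nlinarith
  have hz0 : z = 0 := by rw [hk, hk0, Matrix.mulVec_zero]
  rw [hz0, smul_zero, Matrix.mulVec_zero, sub_zero] at hz
  have hy0 : y = 0 := by
    funext i
    have := congrFun hz i
    simp only [Pi.smul_apply, Pi.zero_apply, smul_eq_mul] at this
    simp only [Pi.zero_apply]
    omega
  rw [hy] at hy0
  exact sub_eq_zero.1 hy0

theorem corew2_cube {K : Type*} [Field K] (q : ℕ) (hq : 2 ≤ q) (ζ : Kˣ) (hζ : orderOf ζ = mq q)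
    (M : Matrix (Fin 6) (Fin 6) ℤ) (hM : IsGood M) (M' : Matrix (Fin 6) (Fin 6) ℤ) (hM' : IsW M')
    (h : ∀ x : Fin 6 → Kˣ, Cond q M x → ∀ v < 72, chiV x (M'.mulVec (rc v)) ^ 3 = chiV x (rc v) ^ 3) :
    M' = 1 := by
  by_cases h3 : 3 ∣ q - 1
  · exact cw2c_case2 q hq ζ hζ M hM M' hM' h h3
  · exact cw2c_case1 q hq ζ hζ M hM M' hM' h h3

end Cfsg.Agent.E6T
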