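import Mathlib
import Cfsg.Agent.Lib.E6T.Asm
import Cfsg.Agent.Lib.E6T.CW2C

/-!
# S2373: assembly, part 1b - Theorem B for the cubes of the twisted torus (helper13)

When `3 ∣ q - 1` the subgroup `H` of `E₆(q)` only maps onto the cubes of the twisted torus; an element of `E₆(K)` that
commutes with all these cubes (among them a regular element of order prime to `3`) still lies in `T(K)` (`corew2_cube`).
-/

set_option autoImplicit false
set_option linter.unusedSectionVars false
set_option linter.unusedSimpArgs false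
set_option linter.unusedVariables false

namespace Cfsg.Agent.E6T

open Cfsg Cfsg.Lie Cfsg.Agent.Lead.Chev Cfsg.Agent.Lead.Tw

section K

variable {K : Type*} [Field K]

/-- an element of order dividing `r`, `r` prime to `3`, is a cube of one of its powers -/
theorem asmb_cube_root {G : Type*} [Group G] (h : G) (r : ℕ) (hr : 1 < r) (hr3 : Nat.Coprime 3 r) (hr1 : h ^ r = 1) :
    ∃ m : ℕ, (h ^ m) ^ 3 = h := by
  obtain ⟨m, -, hm⟩ := Nat.exists_mul_mod_eq_one_of_coprime hr3 hr
  refine ⟨m, ?_⟩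
  rw [← pow_mul, mul_comm]
  have h1 : 3 * m = r * (3 * m / r) + 1 := by
    have := Nat.div_add_mod (3 * m) r
    rw [hm] at this
    exact this.symm
  rw [h1, pow_succ, pow_mul, hr1, one_pow, one_mul]

/-- **Theorem B for cubes**: an element of `E₆(K)` that commutes with the cubes of the twisted torus lies in `T(K)` -/
theorem thmB_cube [Fintype K] (q : ℕ) (hq : 2 ≤ q) (hK : Fintype.card K = q ^ 12) (ζ : Kˣ) (hζ : orderOf ζ = mq q)
    (f : K ≃+* K) (hf : ∀ t, f t = t ^ q) (w : List ℕ) (hw : ∀ i ∈ w, i < 6)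
    (hgood : ∃ M, IsGood M ∧ ActsM w M) (h : GL chevE6.Idx K) (hh : h ∈ twTorus f w)
    (hreg : ∀ v < 72, ev h v ≠ 1) (r : ℕ) (hr : 1 < r) (hr3 : Nat.Coprime 3 r) (hr1 : h ^ r = 1)
    (y : GL chevE6.Idx K) (hy : y ∈ chevE6.group K) (e : ∀ a ∈ twTorus f w, y * a ^ 3 = a ^ 3 * y) :
    y ∈ chevE6.diagonalSubgroup K := by
  obtain ⟨M, hMg, hM⟩ := hgood
  have hhT := hh.1
  obtain ⟨m, hm⟩ := asmb_cube_root h r hr hr3 hr1
  have eh : y * h = h * y := by
    have := e (h ^ m) (pow_mem hh m)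
    rwa [hm] at this
  obtain ⟨u, hu, t, ht, w', hw', u', hu', ey, e1, e2, e3⟩ := torus_conj y h h hy hhT hhT eh
  obtain ⟨M', hMW', hM'⟩ := acts_cases w' hw'
  have hu1 : u = 1 := ureg h hhT hreg u hu e2
  have hu'1 : u' = 1 := ureg h hhT hreg u' hu' e3
  have ey' : y = t * nWordGL chevE6 (e6F K).xadd w' := by
    rw [ey, hu1, hu'1, one_mul, mul_one]
  -- `n_{w'}` centralizes the cubes of the twisted torus
  have hcent : ∀ a ∈ twTorus f w, nWordGL chevE6 (e6F K).xadd w' * a ^ 3 *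
      (nWordGL chevE6 (e6F K).xadd w')⁻¹ = a ^ 3 := by
    intro a ha
    have h1 := e a ha
    rw [ey'] at h1
    have ha3 : a ^ 3 ∈ chevE6.diagonalSubgroup K := pow_mem ha.1 3
    have hc : t * a ^ 3 = a ^ 3 * t := (e6F K).diagonal_commute t (a ^ 3) ht ha3
    set n := nWordGL chevE6 (e6F K).xadd w' with hn
    have h2 : n * a ^ 3 = a ^ 3 * n := by
      have h3 : t * (n * a ^ 3) = t * (a ^ 3 * n) := by
        calc t * (n * a ^ 3) = t * n * a ^ 3 := (mul_assoc _ _ _).symm
          _ = a ^ 3 * (t * n) := h1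
          _ = a ^ 3 * t * n := (mul_assoc _ _ _).symm
          _ = t * a ^ 3 * n := by rw [hc]
          _ = t * (a ^ 3 * n) := mul_assoc _ _ _
      exact mul_left_cancel h3
    rw [h2, mul_assoc, mul_inv_cancel, mul_one]
  -- hence `M'` fixes the cubes of all the characters of `A_M`
  have hfix : ∀ x : Fin 6 → Kˣ, Cond q M x → ∀ v < 72,
      chiV x (M'.mulVec (rc v)) ^ 3 = chiV x (rc v) ^ 3 := by
    intro x hx v hv
    obtain ⟨a, ha, hxe⟩ := asm_exists q hq hK M hMg x hx
    have ham : a ∈ twTorus f w := by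
      rw [asm_mem_twTorus_iff q f hf w hw M hMg.1 hM a ha, hxe]
      exact hx
    have ha3 : a ^ 3 ∈ chevE6.diagonalSubgroup K := pow_mem ha 3
    rw [← hxe, asm_chiV_acts a ha w' M' hM' v hv, asm_chiV a ha v hv]
    apply Units.ext
    rw [Units.val_pow_eq_pow_val, Units.val_pow_eq_pow_val]
    show ev a (reflWord chevE6 w' v) ^ 3 = ev a v ^ 3
    rw [← asm_ev_pow a ha, ← asm_ev_pow a ha]
    exact asm_nconj_ev (a ^ 3) (a ^ 3) ha3 w' hw' (hcent a ham) v hv
  have hM'1 : M' = 1 := corew2_cube (K := K) q hq ζ hζ M hMg M' hMW' hfix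
  rw [hM'1] at hM'
  obtain ⟨p1, p2⟩ := acts_id_pos w' hw' hM'
  have hnw := (e6F K).nWordGL_mem_diagonal_of_pos w' hw' p1 p2
  rw [ey']
  exact mul_mem ht hnw

end K

end Cfsg.Agent.E6T
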