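import Mathlib
import Cfsg.Agent.Lib.E6T.Lat
import Cfsg.Agent.Lib.Helper4.KerCard

/-!
# S2373 piece COUNT, core (helper12): the coroot parameters `c ∈ (Kˣ)⁶` with `w·(c^q) = c`

`lam0 K q N6 = {c | ∀ j, ∏ i, c i ^ N6 i j = c j ^ q}` where `N6` is the matrix of `w` on the weight lattice in the basis
of the fundamental weights (`N6 * C6 = C6 * M`, `M` the matrix of `w` on the root lattice).  It has `mq q` elements
(KERCARD), and when `3 ∣ q - 1` it contains the three parameters of the centre, which are killed by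
`tauHom : c ↦ (∏ i, c i ^ C6 i j)_j` (the values of the character of `T(c)` at the simple roots).  Hence the image of
`lam0` under `tauHom` has at most `mq q / 3` elements.
-/

set_option autoImplicit false

namespace Cfsg.Agent.E6T

section Count

variable {K : Type*} [Field K]

/-- the values at the simple roots of the character of the torus element with coroot parameters `c` -/
def tauHom (K : Type*) [Field K] : (Fin 6 → Kˣ) →* (Fin 6 → Kˣ) where
  toFun c := fun j => ∏ i, c i ^ (C6 i j)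
  map_one' := by
    funext j
    simp
  map_mul' a b := by
    funext j
    simp only [Pi.mul_apply, mul_zpow, Finset.prod_mul_distrib]

theorem tauHom_apply (c : Fin 6 → Kˣ) (j : Fin 6) : tauHom K c j = ∏ i, c i ^ (C6 i j) := rfl

/-- the parameters fixed by `c ↦ w·(c^q)` -/
def lam0 (K : Type*) [Field K] (q : ℕ) (N6 : Matrix (Fin 6) (Fin 6) ℤ) : Subgroup (Fin 6 → Kˣ) where
  carrier := {c | ∀ j, ∏ i, c i ^ (N6 i j) = c j ^ q}
  one_mem' := by
    intro j
    simp
  mul_mem' := by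
    intro a b ha hb j
    simp only [Pi.mul_apply, mul_zpow, Finset.prod_mul_distrib, mul_pow]
    rw [ha j, hb j]
  inv_mem' := by
    intro a ha j
    simp only [Pi.inv_apply, _root_.inv_zpow, Finset.prod_inv_distrib, inv_pow]
    rw [ha j]

theorem mem_lam0 (q : ℕ) (N6 : Matrix (Fin 6) (Fin 6) ℤ) (c : Fin 6 → Kˣ) :
    c ∈ lam0 K q N6 ↔ ∀ j, ∏ i, c i ^ (N6 i j) = c j ^ q := Iff.rfl

/-- the matrix of exponents of the equations of `lam0` -/
def countX (q : ℕ) (N6 : Matrix (Fin 6) (Fin 6) ℤ) : Matrix (Fin 6) (Fin 6) ℤ :=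
  N6 - (q : ℤ) • (1 : Matrix (Fin 6) (Fin 6) ℤ)

theorem count_mem_iff (q : ℕ) (N6 : Matrix (Fin 6) (Fin 6) ℤ) (c : Fin 6 → Kˣ) :
    c ∈ lam0 K q N6 ↔ ∀ j, ∏ i, c i ^ (countX q N6 i j) = 1 := by
  rw [mem_lam0]
  refine forall_congr' fun j => ?_
  have h1 : ∀ i, c i ^ (countX q N6 i j) = c i ^ (N6 i j) * (c i ^ ((q : ℤ) * (1 : Matrix (Fin 6) (Fin 6) ℤ) i j))⁻¹ := by
    intro i
    rw [← zpow_neg, ← zpow_add]
    congr 1
  simp only [h1, Finset.prod_mul_distrib, Finset.prod_inv_distrib]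
  have h2 : ∏ i, c i ^ ((q : ℤ) * (1 : Matrix (Fin 6) (Fin 6) ℤ) i j) = c j ^ q := by
    rw [Finset.prod_eq_single j]
    · rw [Matrix.one_apply_eq, mul_one, zpow_natCast]
    · intro b _ hb
      rw [Matrix.one_apply_ne hb, mul_zero, zpow_zero]
    · intro h
      exact absurd (Finset.mem_univ j) h
  rw [h2, mul_inv_eq_one]

theorem count_C6_mul_A6 : C6 * A6 = (3 : ℤ) • (1 : Matrix (Fin 6) (Fin 6) ℤ) := by
  decide

theorem count_C6_det_ne : C6.det ≠ 0 := by
  intro h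
  have h1 := congrArg Matrix.det count_C6_mul_A6
  rw [Matrix.det_mul, h, zero_mul, Matrix.det_smul, Matrix.det_one] at h1
  norm_num at h1

theorem count_Ppoly_eval (q : ℕ) : Ppoly.eval (q : ℤ) = (mq q : ℤ) := by
  have h1 : q ^ 2 ≤ q ^ 4 := by
    rcases Nat.eq_zero_or_pos q with rfl | hq
    · simp
    · exact Nat.pow_le_pow_right hq (by norm_num)
  unfold mq m12 m3 Ppoly
  simp only [Polynomial.eval_add, Polynomial.eval_sub, Polynomial.eval_pow, Polynomial.eval_X, Polynomial.eval_one]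
  push_cast [h1]
  ring

theorem count_det (q : ℕ) (M N6 : Matrix (Fin 6) (Fin 6) ℤ) (hM : IsGood M) (hN : N6 * C6 = C6 * M) :
    (countX q N6).det = (mq q : ℤ) := by
  have h1 : countX q N6 * C6 = C6 * (-(qM q M)) := by
    unfold countX qM
    rw [Matrix.sub_mul, hN, Matrix.smul_mul, Matrix.one_mul, neg_sub, Matrix.mul_sub, Matrix.mul_smul, Matrix.mul_one]
  have h2 := congrArg Matrix.det h1
  rw [Matrix.det_mul, Matrix.det_mul, Matrix.det_neg, mul_comm] at h2
  have h3 : (countX q N6).det = (-1) ^ Fintype.card (Fin 6) * (qM q M).det := mul_left_cancel₀ count_C6_det_ne h2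
  rw [h3]
  have h4 := Matrix.eval_charpoly M (q : ℤ)
  rw [hM.2, count_Ppoly_eval] at h4
  have h5 : (qM q M).det = (mq q : ℤ) := by
    have h6 : qM q M = Matrix.scalar (Fin 6) (q : ℤ) - M := by
      unfold qM
      rw [Matrix.smul_one_eq_diagonal, Matrix.scalar_apply]
    rw [h6]
    exact h4.symm
  rw [h5]
  norm_num

theorem count_mq_pos (q : ℕ) : 0 < mq q := by
  unfold mq m12 m3
  positivity

theorem count_mq_dvd (q : ℕ) (hq : 1 ≤ q) : mq q ∣ q ^ 12 - 1 := by
  have h1 : q ^ 2 ≤ q ^ 4 := Nat.pow_le_pow_right hq (by norm_num)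
  have hpos : 1 ≤ q ^ 12 := Nat.one_le_pow _ _ hq
  have h3 : 1 ≤ q ^ 3 := Nat.one_le_pow _ _ hq
  refine ⟨(q ^ 2 + 1) * (q - 1) * (q ^ 3 + 1), ?_⟩
  zify [hpos, h1, hq]
  unfold mq m12 m3
  push_cast [h1]
  ring

/-- the number of elements of `lam0` -/
theorem count_card_lam0 [Fintype K] (q : ℕ) (hq : 1 ≤ q) (hK : Fintype.card K = q ^ 12)
    (M N6 : Matrix (Fin 6) (Fin 6) ℤ) (hM : IsGood M) (hN : N6 * C6 = C6 * M) :
    Nat.card (lam0 K q N6) = mq q := by
  have hdet := count_det q M N6 hM hN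
  have hk := Cfsg.Agent.Helper4.KerCard.kercard K (countX q N6) (by
    rw [hdet]
    exact_mod_cast (count_mq_pos q).ne') (by
    rw [hdet, Int.natAbs_natCast, hK]
    exact count_mq_dvd q hq)
  rw [hdet, Int.natAbs_natCast] at hk
  rw [← hk]
  apply Nat.card_congr
  exact Equiv.subtypeEquivRight fun c => count_mem_iff q N6 c

/-! ### the centre -/

theorem count_zpow_sum {G : Type*} [CommGroup G] (b : G) {ι : Type*} (s : Finset ι) (f : ι → ℤ) :
    ∏ i ∈ s, b ^ f i = b ^ ∑ i ∈ s, f i := by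
  classical
  induction s using Finset.induction_on with
  | empty => simp
  | insert a s ha ih => rw [Finset.prod_insert ha, Finset.sum_insert ha, ih, zpow_add]

/-- the exponents of the parameters of the centre -/
def countA : Fin 6 → ℤ := ![1, 0, 2, 0, 1, 2]

/-- `countA * C6 = 3 * countB` -/
def countB : Fin 6 → ℤ := ![0, 0, 1, -1, 0, 1]

theorem count_A_C6 : Matrix.vecMul countA C6 = (3 : ℤ) • countB := by
  decide

/-- the parameter of the centre attached to a cube root of unity -/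
def countZ (ω : Kˣ) : Fin 6 → Kˣ := fun i => ω ^ countA i

theorem count_Z_prod (ω : Kˣ) (E : Matrix (Fin 6) (Fin 6) ℤ) (j : Fin 6) :
    ∏ i, countZ ω i ^ E i j = ω ^ Matrix.vecMul countA E j := by
  unfold countZ
  simp only [← zpow_mul]
  rw [count_zpow_sum ω Finset.univ]
  rfl

theorem count_zpow_three (ω : Kˣ) (hω : ω ^ 3 = 1) (k : ℤ) : ω ^ (3 * k) = 1 := by
  have h3 : ω ^ (3 : ℤ) = 1 := by
    have : ω ^ ((3 : ℕ) : ℤ) = 1 := by rw [zpow_natCast, hω]
    exact_mod_cast this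
  rw [zpow_mul, h3, one_zpow]

theorem count_tau_Z (ω : Kˣ) (hω : ω ^ 3 = 1) : tauHom K (countZ ω) = 1 := by
  funext j
  rw [tauHom_apply, count_Z_prod, count_A_C6, Pi.smul_apply, smul_eq_mul, count_zpow_three ω hω]
  rfl

/-- `N6 = C6 * Y + 1` for an integral `Y`: `w` acts trivially on `P/Q` -/
theorem count_N6_form (M N6 : Matrix (Fin 6) (Fin 6) ℤ) (hM : IsW M) (hN : N6 * C6 = C6 * M) :
    ∃ Y : Matrix (Fin 6) (Fin 6) ℤ, N6 = C6 * Y + 1 := by
  refine ⟨Matrix.of fun i j => ((M - 1) * A6) i j / 3, ?_⟩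
  have hY : (M - 1) * A6 = (3 : ℤ) • (Matrix.of fun i j => ((M - 1) * A6) i j / 3) := by
    ext i j
    rw [Matrix.smul_apply, Matrix.of_apply, smul_eq_mul, Int.mul_ediv_cancel' (hM.2.2 i j)]
  set Y : Matrix (Fin 6) (Fin 6) ℤ := Matrix.of fun i j => ((M - 1) * A6) i j / 3 with hYdef
  have h1 : (3 : ℤ) • N6 = (3 : ℤ) • (C6 * Y + 1) := by
    calc (3 : ℤ) • N6 = N6 * (C6 * A6) := by
          rw [count_C6_mul_A6, Matrix.mul_smul, Matrix.mul_one]
      _ = C6 * (M * A6) := by rw [← Matrix.mul_assoc, hN, Matrix.mul_assoc]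
      _ = C6 * ((M - 1) * A6 + A6) := by rw [Matrix.sub_mul, Matrix.one_mul, sub_add_cancel]
      _ = (3 : ℤ) • (C6 * Y + 1) := by
          rw [hY, Matrix.mul_add, Matrix.mul_smul, count_C6_mul_A6, smul_add]
  ext i j
  have h2 := congrFun (congrFun h1 i) j
  simp only [Matrix.smul_apply, smul_eq_mul] at h2
  exact mul_left_cancel₀ (by norm_num : (3 : ℤ) ≠ 0) h2

theorem count_vecMul_N6 (M N6 : Matrix (Fin 6) (Fin 6) ℤ) (hM : IsW M) (hN : N6 * C6 = C6 * M) (j : Fin 6) :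
    ∃ k : ℤ, Matrix.vecMul countA N6 j = countA j + 3 * k := by
  obtain ⟨Y, hY⟩ := count_N6_form M N6 hM hN
  refine ⟨Matrix.vecMul countB Y j, ?_⟩
  rw [hY, Matrix.vecMul_add, Matrix.vecMul_one, ← Matrix.vecMul_vecMul, count_A_C6, Matrix.smul_vecMul,
    Pi.add_apply, Pi.smul_apply, smul_eq_mul]
  ring

theorem count_pow_q (ω : Kˣ) (hω : ω ^ 3 = 1) (q : ℕ) (hq : 1 ≤ q) (h3 : 3 ∣ q - 1) : ω ^ q = ω := by
  obtain ⟨k, hk⟩ := h3
  have hq' : q = 3 * k + 1 := by omega
  rw [hq', pow_succ, pow_mul, hω, one_pow, one_mul]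

theorem count_Z_mem (ω : Kˣ) (hω : ω ^ 3 = 1) (q : ℕ) (hq : 1 ≤ q) (h3 : 3 ∣ q - 1)
    (M N6 : Matrix (Fin 6) (Fin 6) ℤ) (hM : IsW M) (hN : N6 * C6 = C6 * M) : countZ ω ∈ lam0 K q N6 := by
  intro j
  rw [count_Z_prod]
  obtain ⟨k, hk⟩ := count_vecMul_N6 M N6 hM hN j
  rw [hk, zpow_add, count_zpow_three ω hω, mul_one]
  unfold countZ
  rw [← zpow_natCast, ← zpow_mul, mul_comm, zpow_mul, zpow_natCast, count_pow_q ω hω q hq h3]

/-- **COUNT, core**: the image of `lam0` under `tauHom` has at most `mq q / 3` elements when `3 ∣ q - 1` -/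
theorem count_core [Fintype K] (q : ℕ) (hq : 1 ≤ q) (hK : Fintype.card K = q ^ 12) (h3 : 3 ∣ q - 1)
    (M N6 : Matrix (Fin 6) (Fin 6) ℤ) (hM : IsGood M) (hN : N6 * C6 = C6 * M) :
    3 * Nat.card ((lam0 K q N6).map (tauHom K)) ≤ mq q := by
  classical
  -- a cube root of unity
  have : Fact (Nat.Prime 3) := ⟨Nat.prime_three⟩
  have hcardU : Nat.card Kˣ = q ^ 12 - 1 := by
    rw [Nat.card_eq_fintype_card, Fintype.card_units, hK]
  have hdvd : 3 ∣ Nat.card Kˣ := by
    rw [hcardU]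
    have h1 : q - 1 ∣ q ^ 12 - 1 := by
      have := Nat.sub_dvd_pow_sub_pow q 1 12
      rwa [one_pow] at this
    exact h3.trans h1
  obtain ⟨ω, hω⟩ := exists_prime_orderOf_dvd_card' 3 hdvd
  have hω3 : ω ^ 3 = 1 := by rw [← hω, pow_orderOf_eq_one]
  have hω1 : ω ≠ 1 := by
    intro h
    rw [h, orderOf_one] at hω
    norm_num at hω
  -- the restriction of `tauHom`
  set φ : ↥(lam0 K q N6) →* (Fin 6 → Kˣ) := (tauHom K).domRestrict (lam0 K q N6) with hφ
  have hrange : φ.range = (lam0 K q N6).map (tauHom K) :=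
    MonoidHom.domRestrict_range (K := lam0 K q N6) (tauHom K)
  have hcard : Nat.card φ.ker * Nat.card φ.range = mq q := by
    rw [← Subgroup.index_ker, Subgroup.card_mul_index, count_card_lam0 q hq hK M N6 hM hN]
  -- the centre lies in the kernel
  let z : ↥(lam0 K q N6) := ⟨countZ ω, count_Z_mem ω hω3 q hq h3 M N6 hM.1 hN⟩
  have hzker : z ∈ φ.ker := by
    rw [MonoidHom.mem_ker]
    exact count_tau_Z ω hω3
  have hz3 : z ^ 3 = 1 := by
    apply Subtype.ext
    funext i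
    show (ω ^ countA i) ^ 3 = 1
    rw [← zpow_natCast, ← zpow_mul, mul_comm]
    exact count_zpow_three ω hω3 _
  have hz1 : z ≠ 1 := by
    intro h
    have h0 := congrFun (congrArg Subtype.val h) 0
    have h0' : ω ^ (1 : ℤ) = 1 := h0
    rw [zpow_one] at h0'
    exact hω1 h0'
  have hzord : orderOf (⟨z, hzker⟩ : ↥φ.ker) = 3 := by
    apply orderOf_eq_prime
    · apply Subtype.ext
      exact hz3
    · intro h
      exact hz1 (congrArg Subtype.val h)
  have h3ker : 3 ∣ Nat.card φ.ker := by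
    rw [← hzord]
    exact orderOf_dvd_natCard _
  have hpos : 0 < Nat.card φ.ker := Nat.card_pos
  have h3le : 3 ≤ Nat.card φ.ker := Nat.le_of_dvd hpos h3ker
  rw [← hrange, ← hcard]
  exact Nat.mul_le_mul_right _ h3le

end Count

end Cfsg.Agent.E6T
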