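import Mathlib
import Cfsg.Agent.Lib.E6T.CountCore
import Cfsg.Agent.Lib.E6T.Defs
import Cfsg.Agent.Lib.Helper20.E8TCHIC

/-!
# S2373 piece COUNT, bridge (helper12): from the `E₈` relation of the simply connected cover to `lam0`

A torus element `T₈(c)` of `E₈` with `c 6 = c 7 = 1` and `n_w σ(T₈(c)) n_w⁻¹ = T₈(c)` (`w` a word in the first six
fundamental reflections) has its coroot parameters in `lam0 K q (countb_nMat w)`, and `countb_nMat w * C6 = C6 * M` when
`w` acts on the roots of `E₆` as `M`.  Together with `count_core` this bounds by `mq q / 3` the number of elements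
`T₆(c)` of `E₆(K)` obtained from such `c`.
-/

set_option autoImplicit false
set_option linter.unusedSectionVars false
set_option linter.unusedVariables false

namespace Cfsg.Agent.E6T

open Cfsg Cfsg.Lie Cfsg.Agent.Lead.Chev Cfsg.Agent.Lead.Tw

/-! ### the two matrices of a word -/

/-- the `k`-th fundamental reflection in the basis of the fundamental weights -/
def countb_sD (k : Fin 6) : Matrix (Fin 6) (Fin 6) ℤ :=
  fun j i => (if j = i then 1 else 0) - (if i = k then C6 j k else 0)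

/-- the `i`-th fundamental reflection in the basis of the simple roots -/
def countb_sR (i : Fin 6) : Matrix (Fin 6) (Fin 6) ℤ :=
  fun k j => (if k = j then 1 else 0) - (if k = i then C6 i j else 0)

theorem countb_table : ∀ i : Fin 6, ∀ v : Fin 72, chevE6.reflectRoot i.val v.val < 72 ∧
    rc (chevE6.reflectRoot i.val v.val) = (countb_sR i).mulVec (rc v.val) := by
  decide +kernel

theorem countb_sD_C6 : ∀ k : Fin 6, countb_sD k * C6 = C6 * countb_sR k := by
  decide +kernel

/-- the matrix of a word on the weight lattice -/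
def countb_nMat : List ℕ → Matrix (Fin 6) (Fin 6) ℤ
  | [] => 1
  | i :: w => (if h : i < 6 then countb_sD ⟨i, h⟩ else 1) * countb_nMat w

/-- the matrix of a word on the root lattice -/
def countb_mMat : List ℕ → Matrix (Fin 6) (Fin 6) ℤ
  | [] => 1
  | i :: w => (if h : i < 6 then countb_sR ⟨i, h⟩ else 1) * countb_mMat w

theorem countb_nMat_C6 (w : List ℕ) : countb_nMat w * C6 = C6 * countb_mMat w := by
  induction w with
  | nil => simp [countb_nMat, countb_mMat]
  | cons i w ih =>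
    rw [countb_nMat, countb_mMat]
    by_cases h : i < 6
    · rw [dif_pos h, dif_pos h, Matrix.mul_assoc, ih, ← Matrix.mul_assoc, countb_sD_C6, Matrix.mul_assoc]
    · rw [dif_neg h, dif_neg h, one_mul, one_mul, ih]

theorem countb_acts_mMat (w : List ℕ) (hw : ∀ i ∈ w, i < 6) : ActsM w (countb_mMat w) := by
  induction w with
  | nil =>
    intro v hv
    refine ⟨hv, ?_⟩
    rw [countb_mMat, Matrix.one_mulVec]
    rfl
  | cons i w ih =>
    have hw' : ∀ j ∈ w, j < 6 := fun j hj => hw j (List.mem_cons_of_mem _ hj)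
    have hi : i < 6 := hw i List.mem_cons_self
    intro v hv
    obtain ⟨h1, h2⟩ := ih hw' v hv
    obtain ⟨h3, h4⟩ := countb_table ⟨i, hi⟩ ⟨reflWord chevE6 w v, h1⟩
    show chevE6.reflectRoot i (reflWord chevE6 w v) < 72 ∧
      rc (chevE6.reflectRoot i (reflWord chevE6 w v)) = _
    refine ⟨h3, ?_⟩
    rw [countb_mMat, dif_pos hi, ← Matrix.mulVec_mulVec, ← h2]
    exact h4

theorem countb_acts_unique (w : List ℕ) (M M' : Matrix (Fin 6) (Fin 6) ℤ) (h : ActsM w M) (h' : ActsM w M') :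
    M = M' := by
  ext i j
  have e1 := (h (sIdx j) (sIdx_lt j)).2
  have e2 := (h' (sIdx j) (sIdx_lt j)).2
  rw [rc_sIdx] at e1 e2
  have e3 := congrFun (e1.symm.trans e2) i
  simpa [Matrix.mulVec_single_one] using e3

/-- the matrix of `w` on the weight lattice is conjugate by `C6` to the matrix on the root lattice -/
theorem countb_nMat_spec (w : List ℕ) (hw : ∀ i ∈ w, i < 6) (M : Matrix (Fin 6) (Fin 6) ℤ) (hact : ActsM w M) :
    countb_nMat w * C6 = C6 * M := by
  rw [countb_nMat_C6, countb_acts_unique w M _ hact (countb_acts_mMat w hw)]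

/-! ### the roots of `E₈` as weights of `E₆` -/

/-- the restriction of the root `v` of `E₈` to the coroots of `E₆` -/
def countb_lam8 (v : ℕ) : Fin 6 → ℤ := fun j => chevE8.cartan j.val v

/-- the Cartan integers of the first six simple roots of `E₈` -/
def countb_c8 : Matrix (Fin 6) (Fin 6) ℤ := fun j k => chevE8.cartan j.val (chevE8.simple k.val)

theorem countb_c8_eq : countb_c8 = C6 := by
  decide +kernel

theorem countb_cartan8_simple (j k : Fin 6) : chevE8.cartan j.val (chevE8.simple k.val) = C6 j k := by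
  rw [← countb_c8_eq]
  rfl

theorem countb_cartan8_refl (k : ℕ) (hk : k < 8) (v : ℕ) (hv : v < 240) (j : ℕ) (hj : j < 8) :
    chevE8.cartan j (chevE8.reflectRoot k v) =
      chevE8.cartan j v - chevE8.cartan j (chevE8.simple k) * chevE8.cartan k v := by
  have fa := (Cfsg.Agent.Helper20.E8T.e8F ℚ).facts k hk
  have h1 := fa.wlt v hv
  have h2 := fa.car (chevE8.reflectRoot k v) h1 j hj
  rw [fa.winv v hv] at h2
  exact h2

theorem countb_lam8_refl (k : ℕ) (hk : k < 6) (v : ℕ) (hv : v < 240) :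
    countb_lam8 (chevE8.reflectRoot k v) = (countb_sD ⟨k, hk⟩).mulVec (countb_lam8 v) := by
  funext j
  have h1 := countb_cartan8_refl k (by omega) v hv j.val (by omega)
  have h2 := countb_cartan8_simple j ⟨k, hk⟩
  simp only at h2
  show chevE8.cartan j.val (chevE8.reflectRoot k v) = _
  rw [h1, h2]
  simp only [Matrix.mulVec, dotProduct, countb_sD, countb_lam8, sub_mul, ite_mul, one_mul, zero_mul,
    Finset.sum_sub_distrib, Finset.sum_ite_eq, Finset.mem_univ, if_true]
  congr 1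
  rw [Finset.sum_eq_single (⟨k, hk⟩ : Fin 6)]
  · rw [if_pos rfl]
  · intro b _ hb
    rw [if_neg hb]
  · intro h
    exact absurd (Finset.mem_univ _) h

theorem countb_lt8 (w : List ℕ) (hw : ∀ i ∈ w, i < 6) (v : ℕ) (hv : v < 240) : reflWord chevE8 w v < 240 :=
  reflWord_lt chevE8 (etaOf chevE8) (fun i hi => (Cfsg.Agent.Helper20.E8T.e8F ℚ).facts i hi) w
    (fun j hj => by
      have := hw j hj
      show j < 8
      omega) v hv

theorem countb_lam8_word (w : List ℕ) (hw : ∀ i ∈ w, i < 6) (v : ℕ) (hv : v < 240) :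
    countb_lam8 (reflWord chevE8 w v) = (countb_nMat w).mulVec (countb_lam8 v) := by
  induction w with
  | nil =>
    rw [countb_nMat, Matrix.one_mulVec]
    rfl
  | cons i w ih =>
    have hw' : ∀ j ∈ w, j < 6 := fun j hj => hw j (List.mem_cons_of_mem _ hj)
    have hi : i < 6 := hw i List.mem_cons_self
    have hlt := countb_lt8 w hw' v hv
    show countb_lam8 (chevE8.reflectRoot i (reflWord chevE8 w v)) = _
    rw [countb_lam8_refl i hi _ hlt, ih hw', countb_nMat, dif_pos hi, Matrix.mulVec_mulVec]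

/-- six combinations of roots of `E₈` that restrict to the fundamental weights of `E₆` -/
theorem countb_lam8_gen : countb_lam8 78 = Pi.single 0 1 ∧ countb_lam8 204 = Pi.single 1 1 ∧
    countb_lam8 56 + countb_lam8 78 = Pi.single 2 1 ∧ countb_lam8 194 + countb_lam8 204 = Pi.single 3 1 ∧
    countb_lam8 30 + countb_lam8 204 = Pi.single 4 1 ∧ countb_lam8 117 = Pi.single 5 1 := by
  decide +kernel

section K

variable {K : Type*} [Field K]

/-- the units of the first six parameters -/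
def countb_units (c : ℕ → K) (hc : ∀ i < 6, c i ≠ 0) : Fin 6 → Kˣ := fun i => Units.mk0 (c i.val) (hc i.val i.2)

/-- the character of `T₈(c)`, `c 6 = c 7 = 1`, in terms of `chiV` -/
theorem countb_chi8 (c : ℕ → K) (hc : ∀ i < 6, c i ≠ 0) (h6 : c 6 = 1) (h7 : c 7 = 1) (v : ℕ) :
    chi chevE8 c v = ((chiV (countb_units c hc) (countb_lam8 v) : Kˣ) : K) := by
  unfold chi chiV countb_lam8 countb_units
  have : chevE8.rank = 8 := rfl
  rw [this]
  simp [List.range_succ, mul_assoc, Fin.prod_univ_six, h6, h7]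

/-- the property `χ(N μ) = χ(μ)^q` -/
def countb_P (q : ℕ) (N : Matrix (Fin 6) (Fin 6) ℤ) (x : Fin 6 → Kˣ) (μ : Fin 6 → ℤ) : Prop :=
  chiV x (N.mulVec μ) = chiV x μ ^ q

theorem countb_P_add (q : ℕ) (N : Matrix (Fin 6) (Fin 6) ℤ) (x : Fin 6 → Kˣ) (μ ν : Fin 6 → ℤ)
    (h1 : countb_P q N x μ) (h2 : countb_P q N x ν) : countb_P q N x (μ + ν) := by
  unfold countb_P at *
  rw [Matrix.mulVec_add, chiV_add, chiV_add, h1, h2, mul_pow]

theorem countb_P_single (q : ℕ) (N : Matrix (Fin 6) (Fin 6) ℤ) (x : Fin 6 → Kˣ) (j : Fin 6)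
    (h : countb_P q N x (Pi.single j 1)) : ∏ i, x i ^ (N i j) = x j ^ q := by
  unfold countb_P at h
  rw [chiV_single, zpow_one] at h
  rw [← h]
  unfold chiV
  refine Finset.prod_congr rfl fun i _ => ?_
  rw [Matrix.mulVec_single_one]
  rfl

/-- **bridge, character form** -/
theorem count_bridge (q : ℕ) (w : List ℕ) (hw : ∀ i ∈ w, i < 6) (c : ℕ → K) (hc : ∀ i < 6, c i ≠ 0)
    (h6 : c 6 = 1) (h7 : c 7 = 1)
    (hrel : ∀ v < 240, chi chevE8 c (reflWord chevE8 w v) = chi chevE8 c v ^ q) :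
    countb_units c hc ∈ lam0 K q (countb_nMat w) := by
  have hP : ∀ v < 240, countb_P q (countb_nMat w) (countb_units c hc) (countb_lam8 v) := by
    intro v hv
    unfold countb_P
    apply Units.ext
    rw [← countb_lam8_word w hw v hv, ← countb_chi8 c hc h6 h7, Units.val_pow_eq_pow_val,
      ← countb_chi8 c hc h6 h7, hrel v hv]
  obtain ⟨g0, g1, g2, g3, g4, g5⟩ := countb_lam8_gen
  rw [mem_lam0]
  intro j
  apply countb_P_single
  fin_cases j
  · show countb_P q _ _ (Pi.single 0 1)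
    rw [← g0]
    exact hP 78 (by norm_num)
  · show countb_P q _ _ (Pi.single 1 1)
    rw [← g1]
    exact hP 204 (by norm_num)
  · show countb_P q _ _ (Pi.single 2 1)
    rw [← g2]
    exact countb_P_add _ _ _ _ _ (hP 56 (by norm_num)) (hP 78 (by norm_num))
  · show countb_P q _ _ (Pi.single 3 1)
    rw [← g3]
    exact countb_P_add _ _ _ _ _ (hP 194 (by norm_num)) (hP 204 (by norm_num))
  · show countb_P q _ _ (Pi.single 4 1)
    rw [← g4]
    exact countb_P_add _ _ _ _ _ (hP 30 (by norm_num)) (hP 204 (by norm_num))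
  · show countb_P q _ _ (Pi.single 5 1)
    rw [← g5]
    exact hP 117 (by norm_num)

/-- **bridge, group form** -/
theorem count_bridge_gl (q : ℕ) (f : K ≃+* K) (hf : ∀ t, f t = t ^ q) (w : List ℕ) (hw : ∀ i ∈ w, i < 6)
    (T8 : GL chevE8.Idx K) (hT8 : T8 ∈ chevE8.diagonalSubgroup K) (c : ℕ → K) (hc : ∀ i < 6, c i ≠ 0)
    (h6 : c 6 = 1) (h7 : c 7 = 1) (hT8c : (T8 : Matrix chevE8.Idx chevE8.Idx K) = Tmat chevE8 c)
    (hrel : nWordGL chevE8 (Cfsg.Agent.Helper20.E8T.e8F K).xadd w * Cfsg.Agent.Helper20.E8T.sig f T8 *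
      (nWordGL chevE8 (Cfsg.Agent.Helper20.E8T.e8F K).xadd w)⁻¹ = T8) :
    countb_units c hc ∈ lam0 K q (countb_nMat w) := by
  apply count_bridge q w hw c hc h6 h7
  intro v hv
  have hw8 : ∀ i ∈ w, i < 8 := fun i hi => by
    have := hw i hi
    omega
  have h1 := Cfsg.Agent.Helper20.E8T.ev_nconj (Cfsg.Agent.Helper20.E8T.sig f T8)
    (Cfsg.Agent.Helper20.E8T.sig_mem_diagonal f T8 hT8) w hw8 v hv
  rw [hrel, Cfsg.Agent.Helper20.E8T.ev_sig,
    Cfsg.Agent.Helper20.E8T.e8tchia_ev_eq T8 c hT8c _ (countb_lt8 w hw v hv),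
    Cfsg.Agent.Helper20.E8T.e8tchia_ev_eq T8 c hT8c v hv, hf] at h1
  exact h1

/-! ### the torus elements of `E₆` -/

/-- the column of the Cartan numbers of the root `v` of `E₆` -/
def countb_cart (v : ℕ) : Fin 6 → ℤ := fun i => chevE6.cartan i.val v

theorem countb_cart_table : ∀ v : Fin 72, ∀ i : Fin 6,
    chevE6.cartan i.val v.val = ∑ j : Fin 6, rc v.val j * chevE6.cartan i.val (sIdx j) := by
  decide +kernel

theorem countb_cart_eq (v : ℕ) (hv : v < 72) :
    countb_cart v = ∑ j : Fin 6, rc v j • countb_cart (sIdx j) := by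
  funext i
  rw [Finset.sum_apply]
  simp only [Pi.smul_apply, smul_eq_mul]
  exact countb_cart_table ⟨v, hv⟩ i

theorem countb_cart_simple : ∀ j i : Fin 6, countb_cart (sIdx j) i = C6 i j := by
  decide +kernel

/-- the character of `T₆(c)` in terms of `chiV` -/
theorem countb_chi6raw (u : Fin 6 → Kˣ) (c : ℕ → K) (hu : ∀ i : Fin 6, ((u i : Kˣ) : K) = c i.val) (v : ℕ) :
    chi chevE6 c v = ((chiV u (countb_cart v) : Kˣ) : K) := by
  unfold chi chiV countb_cart
  have : chevE6.rank = 6 := rfl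
  rw [this]
  have h0 : ((u 0 : Kˣ) : K) = c 0 := hu 0
  have h1 : ((u 1 : Kˣ) : K) = c 1 := hu 1
  have h2 : ((u 2 : Kˣ) : K) = c 2 := hu 2
  have h3 : ((u 3 : Kˣ) : K) = c 3 := hu 3
  have h4 : ((u 4 : Kˣ) : K) = c 4 := hu 4
  have h5 : ((u 5 : Kˣ) : K) = c 5 := hu 5
  simp [List.range_succ, mul_assoc, Fin.prod_univ_six, h0, h1, h2, h3, h4, h5]

/-- the character of `T₆(c)` at a root is determined by `tauHom` of the parameters -/
theorem countb_chi6 (c : ℕ → K) (hc : ∀ i < 6, c i ≠ 0) (v : ℕ) (hv : v < 72) :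
    chi chevE6 c v = ((chiV (tauHom K (countb_units c hc)) (rc v) : Kˣ) : K) := by
  rw [countb_chi6raw (countb_units c hc) c (fun i => rfl) v, countb_cart_eq v hv, chiV_sum]
  congr 1
  unfold chiV
  refine Finset.prod_congr rfl fun j _ => ?_
  have e : (∏ i, countb_units c hc i ^ (rc v j • countb_cart (sIdx j)) i) =
      (∏ i, countb_units c hc i ^ countb_cart (sIdx j) i) ^ rc v j := by
    rw [← Finset.prod_zpow]
    refine Finset.prod_congr rfl fun i _ => ?_
    rw [Pi.smul_apply, smul_eq_mul, mul_comm, zpow_mul]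
  rw [e]
  congr 1
  show _ = ∏ i, countb_units c hc i ^ C6 i j
  refine Finset.prod_congr rfl fun i _ => ?_
  rw [countb_cart_simple j i]

/-- `T₆(c)` is determined by `tauHom` of the parameters -/
theorem countb_Tmat6_eq (c c' : ℕ → K) (hc : ∀ i < 6, c i ≠ 0) (hc' : ∀ i < 6, c' i ≠ 0)
    (h : tauHom K (countb_units c hc) = tauHom K (countb_units c' hc')) : Tmat chevE6 c = Tmat chevE6 c' := by
  unfold Tmat
  congr 1
  funext idx
  rcases idx with i | v
  · rfl
  · show chi chevE6 c v.val = chi chevE6 c' v.val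
    rw [countb_chi6 c hc v.val v.2, countb_chi6 c' hc' v.val v.2, h]

/-- **COUNT**: when `3 ∣ q - 1`, a set of torus elements `T₆(c)` of `E₆(K)`, `|K| = q¹²`, whose parameters satisfy the
relation of the simply connected cover has at most `mq q / 3` elements -/
theorem count_lt_chi [Fintype K] (q : ℕ) (hq : 1 ≤ q) (hK : Fintype.card K = q ^ 12) (h3 : 3 ∣ q - 1)
    (w : List ℕ) (hw : ∀ i ∈ w, i < 6) (M : Matrix (Fin 6) (Fin 6) ℤ) (hM : IsGood M) (hact : ActsM w M)
    (S : Set (GL chevE6.Idx K))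
    (hS : ∀ t ∈ S, ∃ c : ℕ → K, (∀ i < 6, c i ≠ 0) ∧ c 6 = 1 ∧ c 7 = 1 ∧
      (t : Matrix chevE6.Idx chevE6.Idx K) = Tmat chevE6 c ∧
      ∀ v < 240, chi chevE8 c (reflWord chevE8 w v) = chi chevE8 c v ^ q) :
    3 * Nat.card S ≤ mq q := by
  classical
  have hN := countb_nMat_spec w hw M hact
  have hcore := count_core (K := K) q hq hK h3 M (countb_nMat w) hM hN
  choose! cc hcc using hS
  let Φ : S → ↥((lam0 K q (countb_nMat w)).map (tauHom K)) := fun t =>
    ⟨tauHom K (countb_units (cc t.1) (hcc t.1 t.2).1),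
      Subgroup.mem_map_of_mem _ (count_bridge q w hw (cc t.1) (hcc t.1 t.2).1 (hcc t.1 t.2).2.1
        (hcc t.1 t.2).2.2.1 (hcc t.1 t.2).2.2.2.2)⟩
  have hΦ : Function.Injective Φ := by
    intro t t' htt
    have h1 : tauHom K (countb_units (cc t.1) (hcc t.1 t.2).1) =
        tauHom K (countb_units (cc t'.1) (hcc t'.1 t'.2).1) := congrArg Subtype.val htt
    apply Subtype.ext
    apply Units.ext
    rw [(hcc t.1 t.2).2.2.2.1, (hcc t'.1 t'.2).2.2.2.1]
    exact countb_Tmat6_eq _ _ _ _ h1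
  have hle := Nat.card_le_card_of_injective Φ hΦ
  omega

/-- **COUNT**, group form -/
theorem count_lt [Fintype K] (q : ℕ) (hq : 1 ≤ q) (hK : Fintype.card K = q ^ 12) (h3 : 3 ∣ q - 1)
    (f : K ≃+* K) (hf : ∀ t, f t = t ^ q)
    (w : List ℕ) (hw : ∀ i ∈ w, i < 6) (M : Matrix (Fin 6) (Fin 6) ℤ) (hM : IsGood M) (hact : ActsM w M)
    (S : Set (GL chevE6.Idx K))
    (hS : ∀ t ∈ S, ∃ T8 ∈ chevE8.diagonalSubgroup K, ∃ c : ℕ → K, (∀ i < 6, c i ≠ 0) ∧ c 6 = 1 ∧ c 7 = 1 ∧
      (T8 : Matrix chevE8.Idx chevE8.Idx K) = Tmat chevE8 c ∧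
      (t : Matrix chevE6.Idx chevE6.Idx K) = Tmat chevE6 c ∧
      nWordGL chevE8 (Cfsg.Agent.Helper20.E8T.e8F K).xadd w * Cfsg.Agent.Helper20.E8T.sig f T8 *
        (nWordGL chevE8 (Cfsg.Agent.Helper20.E8T.e8F K).xadd w)⁻¹ = T8) :
    3 * Nat.card S ≤ mq q := by
  apply count_lt_chi q hq hK h3 w hw M hM hact S
  intro t ht
  obtain ⟨T8, hT8, c, hc, h6, h7, hT8c, htc, hrel⟩ := hS t ht
  refine ⟨c, hc, h6, h7, htc, ?_⟩
  intro v hv
  have hw8 : ∀ i ∈ w, i < 8 := fun i hi => by
    have := hw i hi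
    omega
  have h1 := Cfsg.Agent.Helper20.E8T.ev_nconj (Cfsg.Agent.Helper20.E8T.sig f T8)
    (Cfsg.Agent.Helper20.E8T.sig_mem_diagonal f T8 hT8) w hw8 v hv
  rw [hrel, Cfsg.Agent.Helper20.E8T.ev_sig,
    Cfsg.Agent.Helper20.E8T.e8tchia_ev_eq T8 c hT8c _ (countb_lt8 w hw v hv),
    Cfsg.Agent.Helper20.E8T.e8tchia_ev_eq T8 c hT8c v hv, hf] at h1
  exact h1

end K

end Cfsg.Agent.E6T
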