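import Mathlib
import Cfsg.Agent.Lib.E6T.CountBridge
import Cfsg.Agent.Lib.E6Cov.E6In8

/-!
# S2373 piece COUNT, glue with the cover `E6Cov` (helper12)

`count_lt` with its hypothesis in the shape of the conclusion of `Cfsg.Agent.E6Cov.cov68`.
-/

set_option autoImplicit false
set_option linter.unusedSectionVars false
set_option linter.unusedVariables false

namespace Cfsg.Agent.E6T

open Cfsg Cfsg.Lie Cfsg.Agent.Lead.Chev Cfsg.Agent.Lead.Tw Cfsg.Agent.E6Cov

variable {K : Type*} [Field K]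

/-- **COUNT**, cover form: when `3 ∣ q - 1`, a set of torus elements of `E₆(K)`, `|K| = q¹²`, each of which is the block of a
torus element `A` of `S~ ⊂ E₈(K)` with `n_w σ(A) n_w⁻¹ = A`, has at most `mq q / 3` elements -/
theorem count_lt_cov [Fintype K] (q : ℕ) (hq : 1 ≤ q) (hK : Fintype.card K = q ^ 12) (h3 : 3 ∣ q - 1)
    (f : K ≃+* K) (hf : ∀ t, f t = t ^ q)
    (w : List ℕ) (hw : ∀ i ∈ w, i < 6) (M : Matrix (Fin 6) (Fin 6) ℤ) (hM : IsGood M) (hact : ActsM w M)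
    (hF8 : ChevFacts chevE8 K) (S : Set (GL chevE6.Idx K))
    (hS : ∀ t ∈ S, ∃ A : GL chevE8.Idx K, A ∈ Stilde chevE6 emb68 K hF8.xadd ∧ A ∈ chevE8.diagonalSubgroup K ∧
      res subOK68 (A : Matrix chevE8.Idx chevE8.Idx K) = (t : Matrix chevE6.Idx chevE6.Idx K) ∧
      nWordGL chevE8 hF8.xadd w * Cfsg.Agent.S1080.Phi chevE8 f A * (nWordGL chevE8 hF8.xadd w)⁻¹ = A) :
    3 * Nat.card S ≤ mq q := by
  apply count_lt q hq hK h3 f hf w hw M hM hact S
  intro t ht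
  obtain ⟨A, hAS, hAd, hres, hrel⟩ := hS t ht
  obtain ⟨c, hc, hAc⟩ := exists_Tmat_of_mem chevE8 hF8.hall A hAd
  obtain ⟨h6, h7⟩ := torus_params68 hF8.xadd A hAS c hc hAc
  have hc8 : ∀ i < 8, c i ≠ 0 := hc
  obtain ⟨c', hc'⟩ : ∃ c' : ℕ → K, c' = fun i => if i < 8 then c i else 1 := ⟨_, rfl⟩
  have e1 : ∀ i < 8, c' i = c i := fun i hi => by
    subst hc'
    exact if_pos hi
  have e2 : ∀ i, 8 ≤ i → c' i = 1 := fun i hi => by
    subst hc'
    exact if_neg (by omega)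
  have hcc' : Tmat chevE8 c = Tmat chevE8 c' := Tmat_congr chevE8 c c' (fun i hi => (e1 i hi).symm)
  have h1 : ∀ i, 6 ≤ i → c' i = 1 := by
    intro i hi
    by_cases h8 : 8 ≤ i
    · exact e2 i h8
    · have h9 : i = 6 ∨ i = 7 := by omega
      rcases h9 with rfl | rfl
      · rw [e1 6 (by norm_num), h6]
      · rw [e1 7 (by norm_num), h7]
  refine ⟨A, hAd, c', ?_, h1 6 le_rfl, h1 7 (by norm_num), ?_, ?_, hrel⟩
  · intro i hi
    rw [e1 i (by omega)]
    exact hc8 i (by omega)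
  · rw [hAc, hcc']
  · rw [← hres, hAc, hcc']
    exact res_Tmat subOK68 c' h1

end Cfsg.Agent.E6T
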