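import Mathlib
import Cfsg.Agent.Lib.E6T.Lat
import Cfsg.Agent.Lib.Helper1.F4TFIELD

/-!
# S2373 (E6 torus), piece FIELD12 (helper3): the extension of degree 12, its Frobenius, and roots
of unity of order dividing `q^12 - 1`, in particular of order `mq q = Φ₁₂(q) Φ₃(q)`.
(`field12_frob`, `field12_fixed` are the degree-independent `F4T.field8_frob`, `field8_fixed`.)
-/

set_option autoImplicit false

namespace Cfsg.Agent.E6T

/-- an extension of degree `12` -/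
theorem field12_exists (F : Type*) [Field F] [Fintype F] :
    ∃ (K : Type) (_ : Field K) (_ : Fintype K) (_ : F →+* K),
      Fintype.card K = Fintype.card F ^ 12 := by
  obtain ⟨p, hp⟩ := CharP.exists F
  have : Fact p.Prime := ⟨CharP.char_is_prime F p⟩
  refine ⟨FiniteField.Extension F p 12, inferInstance, Fintype.ofFinite _,
    algebraMap F (FiniteField.Extension F p 12), ?_⟩
  rw [Fintype.card_eq_nat_card, FiniteField.natCard_extension, Fintype.card_eq_nat_card]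

/-- `t ↦ t^q` is a field automorphism of `K` -/
theorem field12_frob {F : Type*} [Field F] [Fintype F] {K : Type*} [Field K] [Fintype K]
    (ι : F →+* K) (q : ℕ) (hF : Fintype.card F = q) : ∃ f : K ≃+* K, ∀ t, f t = t ^ q :=
  Cfsg.Agent.Helper13.F4T.field8_frob ι q hF

/-- the fixed field of `t ↦ t^q` is the image of `F` -/
theorem field12_fixed {F : Type*} [Field F] [Fintype F] {K : Type*} [Field K] [Fintype K]
    (ι : F →+* K) (q : ℕ) (hF : Fintype.card F = q) (t : K) : t ^ q = t ↔ t ∈ Set.range ι :=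
  Cfsg.Agent.Helper13.F4T.field8_fixed ι q hF t

theorem field12_m12_cast (q : ℕ) : ((m12 q : ℕ) : ℤ) = (q : ℤ) ^ 4 - (q : ℤ) ^ 2 + 1 := by
  unfold m12
  have h1 : q ^ 2 ≤ q ^ 4 := by
    rcases Nat.eq_zero_or_pos q with h | h
    · subst h; norm_num
    · exact Nat.pow_le_pow_right h (by norm_num)
  push_cast [h1]
  ring

theorem field12_mq_cast (q : ℕ) :
    ((mq q : ℕ) : ℤ) = ((q : ℤ) ^ 4 - (q : ℤ) ^ 2 + 1) * ((q : ℤ) ^ 2 + q + 1) := by
  unfold mq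
  rw [Nat.cast_mul, field12_m12_cast]
  unfold m3
  push_cast
  ring

/-- `Φ₁₂(q) ∣ q^12 - 1` -/
theorem field12_m12_dvd (q : ℕ) (hq : 1 ≤ q) : m12 q ∣ q ^ 12 - 1 := by
  have h1 : 1 ≤ q ^ 12 := Nat.one_le_pow _ _ hq
  have hz : ((m12 q : ℕ) : ℤ) ∣ ((q ^ 12 - 1 : ℕ) : ℤ) := by
    rw [field12_m12_cast]
    push_cast [h1]
    refine ⟨((q : ℤ) ^ 6 - 1) * ((q : ℤ) ^ 2 + 1), ?_⟩
    ring
  exact Int.natCast_dvd_natCast.1 hz

/-- `Φ₃(q) ∣ q^12 - 1` -/
theorem field12_m3_dvd (q : ℕ) (hq : 1 ≤ q) : m3 q ∣ q ^ 12 - 1 := by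
  have h1 : 1 ≤ q ^ 12 := Nat.one_le_pow _ _ hq
  have hz : ((m3 q : ℕ) : ℤ) ∣ ((q ^ 12 - 1 : ℕ) : ℤ) := by
    unfold m3
    push_cast [h1]
    refine ⟨((q : ℤ) - 1) * ((q : ℤ) ^ 3 + 1) * ((q : ℤ) ^ 6 + 1), ?_⟩
    ring
  exact Int.natCast_dvd_natCast.1 hz

/-- `Φ₁₂(q) Φ₃(q) ∣ q^12 - 1` (private copy of ARITH12 `mq_dvd`) -/
theorem field12_mq_dvd (q : ℕ) (hq : 1 ≤ q) : mq q ∣ q ^ 12 - 1 := by
  have h1 : 1 ≤ q ^ 12 := Nat.one_le_pow _ _ hq
  have hz : ((mq q : ℕ) : ℤ) ∣ ((q ^ 12 - 1 : ℕ) : ℤ) := by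
    rw [field12_mq_cast]
    push_cast [h1]
    refine ⟨((q : ℤ) - 1) * ((q : ℤ) + 1) * ((q : ℤ) ^ 2 + 1) * ((q : ℤ) ^ 2 - q + 1), ?_⟩
    ring
  exact Int.natCast_dvd_natCast.1 hz

/-- an element of any order dividing `q^12 - 1` in the multiplicative group of the field with
`q^12` elements -/
theorem field12_root_of_dvd {K : Type*} [Field K] [Fintype K] (q : ℕ) (hq : 2 ≤ q)
    (hK : Fintype.card K = q ^ 12) (d : ℕ) (hd : d ∣ q ^ 12 - 1) :
    ∃ ζ : Kˣ, orderOf ζ = d := by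
  classical
  have hcard : Nat.card Kˣ = q ^ 12 - 1 := by
    rw [Nat.card_eq_fintype_card, Fintype.card_units, hK]
  obtain ⟨g, hg⟩ := IsCyclic.exists_ofOrder_eq_natCard (α := Kˣ)
  rw [hcard] at hg
  obtain ⟨k, hk⟩ := hd
  have hpos : 0 < q ^ 12 - 1 := by
    have : 2 ^ 12 ≤ q ^ 12 := Nat.pow_le_pow_left hq 12
    have : (2 : ℕ) ^ 12 = 4096 := by norm_num
    omega
  have hk0 : k ≠ 0 := by
    rintro rfl
    rw [mul_zero] at hk
    omega
  refine ⟨g ^ k, ?_⟩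
  rw [orderOf_pow_of_dvd hk0 (by rw [hg, hk]; exact Dvd.intro_left _ rfl), hg, hk]
  exact Nat.mul_div_cancel _ (Nat.pos_of_ne_zero hk0)

/-- a primitive `mq q`-th root of unity in the field with `q¹²` elements -/
theorem field12_root {K : Type*} [Field K] [Fintype K] (q : ℕ) (hq : 2 ≤ q)
    (hK : Fintype.card K = q ^ 12) : ∃ ζ : Kˣ, orderOf ζ = mq q :=
  field12_root_of_dvd q hq hK (mq q) (field12_mq_dvd q (by omega))

/-- the number of `d`-th roots of unity, `d ∣ q^12 - 1` -/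
theorem field12_roots_of_dvd {K : Type*} [Field K] [Fintype K] (q : ℕ)
    (hK : Fintype.card K = q ^ 12) (d : ℕ) (hd : d ∣ q ^ 12 - 1) :
    Nat.card {ξ : Kˣ // ξ ^ d = 1} = d := by
  classical
  have hcard : Nat.card Kˣ = q ^ 12 - 1 := by
    rw [Nat.card_eq_fintype_card, Fintype.card_units, hK]
  have hker := IsCyclic.card_powMonoidHom_ker Kˣ d
  have hset : {ξ : Kˣ // ξ ^ d = 1} = ↥(powMonoidHom d : Kˣ →* Kˣ).ker := rfl
  rw [hset, hker, hcard]
  exact Nat.gcd_eq_right hd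

/-- the number of `mq q`-th roots of unity -/
theorem field12_roots {K : Type*} [Field K] [Fintype K] (q : ℕ) (hq : 2 ≤ q)
    (hK : Fintype.card K = q ^ 12) : Nat.card {ξ : Kˣ // ξ ^ (mq q) = 1} = mq q :=
  field12_roots_of_dvd q hK (mq q) (field12_mq_dvd q (by omega))

end Cfsg.Agent.E6T
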