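import Mathlib
import Cfsg.Agent.Lib.Lead.ChevFixGen
import Cfsg.Agent.Lib.Helper3.G2TMAP
import Cfsg.Agent.Lib.Lead.ChevCore

/-!
# S2373, block GHAT, part A (helper5): the fixed points of the field automorphism on `D.group K`, WITHOUT the
torus hypothesis of `Lead.FixGen.fix_group_gen` (datum-generic)

* `ghat_fix_form_gen` (G1): a fixed `y ∈ D.group K` is `ι(z₁) * h * ι(z₂)` with `z₁ z₂ ∈ D.group F` and `h ∈ T(K)` fixed.
* `ghat_conj_map_gen`: a fixed `h ∈ T(K)` normalizes the image of `D.group F`.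
* `ghat_fix_form2_gen`: a fixed `y ∈ D.group K` is `ι(z) * h` with `z ∈ D.group F` and `h ∈ T(K)` fixed.
-/

set_option autoImplicit false
set_option linter.unusedSectionVars false
set_option linter.unusedSimpArgs false
set_option linter.unusedVariables false

namespace Cfsg.Agent.E6T

open Cfsg Cfsg.Lie Cfsg.Agent.Lead.Chev Cfsg.Agent.Lead.Tw Cfsg.Agent.Lead.FixGen
  Cfsg.Agent.Helper11.G2T.FIX Cfsg.Agent.Helper11.G2T

section FK

variable {F : Type*} [Field F] {K : Type*} [Field K] {D : ChevalleyDatum}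
  (hFF : ChevFacts D F) (hK : ChevFacts D K) (ι : F →+* K)
include hFF hK

/-- (G1), datum-generic: the shape of the fixed points of the field automorphism on `D.group K` -/
theorem ghat_fix_form_gen (hS : CorSize D) (f : K ≃+* K) (hf : ∀ t, f t = t ↔ t ∈ Set.range ι)
    (y : GL D.Idx K) (hy : y ∈ D.group K) (e : Cfsg.Agent.S1080.Phi D f y = y) :
    ∃ z₁ ∈ D.group F, ∃ z₂ ∈ D.group F, ∃ h ∈ D.diagonalSubgroup K,
      Cfsg.Agent.S1080.Phi D f h = h ∧
      y = Matrix.GeneralLinearGroup.map ι z₁ * h * Matrix.GeneralLinearGroup.map ι z₂ := by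
  obtain ⟨u₁, hu₁, n, hn, u, hu, e1, e2, e3, rfl⟩ :=
    Twist.exists_fixed_canonical hK (fieldTwistGen hK f) hS y hy e
  obtain ⟨z₁, hz₁, ez₁⟩ := unip_fixed_gen hFF hK ι f hf u₁ hu₁ e1
  obtain ⟨z₂, hz₂, ez₂⟩ := unip_fixed_gen hFF hK ι f hf u (hK.negPartN_le_posUnipotent n hu) e3
  obtain ⟨h, hh, w, hw, rfl⟩ := exists_word_of_mem_monomial D hK.xadd (etaOf D) hK.nsimple
    hK.simple_lt hK.orbit n hn
  have hf' : ∀ t, f (ι t) = ι t := fun t => (hf (ι t)).2 ⟨t, rfl⟩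
  have ew : Matrix.GeneralLinearGroup.map ι (nWordGL D hFF.xadd w) = nWordGL D hK.xadd w :=
    nWordGL_map_hom ι D hFF.xadd hK.xadd w
  have e1' : Cfsg.Agent.S1080.Phi D f (nWordGL D hK.xadd w) = nWordGL D hK.xadd w := by
    rw [← ew]
    exact phi_map_hom ι f hf' _
  have e2' : Cfsg.Agent.S1080.Phi D f h = h := by
    have e2'' : Cfsg.Agent.S1080.Phi D f (h * nWordGL D hK.xadd w) = h * nWordGL D hK.xadd w := e2
    rw [map_mul, e1'] at e2''
    exact mul_right_cancel e2''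
  refine ⟨z₁, hFF.posUnipotent_le_group hz₁, nWordGL D hFF.xadd w * z₂,
    mul_mem (hFF.monomial_le_group (nWordGL_mem_monomial D hFF.xadd hFF.simple_lt w hw))
      (hFF.posUnipotent_le_group hz₂), h, hh, e2', ?_⟩
  rw [map_mul, ez₁, ez₂, ew]
  group

/-- a fixed element of `T(K)` normalizes the image of `D.group F` -/
theorem ghat_conj_map_gen (f : K ≃+* K) (hf : ∀ t, f t = t ↔ t ∈ Set.range ι)
    (h : GL D.Idx K) (hh : h ∈ D.diagonalSubgroup K) (e : Cfsg.Agent.S1080.Phi D f h = h)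
    (z : GL D.Idx F) (hz : z ∈ D.group F) :
    ∃ z' ∈ D.group F, h * Matrix.GeneralLinearGroup.map ι z * h⁻¹ = Matrix.GeneralLinearGroup.map ι z' := by
  obtain ⟨c, hc, hhc⟩ := exists_Tmat_of_mem D hK.hall h hh
  -- the values of the character are fixed
  have hfix : ∀ r < D.nroots, ∃ ξ : F, ι ξ = chi D c r := by
    intro r hr
    have h1 : (h : Matrix D.Idx D.Idx K) (Sum.inr ⟨r, hr⟩) (Sum.inr ⟨r, hr⟩) = chi D c r := by
      rw [hhc]
      unfold Tmat
      rw [Matrix.diagonal_apply_eq]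
      rfl
    have h2 : ((Cfsg.Agent.S1080.Phi D f h : GL D.Idx K) : Matrix D.Idx D.Idx K)
        (Sum.inr ⟨r, hr⟩) (Sum.inr ⟨r, hr⟩) = f (chi D c r) := by
      rw [Cfsg.Agent.S1080.Phi_coe, Matrix.map_apply, h1]
    rw [e, h1] at h2
    obtain ⟨ξ, hξ⟩ := (hf _).1 h2.symm
    exact ⟨ξ, hξ⟩
  let N : Subgroup (GL D.Idx K) := (D.group F).map (Matrix.GeneralLinearGroup.map ι)
  have hle : D.group F ≤ (N.comap (MulAut.conj h).toMonoidHom).comap (Matrix.GeneralLinearGroup.map ι) := by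
    apply group_le_of D hFF.xadd
    intro r hr t
    rw [Subgroup.mem_comap, Subgroup.mem_comap]
    show h * Matrix.GeneralLinearGroup.map ι (xGL D hFF.xadd r t) * h⁻¹ ∈ N
    obtain ⟨ξ, hξ⟩ := hfix r hr
    rw [g2tmap_xGL_gen ι D hFF.xadd hK.xadd r t, hK.Tmat_conj_xGL h c hc hhc r hr (ι t), ← hξ, ← map_mul,
      ← g2tmap_xGL_gen ι D hFF.xadd hK.xadd r (ξ * t)]
    exact ⟨_, xGL_mem_group D hFF.xadd r (ξ * t), rfl⟩
  have h3 := hle hz
  rw [Subgroup.mem_comap, Subgroup.mem_comap] at h3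
  obtain ⟨z', hz', ez'⟩ := h3
  exact ⟨z', hz', ez'.symm⟩

/-- the fixed points of the field automorphism on `D.group K` are `ι(D.group F) * (fixed points of T(K))` -/
theorem ghat_fix_form2_gen (hS : CorSize D) (f : K ≃+* K) (hf : ∀ t, f t = t ↔ t ∈ Set.range ι)
    (y : GL D.Idx K) (hy : y ∈ D.group K) (e : Cfsg.Agent.S1080.Phi D f y = y) :
    ∃ z ∈ D.group F, ∃ h ∈ D.diagonalSubgroup K,
      Cfsg.Agent.S1080.Phi D f h = h ∧ y = Matrix.GeneralLinearGroup.map ι z * h := by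
  obtain ⟨z₁, hz₁, z₂, hz₂, h, hh, eh, rfl⟩ := ghat_fix_form_gen hFF hK ι hS f hf y hy e
  obtain ⟨z', hz', ez'⟩ := ghat_conj_map_gen hFF hK ι f hf h hh eh z₂ hz₂
  refine ⟨z₁ * z', mul_mem hz₁ hz', h, hh, eh, ?_⟩
  rw [map_mul, ← ez']
  group

end FK

end Cfsg.Agent.E6T
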