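import Mathlib

/-!
# S2373, block GHAT, part B (helper5): an index lemma (pure group theory)

If `Hh` normalizes `N`, every element of `C` is in `N * Hh`, and `H0 ≤ Hh ⊓ N`, then `[C : C ⊓ N]` divides `[Hh : H0]`.
-/

set_option autoImplicit false

namespace Cfsg.Agent.E6T

theorem ghat_relIndex_dvd {𝔾 : Type*} [Group 𝔾] (N Hh H0 C : Subgroup 𝔾)
    (hnorm : ∀ h ∈ Hh, ∀ n ∈ N, h * n * h⁻¹ ∈ N)
    (hC : ∀ c ∈ C, ∃ n ∈ N, ∃ h ∈ Hh, c = n * h)
    (h0N : H0 ≤ N) :
    (C ⊓ N).relIndex C ∣ H0.relIndex Hh := by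
  set M : Subgroup 𝔾 := N ⊔ Hh with hM
  have hNM : N ≤ M := le_sup_left
  have hHM : Hh ≤ M := le_sup_right
  have hCM : C ≤ M := by
    intro c hc
    obtain ⟨n, hn, h, hh, rfl⟩ := hC c hc
    exact mul_mem (hNM hn) (hHM hh)
  have hMnorm : M ≤ Subgroup.normalizer (N : Set 𝔾) := by
    rw [hM]
    apply sup_le
    · exact Subgroup.le_normalizer
    · intro h hh
      rw [Subgroup.mem_normalizer_iff]
      intro n
      constructor
      · intro hn
        exact hnorm h hh n hn
      · intro hn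
        have := hnorm h⁻¹ (inv_mem hh) _ hn
        simpa [mul_assoc] using this
  have hnormal : (N.subgroupOf M).Normal :=
    (Subgroup.normal_subgroupOf_iff_le_normalizer hNM).2 hMnorm
  -- step 1
  have s1 : (C ⊓ N).relIndex C = N.relIndex C := Subgroup.inf_relIndex_left C N
  have s2 : N.relIndex C = (N.subgroupOf M).relIndex (C.subgroupOf M) :=
    (Subgroup.relIndex_subgroupOf hCM).symm
  have s3 : (N.subgroupOf M).relIndex (C.subgroupOf M) ∣ (N.subgroupOf M).index :=
    Subgroup.relIndex_dvd_index_of_normal _ _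
  have s4 : (N.subgroupOf M).index = (N.subgroupOf M).relIndex (Hh.subgroupOf M) := by
    have h1 : (N.subgroupOf M) ⊔ (Hh.subgroupOf M) = ⊤ := by
      rw [← Subgroup.subgroupOf_sup hNM hHM, ← hM, Subgroup.subgroupOf_self]
    have h2 := Subgroup.relIndex_sup_left (Hh.subgroupOf M) (N.subgroupOf M)
    rw [h1, Subgroup.relIndex_top_right] at h2
    exact h2
  have s5 : (N.subgroupOf M).relIndex (Hh.subgroupOf M) = N.relIndex Hh :=
    Subgroup.relIndex_subgroupOf hHM
  have s6 : N.relIndex Hh ∣ H0.relIndex Hh := Subgroup.relIndex_dvd_of_le_left Hh h0N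
  rw [s1, s2]
  exact dvd_trans s3 (by rw [s4, s5]; exact s6)

end Cfsg.Agent.E6T
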