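import Mathlib
import Cfsg.Agent.Lib.E6T.Lat
import Cfsg.Agent.Lib.E6T.GhatA
import Cfsg.Agent.Lib.E6T.GhatB
import Cfsg.Agent.Lib.Lead.ChevFactsAll
import Cfsg.Agent.Lib.Lead.ChevBruhat2
import Cfsg.Agent.S1035

/-!
# S2373, block GHAT, part C (helper5): `[Ĝ : G_F]` divides `gcd(3, q - 1)` for `E₆`

`Ĝ` = the fixed points of the field automorphism `f` on `E₆(K)`, `G_F` = the entrywise image of `E₆(F)` (`F` = the fixed
field of `f`, `|F| = q`).  `ghat_fix_form` is (G1), `ghat_index` is (G2).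
-/

set_option autoImplicit false
set_option linter.unusedSectionVars false
set_option linter.unusedSimpArgs false
set_option linter.unusedVariables false

namespace Cfsg.Agent.E6T

open Cfsg Cfsg.Lie Cfsg.Agent.Lead.Chev Cfsg.Agent.Lead.Tw

/-- the facts for `E₆` (private copy of the GHAT block) -/
theorem ghat_e6F (K : Type*) [Field K] : ChevFacts chevE6 K := chevFacts_of_mem chevE6 (by simp)

theorem ghat_e6S : CorSize chevE6 := corSize_of_mem chevE6 (by simp)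

/-- the column of the Cartan numbers of the root `v` -/
def ghat_cart (v : ℕ) : Fin 6 → ℤ := fun i => chevE6.cartan i.val v

theorem ghat_cart_table : ∀ v : Fin 72, ∀ i : Fin 6,
    chevE6.cartan i.val v.val = ∑ j : Fin 6, rc v.val j * chevE6.cartan i.val (sIdx j) := by
  decide +kernel

theorem ghat_cart_eq (v : ℕ) (hv : v < 72) :
    ghat_cart v = ∑ j : Fin 6, rc v j • ghat_cart (sIdx j) := by
  funext i
  rw [Finset.sum_apply]
  simp only [Pi.smul_apply, smul_eq_mul]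
  exact ghat_cart_table ⟨v, hv⟩ i

theorem ghat_sIdx_lt (i : Fin 6) : sIdx i < 72 := by
  revert i
  decide

section K

variable {K : Type*} [Field K]

/-- the character of `E₆` in terms of `chiV` -/
theorem ghat_chi (u : Fin 6 → Kˣ) (c : ℕ → K) (hu : ∀ i : Fin 6, ((u i : Kˣ) : K) = c i.val) (v : ℕ) :
    chi chevE6 c v = ((chiV u (ghat_cart v) : Kˣ) : K) := by
  unfold chi chiV ghat_cart
  have : chevE6.rank = 6 := rfl
  rw [this]
  have h0 : ((u 0 : Kˣ) : K) = c 0 := hu 0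
  have h1 : ((u 1 : Kˣ) : K) = c 1 := hu 1
  have h2 : ((u 2 : Kˣ) : K) = c 2 := hu 2
  have h3 : ((u 3 : Kˣ) : K) = c 3 := hu 3
  have h4 : ((u 4 : Kˣ) : K) = c 4 := hu 4
  have h5 : ((u 5 : Kˣ) : K) = c 5 := hu 5
  simp [List.range_succ, mul_assoc, Fin.prod_univ_six, h0, h1, h2, h3, h4, h5]

/-- the diagonal entry of `g` at the root vector `e_v` -/
def ghat_ev (g : GL chevE6.Idx K) (v : ℕ) : K :=
  if h : v < chevE6.nroots then
    (g : Matrix chevE6.Idx chevE6.Idx K) (Sum.inr ⟨v, h⟩) (Sum.inr ⟨v, h⟩)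
  else 1

theorem ghat_ev_Tmat (h : GL chevE6.Idx K) (c : ℕ → K)
    (e : (h : Matrix chevE6.Idx chevE6.Idx K) = Tmat chevE6 c) (v : ℕ) (hv : v < 72) :
    ghat_ev h v = chi chevE6 c v := by
  unfold ghat_ev
  have hv' : v < chevE6.nroots := hv
  rw [dif_pos hv', e]
  unfold Tmat
  rw [Matrix.diagonal_apply_eq]
  rfl

theorem ghat_ev_mul (h h' : GL chevE6.Idx K) (hh : h ∈ chevE6.diagonalSubgroup K)
    (hh' : h' ∈ chevE6.diagonalSubgroup K) (v : ℕ) (hv : v < 72) :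
    ghat_ev (h * h') v = ghat_ev h v * ghat_ev h' v := by
  obtain ⟨c, hc, hhc⟩ := exists_Tmat_of_mem chevE6 (ghat_e6F K).hall h hh
  obtain ⟨c', hc', hhc'⟩ := exists_Tmat_of_mem chevE6 (ghat_e6F K).hall h' hh'
  have hprod : ((h * h' : GL chevE6.Idx K) : Matrix chevE6.Idx chevE6.Idx K) =
      Tmat chevE6 (fun i => c i * c' i) := by
    rw [Units.val_mul, hhc, hhc', Tmat_mul]
  rw [ghat_ev_Tmat _ _ hprod v hv, ghat_ev_Tmat _ _ hhc v hv, ghat_ev_Tmat _ _ hhc' v hv, chi_mul]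

theorem ghat_ev_one (v : ℕ) : ghat_ev (1 : GL chevE6.Idx K) v = 1 := by
  unfold ghat_ev
  split_ifs with h
  · rw [Units.val_one, Matrix.one_apply_eq]
  · rfl

theorem ghat_ev_ne_zero (h : GL chevE6.Idx K) (hh : h ∈ chevE6.diagonalSubgroup K) (v : ℕ) (hv : v < 72) :
    ghat_ev h v ≠ 0 := by
  intro h0
  have h1 := ghat_ev_mul h h⁻¹ hh (inv_mem hh) v hv
  rw [mul_inv_cancel, ghat_ev_one, h0, zero_mul] at h1
  exact one_ne_zero h1

theorem ghat_exists_units (h : GL chevE6.Idx K) (hh : h ∈ chevE6.diagonalSubgroup K) :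
    ∃ u : Fin 6 → Kˣ, ∀ v < 72, ghat_ev h v = ((chiV u (ghat_cart v) : Kˣ) : K) := by
  obtain ⟨c, hc, e⟩ := exists_Tmat_of_mem chevE6 (ghat_e6F K).hall h hh
  refine ⟨fun i => Units.mk0 (c i.val) (hc i.val i.2), fun v hv => ?_⟩
  rw [ghat_ev_Tmat h c e v hv]
  exact ghat_chi _ c (fun i => rfl) v

theorem ghat_ev_rc (h : GL chevE6.Idx K) (hh : h ∈ chevE6.diagonalSubgroup K) (v : ℕ) (hv : v < 72) :
    ghat_ev h v = ∏ i : Fin 6, ghat_ev h (sIdx i) ^ rc v i := by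
  obtain ⟨u, hu⟩ := ghat_exists_units h hh
  rw [hu v hv, ghat_cart_eq v hv, chiV_sum, Units.coe_prod]
  refine Finset.prod_congr rfl fun i _ => ?_
  rw [chiV_zsmul, hu (sIdx i) (ghat_sIdx_lt i), Units.val_zpow_eq_zpow_val]

theorem ghat_eq_one_of_ev (h : GL chevE6.Idx K) (hh : h ∈ chevE6.diagonalSubgroup K)
    (h1 : ∀ i : Fin 6, ghat_ev h (sIdx i) = 1) : h = 1 := by
  obtain ⟨c, hc, e⟩ := exists_Tmat_of_mem chevE6 (ghat_e6F K).hall h hh
  apply Units.ext
  rw [e, Units.val_one, ← Matrix.diagonal_one]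
  unfold Tmat
  congr 1
  funext idx
  rcases idx with i | v
  · rfl
  · have hv : v.val < 72 := v.2
    have h4 := ghat_ev_rc h hh v.val hv
    simp only [h1, one_zpow, Finset.prod_const_one] at h4
    rw [ghat_ev_Tmat h c e v.val hv] at h4
    simpa using h4

/-- the field automorphism acts on the diagonal entries -/
theorem ghat_ev_sig (f : K ≃+* K) (g : GL chevE6.Idx K) (v : ℕ) :
    ghat_ev (Cfsg.Agent.S1080.Phi chevE6 f g) v = f (ghat_ev g v) := by
  unfold ghat_ev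
  split_ifs with h
  · rw [Cfsg.Agent.S1080.Phi_coe, Matrix.map_apply]
  · rw [map_one]

/-- `Ĥ`: the fixed points of the field automorphism on `T(K)` -/
noncomputable def ghatH (f : K ≃+* K) : Subgroup (GL chevE6.Idx K) :=
  chevE6.diagonalSubgroup K ⊓
    MonoidHom.eqLocus (Cfsg.Agent.S1080.Phi chevE6 f).toMonoidHom (MonoidHom.id (GL chevE6.Idx K))

theorem mem_ghatH (f : K ≃+* K) (h : GL chevE6.Idx K) :
    h ∈ ghatH f ↔ h ∈ chevE6.diagonalSubgroup K ∧ Cfsg.Agent.S1080.Phi chevE6 f h = h := by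
  unfold ghatH
  rw [Subgroup.mem_inf]
  rfl

end K

section FK

variable {F : Type*} [Field F] {K : Type*} [Field K] (ι : F →+* K)

/-- (G1): the shape of the fixed points of the field automorphism on `E₆(K)` -/
theorem ghat_fix_form (f : K ≃+* K) (hf : ∀ t, f t = t ↔ t ∈ Set.range ι)
    (y : GL chevE6.Idx K) (hy : y ∈ chevE6.group K) (e : Cfsg.Agent.S1080.Phi chevE6 f y = y) :
    ∃ z₁ ∈ chevE6.group F, ∃ z₂ ∈ chevE6.group F, ∃ h ∈ chevE6.diagonalSubgroup K,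
      Cfsg.Agent.S1080.Phi chevE6 f h = h ∧
      y = Matrix.GeneralLinearGroup.map ι z₁ * h * Matrix.GeneralLinearGroup.map ι z₂ :=
  ghat_fix_form_gen (ghat_e6F F) (ghat_e6F K) ι ghat_e6S f hf y hy e

/-- the values of `Ĥ` at the simple roots come from `F` -/
theorem ghat_exists_unit (f : K ≃+* K) (hf : ∀ t, f t = t ↔ t ∈ Set.range ι)
    (h : GL chevE6.Idx K) (hh : h ∈ ghatH f) (i : Fin 6) :
    ∃ u : Fˣ, ι (u : F) = ghat_ev h (sIdx i) := by
  rw [mem_ghatH] at hh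
  have e1 : f (ghat_ev h (sIdx i)) = ghat_ev h (sIdx i) := by rw [← ghat_ev_sig, hh.2]
  obtain ⟨ξ, hξ⟩ := (hf _).1 e1
  have hξ0 : ξ ≠ 0 := by
    rintro rfl
    rw [map_zero] at hξ
    exact ghat_ev_ne_zero h hh.1 _ (ghat_sIdx_lt i) hξ.symm
  exact ⟨Units.mk0 ξ hξ0, hξ⟩

/-- the embedding of `Ĥ` in `(Fˣ)⁶` -/
noncomputable def ghatTheta (f : K ≃+* K) (hf : ∀ t, f t = t ↔ t ∈ Set.range ι) :
    ↥(ghatH f) →* (Fin 6 → Fˣ) :=
  MonoidHom.mk' (fun h i => Classical.choose (ghat_exists_unit ι f hf h.1 h.2 i)) (by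
    intro a b
    funext i
    apply Units.ext
    apply ι.injective
    have ha := Classical.choose_spec (ghat_exists_unit ι f hf a.1 a.2 i)
    have hb := Classical.choose_spec (ghat_exists_unit ι f hf b.1 b.2 i)
    have hab := Classical.choose_spec (ghat_exists_unit ι f hf (a * b).1 (a * b).2 i)
    rw [Pi.mul_apply, Units.val_mul, map_mul, ha, hb, hab]
    exact ghat_ev_mul a.1 b.1 ((mem_ghatH f _).1 a.2).1 ((mem_ghatH f _).1 b.2).1 _ (ghat_sIdx_lt i))

theorem ghatTheta_spec (f : K ≃+* K) (hf : ∀ t, f t = t ↔ t ∈ Set.range ι) (h : ↥(ghatH f)) (i : Fin 6) :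
    ι ((ghatTheta ι f hf h i : Fˣ) : F) = ghat_ev h.1 (sIdx i) :=
  Classical.choose_spec (ghat_exists_unit ι f hf h.1 h.2 i)

theorem ghatTheta_injective (f : K ≃+* K) (hf : ∀ t, f t = t ↔ t ∈ Set.range ι) :
    Function.Injective (ghatTheta ι f hf) := by
  rw [injective_iff_map_eq_one]
  intro h h1
  apply Subtype.ext
  apply ghat_eq_one_of_ev h.1 ((mem_ghatH f _).1 h.2).1
  intro i
  rw [← ghatTheta_spec ι f hf h i, h1]
  simp

end FK

section count

variable {F : Type*} [Field F] [Fintype F] {K : Type*} [Field K] (ι : F →+* K)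

/-- `|Ĥ|` divides `(q - 1)⁶` -/
theorem ghat_card_dvd (f : K ≃+* K) (hf : ∀ t, f t = t ↔ t ∈ Set.range ι) :
    Nat.card ↥(ghatH f) ∣ (Fintype.card F - 1) ^ 6 := by
  have h1 := Subgroup.card_dvd_of_injective (ghatTheta ι f hf) (ghatTheta_injective ι f hf)
  have h2 : Nat.card (Fin 6 → Fˣ) = (Fintype.card F - 1) ^ 6 := by
    classical
    rw [Nat.card_eq_fintype_card, Fintype.card_fun, Fintype.card_units, Fintype.card_fin]
  rwa [h2] at h1

/-- (G2): `[C : C ∩ G_F]` divides `gcd(3, q - 1)` for every group `C` of fixed points -/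
theorem ghat_index (f : K ≃+* K) (hf : ∀ t, f t = t ↔ t ∈ Set.range ι) (q : ℕ)
    (hq : Fintype.card F = q) (C : Subgroup (GL chevE6.Idx K))
    (hC : ∀ c ∈ C, c ∈ chevE6.group K ∧ Cfsg.Agent.S1080.Phi chevE6 f c = c) :
    (C ⊓ (chevE6.group F).map (Matrix.GeneralLinearGroup.map ι)).relIndex C ∣ Nat.gcd 3 (q - 1) := by
  set N : Subgroup (GL chevE6.Idx K) := (chevE6.group F).map (Matrix.GeneralLinearGroup.map ι) with hN
  set H0 : Subgroup (GL chevE6.Idx K) :=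
    (chevE6.diagonalSubgroup F).map (Matrix.GeneralLinearGroup.map ι) with hH0
  have hf' : ∀ t, f (ι t) = ι t := fun t => (hf (ι t)).2 ⟨t, rfl⟩
  have hinj : Function.Injective (Matrix.GeneralLinearGroup.map (n := chevE6.Idx) ι) :=
    Cfsg.Agent.Helper11.G2T.g2tmap_injective_gen ι chevE6
  have h0N : H0 ≤ N := Subgroup.map_mono (ghat_e6F F).diagonal_le_group
  have h0H : H0 ≤ ghatH f := by
    rintro _ ⟨z, hz, rfl⟩
    rw [mem_ghatH]
    exact ⟨Cfsg.Agent.Helper11.G2T.g2tmap_diagonal_gen ι chevE6 z hz,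
      Cfsg.Agent.Helper11.G2T.g2tmap_Phi_map_gen ι chevE6 f hf' z⟩
  have hnorm : ∀ h ∈ ghatH f, ∀ n ∈ N, h * n * h⁻¹ ∈ N := by
    rintro h hh _ ⟨z, hz, rfl⟩
    rw [mem_ghatH] at hh
    obtain ⟨z', hz', e⟩ := ghat_conj_map_gen (ghat_e6F F) (ghat_e6F K) ι f hf h hh.1 hh.2 z hz
    rw [e]
    exact ⟨z', hz', rfl⟩
  have hCdec : ∀ c ∈ C, ∃ n ∈ N, ∃ h ∈ ghatH f, c = n * h := by
    intro c hc
    obtain ⟨z, hz, h, hh, eh, rfl⟩ :=
      ghat_fix_form2_gen (ghat_e6F F) (ghat_e6F K) ι ghat_e6S f hf c (hC c hc).1 (hC c hc).2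
    exact ⟨_, ⟨z, hz, rfl⟩, h, (mem_ghatH f h).2 ⟨hh, eh⟩, rfl⟩
  have key := ghat_relIndex_dvd N (ghatH f) H0 C hnorm hCdec h0N
  refine dvd_trans key ?_
  -- `[Ĥ : H0]` divides `gcd(3, q - 1)`
  have hcard0 : Nat.card ↥H0 = Nat.card ↥(chevE6.diagonalSubgroup F) :=
    Subgroup.card_map_of_injective hinj
  have hS := Cfsg.Agent.S1035.result (F := F) (q := q) hq (chevE6, Nat.gcd 3 (q - 1)) (by simp)
  have hr : chevE6.rank = 6 := rfl
  simp only [hr] at hS
  have hdvd := ghat_card_dvd ι f hf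
  rw [hq] at hdvd
  have hmul : H0.relIndex (ghatH f) * Nat.card ↥H0 = Nat.card ↥(ghatH f) := by
    have h1 := Subgroup.relIndex_mul_relIndex (⊥ : Subgroup (GL chevE6.Idx K)) H0 (ghatH f) bot_le h0H
    rw [Subgroup.relIndex_bot_left, Subgroup.relIndex_bot_left] at h1
    rw [mul_comm]
    exact h1
  have hpos : 0 < Nat.card ↥H0 := by
    rw [hcard0]
    rcases Nat.eq_zero_or_pos (Nat.card ↥(chevE6.diagonalSubgroup F)) with h0 | h0
    · exfalso
      haveI : Finite (GL chevE6.Idx F) := inferInstance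
      exact (Nat.card_pos (α := ↥(chevE6.diagonalSubgroup F))).ne' h0
    · exact h0
  have h3 : H0.relIndex (ghatH f) * Nat.card ↥H0 ∣ Nat.gcd 3 (q - 1) * Nat.card ↥H0 := by
    rw [hmul, hcard0, hS]
    exact hdvd
  exact Nat.dvd_of_mul_dvd_mul_right hpos h3

end count

end Cfsg.Agent.E6T
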