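import Mathlib
import Cfsg.Agent.Lib.E6T.Asm
import Cfsg.Agent.Lib.E6T.MAP
import Cfsg.Agent.Lib.E6T.FIELD12
import Cfsg.Agent.Lib.E6T.CountCov
import Cfsg.Agent.Lib.E6Cov.Cov68

/-!
# S2373 (E6 torus), piece UPPER  (helper12; `cov68` of helper24 + `count_lt_cov`)

When `3 ∣ q - 1` the (conjugated) twisted torus is NOT contained in the image of `E₆(F)`: by `cov68` every element of the
twisted torus that is rational is the block of a torus element `A` of the simply connected cover inside `E₈(K)` with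
`n_w σ(A) n_w⁻¹ = A`, and there are at most `mq q / 3 < mq q = Nat.card (twTorus f w)` (thmC) such blocks (`count_lt_cov`).
-/

set_option autoImplicit false

namespace Cfsg.Agent.E6T

open Cfsg Cfsg.Lie Cfsg.Agent.Lead.Chev Cfsg.Agent.Lead.Tw

theorem upper {F : Type*} [Field F] [Fintype F] {K : Type*} [Field K] [Fintype K] (ι : F →+* K) (q : ℕ)
    (hF : Fintype.card F = q) (hq : 2 ≤ q) (hK : Fintype.card K = q ^ 12) (f : K ≃+* K)
    (hf : ∀ t, f t = t ^ q) (hfix : ∀ t, f t = t ↔ t ∈ Set.range ι) (h3 : 3 ∣ q - 1)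
    (g : GL chevE6.Idx K) (hg : g ∈ chevE6.group K) (t₁ : GL chevE6.Idx K)
    (ht₁ : t₁ ∈ chevE6.diagonalSubgroup K) (w : List ℕ) (hw : ∀ i ∈ w, i < 6)
    (en : g⁻¹ * sig f g = t₁ * nWordGL chevE6 (e6F K).xadd w)
    (hgood : ∃ M, IsGood M ∧ ActsM w M) :
    ¬ ∀ y ∈ twTorus f w, ∃ z ∈ chevE6.group F, g * y * g⁻¹ = mapGL ι z := by
  intro hall
  obtain ⟨M, hMg, hM⟩ := hgood
  obtain ⟨ζ, hζ⟩ := field12_root (K := K) q hq hK
  obtain ⟨-, hcard⟩ := thmC q hq hK ζ hζ f hf w hw ⟨M, hMg, hM⟩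
  have hfι : ∀ t, f (ι t) = ι t := fun t => (hfix _).2 ⟨t, rfl⟩
  have hK12 : 12 ≤ Fintype.card K := by
    rw [hK]
    calc 12 ≤ 2 ^ 12 := by norm_num
      _ ≤ q ^ 12 := Nat.pow_le_pow_left hq 12
  have hcount : 3 * Nat.card ((twTorus f w : Subgroup (GL chevE6.Idx K)) : Set (GL chevE6.Idx K)) ≤ mq q := by
    apply count_lt_cov q (by omega) hK h3 f hf w hw M hMg hM (Cfsg.Agent.Helper20.E8T.e8F K)
    intro y hy
    have hy' : y ∈ twTorus f w := hy
    obtain ⟨z, hz, ez⟩ := hall y hy'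
    have hyT : y ∈ chevE6.diagonalSubgroup K := hy'.1
    have e1 : g⁻¹ * Matrix.GeneralLinearGroup.map ι z * g = y := by
      have e2 : Matrix.GeneralLinearGroup.map ι z = g * y * g⁻¹ := ez.symm
      rw [e2]
      group
    obtain ⟨A, hAS, hAd, hres, hrel⟩ := Cfsg.Agent.E6Cov.cov68 hK12 ι f hfι (e6F F).xadd
      (Cfsg.Agent.Helper20.E8T.e8F F).xadd (e6F K) (Cfsg.Agent.Helper20.E8T.e8F K) g hg t₁ ht₁ w hw en z hz
      (by rw [e1]; exact hyT)
    refine ⟨A, hAS, hAd, ?_, hrel⟩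
    rw [hres, e1]
  have hpos := count_mq_pos q
  have hcard' : Nat.card ((twTorus f w : Subgroup (GL chevE6.Idx K)) : Set (GL chevE6.Idx K)) = mq q := hcard
  omega

end Cfsg.Agent.E6T
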