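import Mathlib
import Cfsg.Agent.Lib.E6T.Defs
import Cfsg.Agent.Lib.E6T.Asm
import Cfsg.Agent.Lib.E6T.AsmB
import Cfsg.Agent.Lib.E6T.MAP
import Cfsg.Agent.Lib.E6T.GhatC
import Cfsg.Agent.Lib.E6T.UPPER
import Cfsg.Agent.Lib.E6T.FIELD12
import Cfsg.Agent.Lib.E6T.ARITH12
import Cfsg.Agent.Lib.Helper28.G2TSYL
import Cfsg.Agent.S1063

/-!
# S2373: assembly, part 2 - the self-centralizing cyclic subgroup of order `Φ₁₂(q) Φ₃(q) / gcd(3, q - 1)` of `E₆(q)`
(helper13; clone of helper20's `Lib/Helper20/E8TMain.lean`)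

See plans/S2373_plan.md.  Differences with `E₈`: the group `E₆(F)` has index `gcd(3, q - 1)` in the group of fixed points
of the Frobenius map on `E₆(K)`, so the subgroup `H` (the preimage of the twisted torus under `z ↦ g⁻¹ ι(z) g`) only maps
onto a subgroup of index `d ∣ gcd(3, q - 1)` of the twisted torus (`ghat_index`, helper5), and `d = 3` when `3 ∣ q - 1`
(`upper`, helper24 + helper12).  The centralizer of `H` is computed with Theorem B for cubes.
-/

set_option autoImplicit false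
set_option linter.unusedSectionVars false
set_option linter.unusedSimpArgs false
set_option linter.unusedVariables false

namespace Cfsg.Agent.E6T

open Cfsg Cfsg.Lie Cfsg.Agent.Lead.Chev Cfsg.Agent.Lead.Tw

section Final

variable {F : Type*} [Field F] [Fintype F] {K : Type*} [Field K] [Fintype K]

/-- the conjugated embedding `z ↦ g⁻¹ ι(z) g` -/
noncomputable def psiHom (ι : F →+* K) (g : GL chevE6.Idx K) : ↥(chevE6.group F) →* GL chevE6.Idx K :=
  (MulAut.conj g⁻¹).toMonoidHom.comp ((mapGL ι).comp (chevE6.group F).subtype)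

theorem psiHom_apply (ι : F →+* K) (g : GL chevE6.Idx K) (z : ↥(chevE6.group F)) :
    psiHom ι g z = g⁻¹ * mapGL ι z.1 * g := by
  simp [psiHom, MulAut.conj_apply]

theorem psiHom_injective (ι : F →+* K) (g : GL chevE6.Idx K) : Function.Injective (psiHom ι g) := by
  intro a b hab
  rw [psiHom_apply, psiHom_apply] at hab
  have h1 : mapGL ι a.1 = mapGL ι b.1 := by
    have := congrArg (fun y => g * y * g⁻¹) hab
    simpa [mul_assoc] using this
  exact Subtype.ext (mapGL_injective ι h1)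

theorem psiHom_mem_group (ι : F →+* K) (g : GL chevE6.Idx K) (hg : g ∈ chevE6.group K) (z : ↥(chevE6.group F)) :
    psiHom ι g z ∈ chevE6.group K := by
  rw [psiHom_apply]
  exact mul_mem (mul_mem (inv_mem hg) (mapGL_group ι _ z.2)) hg

/-- an image `g⁻¹ ι(z) g` that lies in `T(K)` lies in the twisted torus -/
theorem main_mem_tw (ι : F →+* K) (f : K ≃+* K) (hfι : ∀ t, f (ι t) = ι t)
    (g : GL chevE6.Idx K) (t₁ : GL chevE6.Idx K) (ht₁ : t₁ ∈ chevE6.diagonalSubgroup K) (w : List ℕ)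
    (en : g⁻¹ * sig f g = t₁ * nWordGL chevE6 (e6F K).xadd w) (z : ↥(chevE6.group F))
    (hyT : psiHom ι g z ∈ chevE6.diagonalSubgroup K) : psiHom ι g z ∈ twTorus f w := by
  have hsg : sig f g = g * (t₁ * nWordGL chevE6 (e6F K).xadd w) := by rw [← en]; group
  set n := nWordGL chevE6 (e6F K).xadd w with hn
  rw [psiHom_apply] at hyT ⊢
  set y := g⁻¹ * mapGL ι z.1 * g with hy
  refine ⟨hyT, ?_⟩
  have hsy : sig f y = (sig f g)⁻¹ * mapGL ι z.1 * sig f g := by
    rw [hy, map_mul, map_mul, map_inv, sig_mapGL ι f hfι]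
  rw [hsy, hsg]
  have hc : t₁ * y = y * t₁ := (e6F K).diagonal_commute t₁ y ht₁ hyT
  calc n * ((g * (t₁ * n))⁻¹ * mapGL ι z.1 * (g * (t₁ * n))) * n⁻¹
      = t₁⁻¹ * (g⁻¹ * mapGL ι z.1 * g) * t₁ := by group
    _ = t₁⁻¹ * (y * t₁) := by rw [← hy]; group
    _ = y := by rw [← hc]; group

/-- the conjugate `g y g⁻¹` of an element of the twisted torus is a fixed point of the Frobenius map in `E₆(K)` -/
theorem main_tw_fixed (f : K ≃+* K) (g : GL chevE6.Idx K) (hg : g ∈ chevE6.group K) (t₁ : GL chevE6.Idx K)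
    (ht₁ : t₁ ∈ chevE6.diagonalSubgroup K) (w : List ℕ)
    (en : g⁻¹ * sig f g = t₁ * nWordGL chevE6 (e6F K).xadd w) (y : GL chevE6.Idx K) (hy : y ∈ twTorus f w) :
    g * y * g⁻¹ ∈ chevE6.group K ∧ sig f (g * y * g⁻¹) = g * y * g⁻¹ := by
  obtain ⟨htT, et⟩ := hy
  have hsg : sig f g = g * (t₁ * nWordGL chevE6 (e6F K).xadd w) := by rw [← en]; group
  set n := nWordGL chevE6 (e6F K).xadd w with hn
  have hyG : g * y * g⁻¹ ∈ chevE6.group K :=
    mul_mem (mul_mem hg ((e6F K).diagonal_le_group htT)) (inv_mem hg)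
  have hsy : sig f y = n⁻¹ * y * n := by
    calc sig f y = n⁻¹ * (n * sig f y * n⁻¹) * n := by group
      _ = n⁻¹ * y * n := by rw [et]
  have hc : t₁ * y = y * t₁ := (e6F K).diagonal_commute t₁ y ht₁ htT
  refine ⟨hyG, ?_⟩
  rw [map_mul, map_mul, map_inv, hsy, hsg]
  calc g * (t₁ * n) * (n⁻¹ * y * n) * (g * (t₁ * n))⁻¹ = g * (t₁ * y) * t₁⁻¹ * g⁻¹ := by group
    _ = g * y * g⁻¹ := by rw [hc]; group

theorem main_K (ι : F →+* K) (q : ℕ) (hF : Fintype.card F = q) (hq : 2 ≤ q)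
    (hK : Fintype.card K = q ^ 12) :
    ∃ H : Subgroup ↥(chevE6.group F), IsCyclic ↥H ∧ Nat.card ↥H = mq q / Nat.gcd 3 (q - 1) ∧
      Subgroup.centralizer (H : Set ↥(chevE6.group F)) = H := by
  obtain ⟨r, hr⟩ := arith12_exists q hq
  haveI : Fact r.Prime := ⟨hr.prime⟩
  have hr13 := arith12_ge q r hq hr
  obtain ⟨f, hf⟩ := field12_frob ι q hF
  have hfix : ∀ t, f t = t ↔ t ∈ Set.range ι := fun t => by
    rw [hf]; exact field12_fixed ι q hF t
  have hfι : ∀ t, f (ι t) = ι t := fun t => (hfix _).2 ⟨t, rfl⟩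
  obtain ⟨ζ, hζ⟩ := field12_root (K := K) q hq hK
  -- an element of order `r`
  have hdvd : r ∣ Nat.card ↥(chevE6.group F) :=
    arith12_dvd_card q r hq hr (Nat.gcd 3 (q - 1)) _ (Nat.gcd_dvd_left _ _) (Cfsg.Agent.S1063.result hF)
  obtain ⟨x₀, hx₀⟩ := exists_prime_orderOf_dvd_card' r hdvd
  -- its image in `E₆(K)`
  have hxG : mapGL ι x₀.1 ∈ chevE6.group K := mapGL_group ι _ x₀.2
  have hinj : Function.Injective ((mapGL ι).comp (chevE6.group F).subtype) :=
    (mapGL_injective ι).comp Subtype.val_injective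
  have hxo : orderOf (⟨mapGL ι x₀.1, hxG⟩ : ↥(chevE6.group K)) = r := by
    rw [← hx₀, ← orderOf_injective _ hinj x₀, ← Subgroup.orderOf_coe]
    rfl
  -- Sylow
  have hcardT : Nat.card ((chevE6.diagonalSubgroup K).subgroupOf (chevE6.group K)) =
      Nat.card (chevE6.diagonalSubgroup K) :=
    Nat.card_congr (Subgroup.subgroupOfEquivOfLe (e6F K).diagonal_le_group).toEquiv
  have hfact : (Nat.card ↥(chevE6.group K)).factorization r =
      (Nat.card ((chevE6.diagonalSubgroup K).subgroupOf (chevE6.group K))).factorization r := by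
    rw [hcardT]
    refine arith12_hfact q r hq hr (Nat.gcd 3 (q ^ 12 - 1)) _ _ (Nat.gcd_dvd_left _ _) ?_ ?_
    · have := Cfsg.Agent.S1063.result (F := K) (q := q ^ 12) hK
      exact this
    · have := card_torus (K := K)
      rw [hK] at this
      exact this
  obtain ⟨g, hgT⟩ := Cfsg.Agent.Helper11.G2T.syl_conj
    ((chevE6.diagonalSubgroup K).subgroupOf (chevE6.group K)) r hr.prime hfact
    ⟨mapGL ι x₀.1, hxG⟩ hxo
  rw [Subgroup.mem_subgroupOf] at hgT
  set h : GL chevE6.Idx K := g.1⁻¹ * mapGL ι x₀.1 * g.1 with hdef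
  have hh : h ∈ chevE6.diagonalSubgroup K := hgT
  have hxr : mapGL ι x₀.1 ^ r = 1 := by
    rw [← map_pow, ← SubgroupClass.coe_pow, ← hx₀, pow_orderOf_eq_one]
    simp
  have hr1 : h ^ r = 1 := by
    rw [hdef, show g.1⁻¹ * mapGL ι x₀.1 * g.1 = g.1⁻¹ * mapGL ι x₀.1 * g.1⁻¹⁻¹ by rw [inv_inv],
      conj_pow, hxr]
    group
  have hne : h ≠ 1 := by
    intro h1
    have hx1 : mapGL ι x₀.1 = 1 := by
      have : mapGL ι x₀.1 = g.1 * h * g.1⁻¹ := by rw [hdef]; group
      rw [this, h1]; group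
    have : x₀ = 1 := hinj (by simpa using hx1)
    rw [this, orderOf_one] at hx₀
    exact hr.prime.one_lt.ne hx₀
  -- the element `g⁻¹ σ(g)`
  have hsx : sig f (mapGL ι x₀.1) = mapGL ι x₀.1 := sig_mapGL ι f hfι x₀.1
  have hn'G : g.1⁻¹ * sig f g.1 ∈ chevE6.group K := mul_mem (inv_mem g.2) (sig_group f g.1 g.2)
  have e : g.1⁻¹ * sig f g.1 * sig f h = h * (g.1⁻¹ * sig f g.1) := by
    rw [hdef, map_mul, map_mul, map_inv, hsx]
    group
  obtain ⟨t₁, ht₁, w, hw, en, hgood, hreg, e1⟩ := thmA q r hq hr f hf h hh hr1 hne _ hn'G e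
  obtain ⟨hcyc, hcard⟩ := thmC q hq hK ζ hζ f hf w hw hgood
  have hhtw : h ∈ twTorus f w := ⟨hh, e1⟩
  -- the subgroup
  set H : Subgroup ↥(chevE6.group F) := (twTorus f w).comap (psiHom ι g.1) with hH
  let φ : ↥H →* ↥(twTorus f w) :=
    { toFun := fun z => ⟨psiHom ι g.1 z.1, z.2⟩
      map_one' := Subtype.ext (map_one _)
      map_mul' := fun a b => Subtype.ext (map_mul _ _ _) }
  have hφ : Function.Injective φ := by
    intro a b hab
    apply Subtype.ext
    exact psiHom_injective ι g.1 (congrArg Subtype.val hab)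
  have := hcyc
  have hHcyc : IsCyclic ↥H := isCyclic_of_injective φ hφ
  -- the image of `φ` and its index
  set R : Subgroup ↥(twTorus f w) := φ.range with hR
  have hRcard : Nat.card ↥R = Nat.card ↥H :=
    (Nat.card_congr (MonoidHom.ofInjective hφ).toEquiv).symm
  have hRidx : Nat.card ↥R * R.index = mq q := by
    rw [Subgroup.card_mul_index, hcard]
  -- the conjugated twisted torus inside the group of fixed points
  set C : Subgroup (GL chevE6.Idx K) := (twTorus f w).map (MulAut.conj g.1).toMonoidHom with hCdef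
  set GF : Subgroup (GL chevE6.Idx K) := (chevE6.group F).map (mapGL ι) with hGF
  have hCmem : ∀ c ∈ C, ∃ y ∈ twTorus f w, c = g.1 * y * g.1⁻¹ := by
    intro c hc
    rw [hCdef, Subgroup.mem_map] at hc
    obtain ⟨y, hy, rfl⟩ := hc
    exact ⟨y, hy, by simp [MulAut.conj_apply]⟩
  have hCfix : ∀ c ∈ C, c ∈ chevE6.group K ∧ Cfsg.Agent.S1080.Phi chevE6 f c = c := by
    intro c hc
    obtain ⟨y, hy, rfl⟩ := hCmem c hc
    exact main_tw_fixed f g.1 g.2 t₁ ht₁ w en y hy
  have hidx := ghat_index ι f hfix q hF C hCfix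
  have hCcard : Nat.card ↥C = mq q := by
    rw [← hcard]
    exact (Nat.card_congr ((twTorus f w).equivMapOfInjective (MulAut.conj g.1).toMonoidHom
      (MulAut.conj g.1).injective).toEquiv).symm
  -- `H ≃ C ⊓ GF`
  have hHC : Nat.card ↥H = Nat.card ↥(C ⊓ GF) := by
    refine Nat.card_congr (Equiv.ofBijective
      (fun z : ↥H => (⟨mapGL ι z.1.1, ?_⟩ : ↥(C ⊓ GF))) ⟨?_, ?_⟩)
    · refine Subgroup.mem_inf.2 ⟨?_, Subgroup.mem_map.2 ⟨z.1.1, z.1.2, rfl⟩⟩
      refine Subgroup.mem_map.2 ⟨psiHom ι g.1 z.1, z.2, ?_⟩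
      rw [psiHom_apply]
      simp [MulAut.conj_apply, mul_assoc]
    · intro a b hab
      have h1 : mapGL ι a.1.1 = mapGL ι b.1.1 := congrArg Subtype.val hab
      exact Subtype.ext (Subtype.ext (mapGL_injective ι h1))
    · rintro ⟨c, hcC, hcG⟩
      obtain ⟨y, hy, hcy⟩ := hCmem c hcC
      obtain ⟨z₀, hz₀, hz₀c⟩ := Subgroup.mem_map.1 hcG
      have hzH : (⟨z₀, hz₀⟩ : ↥(chevE6.group F)) ∈ H := by
        rw [hH, Subgroup.mem_comap, psiHom_apply]
        show g.1⁻¹ * mapGL ι z₀ * g.1 ∈ twTorus f w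
        rw [hz₀c, hcy]
        have : g.1⁻¹ * (g.1 * y * g.1⁻¹) * g.1 = y := by group
        rw [this]
        exact hy
      exact ⟨⟨⟨z₀, hz₀⟩, hzH⟩, Subtype.ext hz₀c⟩
  have hCidx : Nat.card ↥(C ⊓ GF) * (C ⊓ GF).relIndex C = mq q := by
    rw [← hCcard, Subgroup.relIndex, ← Subgroup.card_mul_index ((C ⊓ GF).subgroupOf C)]
    congr 1
    exact (Nat.card_congr (Subgroup.subgroupOfEquivOfLe inf_le_left).toEquiv).symm
  have hHpos : 0 < Nat.card ↥H := Nat.card_pos
  -- the index of `R` is the relative index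
  have hRd : R.index = (C ⊓ GF).relIndex C := by
    have h1 : Nat.card ↥H * R.index = Nat.card ↥H * (C ⊓ GF).relIndex C := by
      rw [← hRcard, hRidx, hRcard, hHC, hCidx]
    exact Nat.eq_of_mul_eq_mul_left hHpos h1
  have hRdvd : R.index ∣ Nat.gcd 3 (q - 1) := hRd ▸ hidx
  have hR3 : R.index ∣ 3 := hRdvd.trans (Nat.gcd_dvd_left _ _)
  have hHidx : Nat.card ↥H * R.index = mq q := by rw [← hRcard]; exact hRidx
  refine ⟨H, hHcyc, ?_, ?_⟩
  · -- the order
    have hg3 : Nat.gcd 3 (q - 1) = 1 ∨ Nat.gcd 3 (q - 1) = 3 :=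
      (Nat.dvd_prime Nat.prime_three).1 (Nat.gcd_dvd_left _ _)
    rcases hg3 with hg1 | hg3
    · rw [hg1, Nat.div_one]
      rw [hg1, Nat.dvd_one] at hRdvd
      rw [hRdvd, mul_one] at hHidx
      exact hHidx
    · rw [hg3]
      have h3q : 3 ∣ q - 1 := by
        have := Nat.gcd_dvd_right 3 (q - 1)
        rwa [hg3] at this
      rcases (Nat.dvd_prime Nat.prime_three).1 hR3 with hd1 | hd3
      · exfalso
        -- `R = ⊤`, so the whole twisted torus is rational
        have hRtop : R = ⊤ := Subgroup.index_eq_one.1 hd1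
        apply upper ι q hF hq hK f hf hfix h3q g.1 g.2 t₁ ht₁ w hw en hgood
        intro y hy
        have hyR : (⟨y, hy⟩ : ↥(twTorus f w)) ∈ R := by rw [hRtop]; exact Subgroup.mem_top _
        obtain ⟨z, hz⟩ := hyR
        refine ⟨z.1.1, z.1.2, ?_⟩
        have h1 : psiHom ι g.1 z.1 = y := congrArg Subtype.val hz
        rw [psiHom_apply] at h1
        rw [← h1]
        group
      · rw [hd3] at hHidx
        exact (Nat.div_eq_of_eq_mul_left (by norm_num) hHidx.symm).symm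
  · apply le_antisymm
    · intro c hc
      rw [Subgroup.mem_centralizer_iff] at hc
      -- `ψ(c)` commutes with the cubes of the twisted torus
      have hcomm : ∀ a ∈ twTorus f w, psiHom ι g.1 c * a ^ 3 = a ^ 3 * psiHom ι g.1 c := by
        intro a ha
        -- `a ^ 3 ∈ R`
        letI := hcyc.commGroup
        haveI : R.Normal := Subgroup.normal_of_comm R
        have h1 : (⟨a, ha⟩ : ↥(twTorus f w)) ^ R.index ∈ R := Subgroup.pow_index_mem R _
        have h3 : (⟨a, ha⟩ : ↥(twTorus f w)) ^ 3 ∈ R := by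
          obtain ⟨k, hk⟩ := hR3
          rw [hk, pow_mul]
          exact pow_mem h1 k
        obtain ⟨z, hz⟩ := h3
        have hz' : psiHom ι g.1 z.1 = a ^ 3 := congrArg Subtype.val hz
        have h4 := hc z.1 z.2
        rw [← hz', ← map_mul, ← map_mul, h4]
      have hyT : psiHom ι g.1 c ∈ chevE6.diagonalSubgroup K :=
        thmB_cube q hq hK ζ hζ f hf w hw hgood h hhtw hreg r hr.prime.one_lt
          ((Nat.coprime_primes Nat.prime_three hr.prime).2 (by omega)) hr1 _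
          (psiHom_mem_group ι g.1 g.2 c) hcomm
      rw [hH, Subgroup.mem_comap]
      exact main_mem_tw ι f hfι g.1 t₁ ht₁ w en c hyT
    · intro c hc
      rw [Subgroup.mem_centralizer_iff]
      intro a ha
      letI := hHcyc.commGroup
      have := mul_comm (⟨a, ha⟩ : ↥H) ⟨c, hc⟩
      exact congrArg Subtype.val this

end Final

end Cfsg.Agent.E6T
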